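import Cfsg.Agent.MCE.L4

/-! Basic facts on the data of a non-normal essential subgroup. -/

set_option autoImplicit false
set_option linter.unusedSectionVars false

namespace Cfsg.Lib.MCE

open Cfsg Cfsg.FusionSystem Subgroup Cfsg.Lib.Solv Cfsg.Lib.Fus Cfsg.Lib.Fus.Ess Cfsg.Lib.Grz
open scoped commutatorElement

universe u

variable {G : Type u} [Group G] {p m k a b l : ℕ} [Finite G] [hp : Fact p.Prime] {E : Subgroup G}
  {A B : Subgroup (MulAut E)} {Γ : Subgroup (MulAut (lay G 0))} {z : G} {g : MulAut E} {f : G → G}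

theorem D0.cen (D : Dat p m E A B Γ) {v : G} (hv : v ∈ lay G m) (y : G) : y * v = v * y :=
  mem_center_iff.1 ((center_eq D.mc D.two).ge hv) y

theorem Dat.center_le (D : Dat p m E A B Γ) : lay G m ≤ omz p E := fun _ hv =>
  ⟨D.cent (mem_centralizer_iff.2 fun y _ => D0.cen D hv y),
    mem_bot.1 ((lay_eq_bot D.mc D.two le_rfl).le (pow_mem_succ D.mc D.two hv)),
    fun y _ => (D0.cen D hv y).symm⟩

theorem Dat.norm_le (D : Dat p m E A B Γ) : normalizer (E : Set G) ≤ lay G 0 := fun s hs =>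
  by_contra fun n => D.nn <| by
    obtain ⟨k, -, e⟩ := eq_lay_of_norm D.mc D.two (D.center_le.trans omz_le) D.le n
      fun x hx => (mem_normalizer_iff.1 hs x).1 hx
    rw [e]
    infer_instance

theorem Dat.not_comm (D : Dat p m E A B Γ) : ¬ IsMulCommutative (lay G 0) := fun c => D.nn <| by
  rw [le_antisymm D.le fun x hx => D.cent (mem_centralizer_iff.2 fun y hy =>
    congrArg Subtype.val (c.is_comm.comm ⟨y, D.le hy⟩ ⟨x, hx⟩))]
  infer_instance

theorem Dat.three (D : Dat p m E A B Γ) : 3 ≤ m := by_contra fun n =>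
  D.not_comm (comm_of_small D.mc D.two (.inr (by have := D.two; omega)))

theorem Dat.conj_mem (D : Dat p m E A B Γ) :
    ∀ b ∈ B, ∀ t ∈ autInducedBy ⊤ E, b * t * b⁻¹ ∈ autInducedBy ⊤ E := fun b hb t ht => by
  obtain ⟨γ, -, e⟩ := D.ext b hb
  obtain ⟨y, -, hy⟩ := mem_autInducedBy_pext.1 ht
  have yN := mem_normalizer_of_pext hy
  have y0 := D.norm_le yN
  refine mem_autInducedBy_pext.2 ⟨pext _ γ y, mem_top _, fun x hx => ?_⟩
  have h1 := pext_mem b⁻¹ hx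
  rw [pext_mul, pext_mul, hy _ h1, ← e _ ((mem_normalizer_iff.1 yN _).1 h1),
    mulOn_pext γ _ (mul_mem y0 (D.le h1)) _ (inv_mem y0), mulOn_pext γ _ y0 _ (D.le h1), e _ h1,
    pext_pext_inv, (mulOn_pext γ).map_inv y0]

theorem Dat.pelt (D : Dat p m E A B Γ) (hg : g ∈ B) {n : ℕ} (e : g ^ p ^ n = 1) :
    g ∈ autInducedBy ⊤ E :=
  (D.sylA.mono D.leB D.lt.le).le_of_normalizes (zpowers_le.2 hg) (isPGroup_zpowers_of_pow e)
    (zpowers_le.2 (mem_normalizer_of_finite (D.conj_mem g hg))) (mem_zpowers g)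

theorem Dat.fuse' (D : Dat p m E A B Γ) (hg : g ∈ A) {t : MulAut E} (ht : t ∈ autInducedBy ⊤ E)
    (ht' : t ∉ Inn E) (e : g * t * g⁻¹ ∈ B) : g ∈ B := by
  obtain ⟨n, hn⟩ := D.sylA.pgroup ⟨t, ht⟩
  refine D.fuse g hg t ht ht' (D.pelt e (n := n) ?_)
  rw [conj_pow, show t ^ p ^ n = 1 from congrArg Subtype.val hn, mul_one, mul_inv_cancel]

omit [Finite G] hp in
theorem D0.inn (D : Dat p m E A B Γ) {y : G} (hy : y ∈ normalizer (E : Set G))
    (e : conjAut E y hy ∈ Inn E) : y ∈ E := by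
  obtain ⟨c, hc, h⟩ := mem_inn_pext.1 e
  refine (mul_mem_cancel_left (inv_mem hc)).1 (D.cent (mem_centralizer_iff.2 fun x hx => ?_))
  calc x * (c⁻¹ * y) = c⁻¹ * (c * x * c⁻¹) * y := by group
    _ = c⁻¹ * y * x := by rw [← h x hx, pext_conjAut hy hx]; group

theorem Dat.mem_inn (D : Dat p m E A B Γ) {K : Subgroup (MulAut E)} (hK : K ≤ B)
    (hn : ∀ a ∈ A, ∀ x ∈ K, a * x * a⁻¹ ∈ K) {y : G} (hy : y ∈ normalizer (E : Set G))
    (e : conjAut E y hy ∈ K) : y ∈ E :=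
  D0.inn D hy (by_contra fun n => D.lt.not_ge fun a ha =>
    D.fuse' ha (conjAut_mem_autInducedBy (mem_top y) hy) n (hK (hn a ha _ e)))

theorem Dat.exists_min (D : Dat p m E A B Γ) : ∃ A' B' : Subgroup (MulAut E),
    Dat p m E A' B' Γ ∧ ((∀ α ∈ A', ZI m α) ∨ ∀ α ∈ A', ZI m α → α ∈ B') := by
  obtain ⟨A', ⟨h1, h2, h3⟩, mn⟩ := exists_minimal_of_wellFoundedLT
    (fun A' => autInducedBy ⊤ E ≤ A' ∧ A' ≤ A ∧ ¬ A' ≤ B) ⟨A, D.sylA.le, le_rfl, D.lt.not_ge⟩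
  have hZ := D.center_le.trans omz_le
  refine ⟨A', B ⊓ A', ⟨D.mc, D.five, D.two, D.le, D.nn, D.cent, D.sylA.mono h1 h2, D.sylΓ,
    le_inf D.leB h1, inf_le_right.lt_of_not_ge fun e => h3 (e.trans inf_le_left),
    fun g hg t ht ht' e => mem_inf.2 ⟨D.fuse g (h2 hg) t ht ht' e, hg⟩,
    fun b hb => D.ext b (mem_inf.1 hb).1⟩, ?_⟩
  by_cases e : A' ⊓ stabAut E (lay G m) ≤ B
  · exact .inr fun α ha hz => mem_inf.2 ⟨e (mem_inf.2 ⟨ha, mem_stabAut_of_maps hZ hz⟩), ha⟩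
  refine .inl fun α ha v hv => ((mem_inf.1 (mn ⟨le_inf h1 fun t ht => ?_, inf_le_left.trans h2, e⟩
    inf_le_left ha)).2 v).2 hv
  obtain ⟨y, -, hy⟩ := mem_autInducedBy_pext.1 ht
  exact mem_stabAut_of_maps hZ fun x hx => hy x (hZ hx) ▸ (lay_normal m).conj_mem x hx y

theorem Dat.cW (D : Dat p m E A B Γ) (hN : ∀ α ∈ A, ZI m α → α ∈ B) :
    ∀ y, (∀ v ∈ omz p E, y * v = v * y) → y ∈ E := fun y hy => by_contra fun n => by
  obtain ⟨x, h1, h2, h3⟩ := exists_mem_normalizer_of_lt (P := E)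
    (D.mc.pg.to_subgroup (centralizer (omz p E))) (lt_of_le_not_ge
      (fun x hx => mem_centralizer_iff.2 fun v hv => omz_comm hv hx)
      fun e => n (e (mem_centralizer_iff.2 fun v hv => (hy v hv).symm)))
  refine h3 (D.mem_inn (K := A ⊓ fixAut E (omz p E)) (fun α ha => hN α (mem_inf.1 ha).1
    fun v hv => ((mem_inf.1 ha).2 v (D.center_le hv)).symm ▸ hv) (fun a ha x hx => mem_inf.2
      ⟨mul_mem (mul_mem ha (mem_inf.1 hx).1) (inv_mem ha), conj_mem_fixAut (mem_stabAut_of_maps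
        omz_le fun v hv => pext_mem_omz a hv) (mem_inf.1 hx).2⟩) h2
    (mem_inf.2 ⟨D.sylA.le (conjAut_mem_autInducedBy (mem_top x) h2), fun v hv => ?_⟩))
  rw [pext_conjAut h2 (omz_le hv), ← mem_centralizer_iff.1 h1 v hv, mul_inv_cancel_right]

theorem Dat.cg (D : Dat p m E A B Γ) (hN : ∀ α ∈ A, ZI m α → α ∈ B) (hg : g ∈ A) (hg' : g ∉ B) :
    ∀ v ∈ lay G m, v ≠ 1 → ∀ y, y * pext E g v = pext E g v * y → y ∈ E :=
    fun v hv v1 y hy => by_contra fun n => by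
  have hw := pext_mem_omz g (D.center_le hv)
  obtain ⟨x, h1, h2, h3⟩ := exists_mem_normalizer_of_lt (P := E)
    (D.mc.pg.to_subgroup (centralizer {pext E g v})) (lt_of_le_not_ge
      (fun x hx => mem_centralizer_singleton_iff.2 (omz_comm hw hx).symm)
      fun e => n (e (mem_centralizer_singleton_iff.2 hy)))
  have hc := conjAut_mem_autInducedBy (mem_top x) h2
  refine hg' ((inv_mem_iff (H := B)).1 (D.fuse' (inv_mem hg) hc (mt (D0.inn D h2) h3)
    (hN _ (mul_mem (mul_mem (inv_mem hg) (D.sylA.le hc)) (inv_mem (inv_mem hg))) fun u hu => ?_)))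
  have b := lay_eq_bot D.mc D.two (le_refl (m + 1))
  have := (Wg.sup D.mc D.two ⟨hv, fun e => v1 (mem_bot.1 (b.le e))⟩).ge hu
  rw [b, bot_sup_eq] at this
  obtain ⟨k, rfl⟩ := this
  rwa [(mulOn_pext _).map_zpow (omz_le (D.center_le hv)), inv_inv, pext_mul, pext_mul,
    pext_conjAut h2 hw.1, mem_centralizer_singleton_iff.1 h1, mul_inv_cancel_right, pext_inv_pext]

end Cfsg.Lib.MCE
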