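import Cfsg.Agent.MCE.Defs

/-! Automorphisms induced on a quotient. -/

set_option autoImplicit false

namespace Cfsg.Lib.MCE

open Cfsg Cfsg.FusionSystem Subgroup Cfsg.Lib.Solv Cfsg.Lib.Fus Cfsg.Lib.Fus.Ess Cfsg.Lib.Grz
open scoped commutatorElement

universe u

section D
variable {G : Type u} [Group G]

theorem exists_quoAut {H : Type*} [Group H] (φ : G →* H) {X : Subgroup G}
    {K : Subgroup (MulAut X)} (hX : φ.ker ≤ X) (hK : ∀ α ∈ K, ∀ v ∈ φ.ker, pext X α v ∈ φ.ker)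
    {X' : Subgroup H} (hX' : X' = X.map φ) :
    ∃ θ : K →* MulAut X', ∀ α : K, ∀ x ∈ X, pext X' (θ α) (φ x) = φ (pext X α.1 x) := by
  subst hX'
  have hker : ∀ x : X, x ∈ (φ.subgroupMap X).ker ↔ (x : G) ∈ φ.ker := fun x => by
    rw [MonoidHom.mem_ker, MonoidHom.mem_ker, Subtype.ext_iff]; rfl
  have hY : AInv K (φ.subgroupMap X).ker := fun a ha x hx => by
    rw [hker, ← pext_coe]
    exact hK a ha x ((hker x).1 hx)
  let e := QuotientGroup.quotientKerEquivOfSurjective (φ.subgroupMap X)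
    (φ.subgroupMap_surjective X)
  have he : ∀ x : X, e (QuotientGroup.mk x) = φ.subgroupMap X x := fun x => rfl
  refine ⟨(MulAut.congr e).toMonoidHom.comp (quoHom hY), fun α x hx => ?_⟩
  rw [pext_of_mem _ (mem_map_of_mem φ hx), pext_of_mem _ hx]
  have h1 : (⟨φ x, mem_map_of_mem φ hx⟩ : X.map φ) = e (QuotientGroup.mk ⟨x, hx⟩) := rfl
  rw [h1]
  change (e (quoHom hY α (e.symm (e _))) : H) = _
  rw [MulEquiv.symm_apply_apply, quoHom_mk, he]
  rfl

namespace D2a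

theorem map_ind {H : Type*} [Group H] (φ : G →* H) {X : Subgroup G} {K : Subgroup (MulAut X)}
    (hX : φ.ker ≤ X) (θ : K →* MulAut (X.map φ))
    (hθ : ∀ α : K, ∀ x ∈ X, pext (X.map φ) (θ α) (φ x) = φ (pext X α.1 x)) (L : Subgroup G)
    (hT : autInducedBy L X ≤ K) :
    ((autInducedBy L X).subgroupOf K).map θ = autInducedBy (L.map φ) (X.map φ) := by
  apply le_antisymm
  · rintro _ ⟨α, hα, rfl⟩
    obtain ⟨y, hy, e⟩ := mem_autInducedBy_pext.1 (mem_subgroupOf.1 hα)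
    refine mem_autInducedBy_pext.2 ⟨φ y, mem_map_of_mem φ hy, ?_⟩
    rintro _ ⟨x, hx, rfl⟩
    rw [hθ α x hx, e x hx, map_mul, map_mul, map_inv]
  · intro β hβ
    obtain ⟨_, ⟨y, hy, rfl⟩, e⟩ := mem_autInducedBy_pext.1 hβ
    have h1 := mem_normalizer_of_pext e
    have h2 : ∀ x, φ x ∈ X.map φ ↔ x ∈ X := fun x => by
      rw [← mem_comap, comap_map_eq_self hX]
    have hN : y ∈ normalizer (X : Set G) := mem_normalizer_iff.2 fun x => by
      rw [← h2, ← h2, map_mul, map_mul, map_inv]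
      exact mem_normalizer_iff.1 h1 _
    have hm := conjAut_mem_autInducedBy hy hN
    refine ⟨⟨conjAut X y hN, hT hm⟩, mem_subgroupOf.2 hm, aut_ext_pext ?_⟩
    rintro _ ⟨x, hx, rfl⟩
    rw [hθ _ x hx, e _ (mem_map_of_mem φ hx), pext_conjAut hN hx, map_mul, map_mul, map_inv]

end D2a

theorem map_quoAut {H : Type*} [Group H] (φ : G →* H) (hφ : Function.Surjective φ)
    {X : Subgroup G} {K : Subgroup (MulAut X)} (hX : φ.ker ≤ X) {X' : Subgroup H}
    (hX' : X' = X.map φ) (θ : K →* MulAut X')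
    (hθ : ∀ α : K, ∀ x ∈ X, pext X' (θ α) (φ x) = φ (pext X α.1 x))
    (hT : autInducedBy ⊤ X ≤ K) :
    ((autInducedBy ⊤ X).subgroupOf K).map θ = autInducedBy ⊤ X' ∧
      ((Inn X).subgroupOf K).map θ = Inn X' := by
  subst hX'
  constructor
  · rw [D2a.map_ind φ hX θ hθ ⊤ hT, map_top_of_surjective φ hφ]
  · rw [← autInducedBy_self, ← autInducedBy_self]
    exact D2a.map_ind φ hX θ hθ X ((autInducedBy_mono le_top).trans hT)
end D

end Cfsg.Lib.MCE
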