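import Cfsg.Agent.MCE.D0
import Cfsg.Agent.MCE.D2a
import Cfsg.Agent.Fus.EssBridge

/-! Passing to the quotient by the centre. -/

set_option autoImplicit false
set_option linter.unusedSectionVars false

namespace Cfsg.Lib.MCE

open Cfsg Cfsg.FusionSystem Subgroup Cfsg.Lib.Solv Cfsg.Lib.Fus Cfsg.Lib.Fus.Ess Cfsg.Lib.Grz
open scoped commutatorElement

universe u

variable {G : Type u} [Group G] {p m : ℕ} [Finite G] [hp : Fact p.Prime] {E : Subgroup G}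
  {A B : Subgroup (MulAut E)} {Γ : Subgroup (MulAut (lay G 0))}

theorem D2b.le_B (D : Dat p m E A B Γ) (hZ : ∀ α ∈ A, ZI m α) {K : Subgroup (MulAut E)} (hK : K ≤ A)
    (hn : ∀ a ∈ A, ∀ x ∈ K, a * x * a⁻¹ ∈ K) (e : ∀ α ∈ K, ∀ x ∈ E, x⁻¹ * pext E α x ∈ lay G m) :
    K ≤ B := fun k hk => by
  have hZE : lay G m ≤ E := D.center_le.trans omz_le
  have st : ∀ a ∈ A, a ∈ stabAut E (lay G m) := fun a ha => mem_stabAut_of_maps hZE (hZ a ha)
  have h1 : K ⊓ fixAut E (lay G m) ≤ autInducedBy ⊤ E := by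
    refine D.sylA.le_of_le_normalizer (inf_le_left.trans hK)
      ((isPGroup_chainSub (D.mc.pg.to_subgroup E) (bot_le (a := (lay G m).subgroupOf E))).to_le
        fun β hβ => mem_chainSub.2 ⟨fun x _ => ?_, triv_bot_iff.2 fun x hx => Subtype.ext ?_,
          triv_bot_iff.2 fun x hx => by rw [mem_bot.1 hx, map_one]⟩)
      fun t ht => mem_normalizer_fintype fun x hx =>
        ⟨hn t (D.sylA.le ht) x hx.1, conj_mem_fixAut (st t (D.sylA.le ht)) hx.2⟩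
    · simpa [mem_subgroupOf] using e β hβ.1 x x.2
    · simpa using hβ.2 x hx
  obtain ⟨y, -, hy, hyE⟩ := exists_mem_normalizer_of_lt (D.mc.pg.to_subgroup ⊤)
    (lt_top_iff_ne_top.2 fun e : E = ⊤ => D.nn (e ▸ inferInstance))
  have ht : conjAut E y hy ∈ autInducedBy ⊤ E :=
    mem_autInducedBy_pext.2 ⟨y, trivial, fun x hx => pext_conjAut hy hx⟩
  have hf : conjAut E y hy ∈ fixAut E (lay G m) := fun x hx => by
    rw [pext_conjAut hy (hZE hx), D0.cen D hx y, mul_inv_cancel_right]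
  refine D.fuse k (hK hk) _ ht (fun n => hyE (D0.inn D hy n)) ((mul_mem_cancel_right (inv_mem ht)).1
    (h1 ⟨?_, (fixAut _ _).mul_mem (conj_mem_fixAut (st k (hK hk)) hf) ((fixAut _ _).inv_mem hf)⟩))
  rw [mul_assoc k, mul_assoc k]
  exact mul_mem hk (hn _ (D.sylA.le ht) _ (inv_mem hk))

theorem Dat.quot (D : Dat p (m + 1) E A B Γ) (hZ : ∀ α ∈ A, ZI (m + 1) α) :
    ∃ (E' : Subgroup (G ⧸ gam G (m + 1))) (A' B' : Subgroup (MulAut E'))
      (Γ' : Subgroup (MulAut (lay (G ⧸ gam G (m + 1)) 0))), Dat p m E' A' B' Γ' := by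
  have h3 := D.three
  have hs := QuotientGroup.mk'_surjective (gam G (m + 1))
  have hk : (QuotientGroup.mk' (gam G (m + 1))).ker = lay G (m + 1) := by
    rw [QuotientGroup.ker_mk', lay_succ]
  have hL : lay (G ⧸ gam G (m + 1)) 0 = (lay G 0).map (QuotientGroup.mk' (gam G (m + 1))) := by
    ext x
    obtain ⟨x, rfl⟩ := hs x
    rw [← mem_comap (K := map _ _), comap_map_eq_self (hk.trans_le (lay_anti (Nat.zero_le _))),
      lay_zero, lay_zero]
    exact mem_twoStep_quot (by omega)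
  have hq := D.mc.quot
  generalize QuotientGroup.mk' (gam G (m + 1)) = φ at hs hk hL
  have hZE : lay G (m + 1) ≤ E := D.center_le.trans omz_le
  have hTA := D.sylA.le
  obtain ⟨θ, hθ⟩ := exists_quoAut φ (K := A) (hk.trans_le hZE) (hk ▸ hZ) rfl
  obtain ⟨θ', hθ'⟩ := exists_quoAut φ (K := Γ ⊓ stabAut (lay G 0) (lay G (m + 1)))
    (hk.trans_le (hZE.trans D.le)) (fun α hα v hv => hk ▸ (hα.2 v).2 (hk ▸ hv)) hL
  have hT0 : T0 G ≤ Γ ⊓ stabAut (lay G 0) (lay G (m + 1)) := le_inf D.sylΓ.le fun t ht => by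
    obtain ⟨g, -, e⟩ := mem_autInducedBy_pext.1 ht
    exact mem_stabAut_of_maps (hZE.trans D.le) fun x hx => by
      rw [e x (D.le (hZE hx))]; exact (lay_normal _).conj_mem x hx g
  obtain ⟨m1, m2⟩ := map_quoAut φ hs (hk.trans_le hZE) rfl θ hθ hTA
  have kc : ∀ α : A, θ α = 1 ↔ ∀ x ∈ E, x⁻¹ * pext E α.1 x ∈ lay G (m + 1) := fun α => by
    rw [← hk]
    refine ⟨fun e x hx => ?_, fun e => aut_ext_pext ?_⟩
    · rw [MonoidHom.mem_ker, map_mul, ← hθ α x hx, e, pext_one, map_inv, inv_mul_cancel]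
    · rintro _ ⟨x, hx, rfl⟩
      have := e x hx
      rw [MonoidHom.mem_ker, map_mul, map_inv, inv_mul_eq_one] at this
      rw [hθ α x hx, pext_one, ← this]
  have hn : ∀ a ∈ A, ∀ x ∈ θ.ker.map A.subtype, a * x * a⁻¹ ∈ θ.ker.map A.subtype := by
    rintro a ha _ ⟨x, hx, rfl⟩
    exact ⟨_, θ.normal_ker.conj_mem x hx ⟨a, ha⟩, rfl⟩
  have hK : θ.ker.map A.subtype ≤ B := D2b.le_B D hZ (map_subtype_le _) hn (by
    rintro _ ⟨x, hx, rfl⟩
    exact (kc x).1 hx)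
  have st : ∀ a : A, θ a ∈ (B.subgroupOf A).map θ → a.1 ∈ B := by
    rintro a ⟨b, hb, e⟩
    exact (mul_mem_cancel_left (inv_mem hb)).1 (hK ⟨b⁻¹ * a, by
      change θ _ = 1
      rw [map_mul, map_inv, e, inv_mul_cancel], rfl⟩)
  have hB : autInducedBy ⊤ (E.map φ) ≤ (B.subgroupOf A).map θ :=
    m1 ▸ map_mono (comap_mono D.leB)
  refine ⟨E.map φ, θ.range, (B.subgroupOf A).map θ, θ'.range, hq, D.five, by omega,
    hL ▸ map_mono D.le, fun n => D.nn (comap_map_eq_self (hk.trans_le hZE) ▸ n.comap φ),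
    fun y hy => ?_, ?_, ?_, hB, lt_of_le_of_ne (map_le_range _ _) fun e => ?_, ?_, ?_⟩
  · obtain ⟨y, rfl⟩ := hs y
    have c : ∀ x ∈ E, x⁻¹ * (y * x * y⁻¹) ∈ lay G (m + 1) := fun x hx => by
      rw [← hk, MonoidHom.mem_ker, map_mul, map_mul, map_mul,
        ← mem_centralizer_iff.1 hy _ ⟨x, hx, rfl⟩, map_inv, map_inv]
      group
    have hN : y ∈ normalizer (E : Set G) := mem_normalizer_fintype fun x hx =>
      (mul_mem_cancel_left (inv_mem hx)).1 (hZE (c x hx))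
    have ht : conjAut E y hN ∈ A :=
      hTA (mem_autInducedBy_pext.2 ⟨y, trivial, fun x hx => pext_conjAut hN hx⟩)
    exact ⟨y, D.mem_inn hK hn hN ⟨⟨_, ht⟩, (kc _).2 fun x hx => by
      rw [pext_conjAut hN hx]; exact c x hx, rfl⟩, rfl⟩
  · have := (D.sylA.subgroupOf le_rfl).map θ
    rwa [m1, subgroupOf_self, ← MonoidHom.range_eq_map] at this
  · have := ((D.sylΓ.mono hT0 inf_le_left).subgroupOf le_rfl).map θ'
    rwa [(map_quoAut φ hs (hk.trans_le (hZE.trans D.le)) hL θ' hθ' hT0).1, subgroupOf_self,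
      ← MonoidHom.range_eq_map] at this
  · exact D.lt.not_ge fun a ha => st ⟨a, ha⟩ (e ▸ ⟨_, rfl⟩)
  · rintro _ ⟨g, rfl⟩ t ht hi e
    rw [← m1] at ht
    obtain ⟨t, ht, rfl⟩ := ht
    refine ⟨g, D.fuse' g.2 ht (fun n => hi (m2 ▸ ⟨t, n, rfl⟩)) (st (g * t * g⁻¹) ?_), rfl⟩
    rw [map_mul, map_mul, map_inv]
    exact hB e
  · rintro _ ⟨b, hb, rfl⟩
    obtain ⟨γ, hγ, e⟩ := D.ext b hb
    refine ⟨_, ⟨⟨γ, hγ, mem_stabAut_of_maps (hZE.trans D.le) fun x hx => ?_⟩, rfl⟩, ?_⟩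
    · rw [e x (hZE hx)]; exact hZ b b.2 x hx
    · rintro _ ⟨x, hx, rfl⟩
      rw [hθ' _ x (D.le hx), hθ b x hx, e x hx]

end Cfsg.Lib.MCE
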