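import Cfsg.Agent.MCE.L2
import Cfsg.Agent.MCN.Lin

/-! Elementary abelian sections as modules. -/

set_option autoImplicit false

namespace Cfsg.Lib.MCE

open Cfsg Cfsg.FusionSystem Subgroup Cfsg.Lib.Solv Cfsg.Lib.Fus Cfsg.Lib.Fus.Ess Cfsg.Lib.Grz
open Cfsg.Lib.MCN (Flag Ex Rs Kb SLb)
open scoped commutatorElement

universe u

variable {G : Type u} [Group G] {p m i d : ℕ} {x y s : G} {X Y : Subgroup G} [hp : Fact p.Prime]

theorem exists_sec [Finite G] (hYX : Y ≤ X) (hc : ∀ x ∈ X, ∀ y ∈ X, ⁅x, y⁆ ∈ Y)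
    (he : ∀ x ∈ X, x ^ p ∈ Y) : ∃ (V : Type u) (_ : AddCommGroup V) (_ : Module (ZMod p) V)
      (_ : Finite V) (π : G → V), Sec X Y π := by
  classical
  have : (Y.subgroupOf X).Normal := ⟨fun y hy g => by
    have := mul_mem (hc g g.2 y y.2) hy
    simpa [commutatorElement_def, mem_subgroupOf] using this⟩
  let _ : CommGroup (X ⧸ Y.subgroupOf X) :=
    { (inferInstance : Group (X ⧸ Y.subgroupOf X)) with
      mul_comm := fun a b => by
        obtain ⟨a, rfl⟩ := QuotientGroup.mk'_surjective _ a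
        obtain ⟨b, rfl⟩ := QuotientGroup.mk'_surjective _ b
        rw [← commutatorElement_eq_one_iff_mul_comm, ← map_commutatorElement]
        exact (QuotientGroup.eq_one_iff _).2 (hc _ a.2 _ b.2) }
  let _ : Module (ZMod p) (Additive (X ⧸ Y.subgroupOf X)) := AddCommGroup.zmodModule fun x => by
    obtain ⟨a, ha⟩ := QuotientGroup.mk_surjective x.toMul
    apply Additive.toMul.injective
    rw [toMul_nsmul, ← ha, ← QuotientGroup.mk_pow]
    exact (QuotientGroup.eq_one_iff _).2 (he _ a.2)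
  let π : G → Additive (X ⧸ Y.subgroupOf X) := fun x =>
    if h : x ∈ X then Additive.ofMul (QuotientGroup.mk ⟨x, h⟩) else 0
  have hπ : ∀ (x : G) (h : x ∈ X), π x = Additive.ofMul (QuotientGroup.mk ⟨x, h⟩) :=
    fun x h => dif_pos h
  refine ⟨_, inferInstance, inferInstance, inferInstance, π, hYX, fun x hx y hy => ?_, fun v => ?_,
    fun x hx => ?_⟩
  · rw [hπ x hx, hπ y hy, hπ _ (X.mul_mem hx hy)]; rfl
  · obtain ⟨a, ha⟩ := QuotientGroup.mk_surjective v.toMul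
    exact ⟨a, a.2, by rw [hπ _ a.2]; exact congrArg Additive.ofMul ha⟩
  · rw [hπ x hx]
    exact QuotientGroup.eq_one_iff _

variable {V : Type*} [AddCommGroup V] [Module (ZMod p) V] {π : G → V}

omit hp [Module (ZMod p) V] in
theorem Sec.one (h : Sec X Y π) : π 1 = 0 := (h.zero 1 (one_mem _)).2 (one_mem _)

omit hp [Module (ZMod p) V] in
theorem Sec.inv (h : Sec X Y π) (hx : x ∈ X) : π x⁻¹ = -π x := by
  rw [eq_neg_iff_add_eq_zero, ← h.add _ (inv_mem hx) _ hx, inv_mul_cancel, h.one]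

theorem Sec.pow (h : Sec X Y π) (hx : x ∈ X) (n : ℕ) : π (x ^ n) = (n : ZMod p) • π x := by
  induction n with
  | zero => simpa using h.one
  | succ n ih => rw [pow_succ, h.add _ (pow_mem hx n) _ hx, ih, Nat.cast_succ, add_smul, one_smul]

omit hp [Module (ZMod p) V] in
theorem Sec.eq_iff (h : Sec X Y π) (hx : x ∈ X) (hy : y ∈ X) : π x = π y ↔ x⁻¹ * y ∈ Y := by
  rw [← h.zero _ (mul_mem (inv_mem hx) hy), h.add _ (inv_mem hx) _ hy, h.inv hx, neg_add_eq_zero]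

theorem Sec.exists_rep (h : Sec X Y π) {H : Type*} [Group H] (act : H →* Equiv.Perm G)
    (hm : ∀ a, MulOn X (act a)) (hX : ∀ a, ∀ x ∈ X, act a x ∈ X)
    (hY : ∀ a, ∀ x ∈ Y, act a x ∈ Y) :
    ∃ ρ : H →* Module.End (ZMod p) V, ∀ a, ∀ x ∈ X, ρ a (π x) = π (act a x) := by
  choose r hr e using h.surj
  have k : ∀ a, ∀ x ∈ X, π (act a (r (π x))) = π (act a x) := fun a x hx => by
    rw [h.eq_iff (hX a _ (hr _)) (hX a _ hx), ← (hm a).map_inv (hr _),
      ← (hm a).map_mul (inv_mem (hr _)) hx]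
    exact hY a _ ((h.eq_iff (hr _) hx).1 (e _))
  let φ : H → V →+ V := fun a => AddMonoidHom.mk' (fun v => π (act a (r v))) fun v w => by
    rw [← h.add _ (hX a _ (hr v)) _ (hX a _ (hr w)), ← (hm a).map_mul (hr v) (hr w),
      ← k a _ (mul_mem (hr v) (hr w)), h.add _ (hr v) _ (hr w), e, e]
  refine ⟨⟨⟨fun a => (φ a).toZModLinearMap p, LinearMap.ext fun v => ?_⟩,
    fun a b => LinearMap.ext fun v => ?_⟩, k⟩
  · change π (act 1 (r v)) = v
    rw [map_one]; exact e v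
  · change π (act (a * b) (r v)) = π (act a (r (π (act b (r v)))))
    rw [k a _ (hX b _ (hr v)), map_mul]; rfl

theorem Sec.card [Finite G] (h : Sec X Y π) : Nat.card X = Nat.card V * Nat.card Y := by
  let φ : X →* Multiplicative V :=
    MonoidHom.mk' (fun x => Multiplicative.ofAdd (π x)) fun a b => h.add _ a.2 _ b.2
  have h1 : φ.ker = Y.subgroupOf X := Subgroup.ext fun a => h.zero _ a.2
  have h2 : Function.Surjective φ := fun v => by
    obtain ⟨x, hx, e⟩ := h.surj v.toAdd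
    exact ⟨⟨x, hx⟩, congrArg Multiplicative.ofAdd e⟩
  rw [card_eq_card_quotient_mul_card_subgroup φ.ker,
    Nat.card_congr (QuotientGroup.quotientKerEquivOfSurjective φ h2).toEquiv, h1,
    Nat.card_congr (subgroupOfEquivOfLe h.le).toEquiv]
  rfl

theorem Sec.flag [Finite G] (hS : MC p m G) (hm : 2 ≤ m) (h : Sec (lay G i) (lay G (i + d)) π)
    (hd : i + d ≤ m + 1) : Module.finrank (ZMod p) V = d ∧
      ∃ F : ℕ → Submodule (ZMod p) V, Flag F d ∧
        ∀ (N : Module.End (ZMod p) V) (s : G), (∀ x ∈ lay G i, N (π x) = π ⁅s, x⁆) →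
          (∀ r, (∀ a, ∀ x ∈ lay G (i + a), ⁅s, x⁆ ∈ lay G (i + a + r)) → Rs F N r) ∧
          (s ∉ lay G 0 → s ∉ twoStep G (m - 1) ∨ i + d ≤ m → Ex F N 1) := by
  have le : ∀ a, lay G (i + a) ≤ lay G i := fun a => lay_anti (Nat.le_add_right _ _)
  let F : ℕ → Submodule (ZMod p) V := fun a => AddSubgroup.toZModSubmodule p
    { carrier := {v | ∃ x ∈ lay G (i + a), π x = v}
      zero_mem' := ⟨1, one_mem _, h.one⟩
      add_mem' := by
        rintro _ _ ⟨x, hx, rfl⟩ ⟨y, hy, rfl⟩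
        exact ⟨_, mul_mem hx hy, h.add _ (le a hx) _ (le a hy)⟩
      neg_mem' := by
        rintro _ ⟨x, hx, rfl⟩
        exact ⟨_, inv_mem hx, h.inv (le a hx)⟩ }
  have m1 : ∀ a v, v ∈ F a ↔ ∃ x ∈ lay G (i + a), π x = v := fun a v => Iff.rfl
  have m2 : ∀ {a}, a ≤ d → ∀ {y}, y ∈ lay G i → π y ∈ F a → y ∈ lay G (i + a) :=
    fun ha _ hy ⟨x, hx, e⟩ => (mul_mem_cancel_left (inv_mem hx)).1
      (lay_anti (by omega) ((h.eq_iff (le _ hx) hy).1 e))
  have fl : Flag F d := by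
    refine ⟨eq_top_iff.2 fun v _ => h.surj v, eq_bot_iff.2 fun v hv => ?_, fun a b hab v hv => ?_,
      fun a v hv hv' w hw => ?_, fun a ha e => ?_⟩
    · obtain ⟨x, hx, rfl⟩ := (m1 _ _).1 hv
      exact (h.zero x (le _ hx)).2 hx
    · obtain ⟨x, hx, rfl⟩ := (m1 _ _).1 hv
      exact ⟨x, lay_anti (by omega) hx, rfl⟩
    · obtain ⟨x, hx, rfl⟩ := (m1 _ _).1 hv
      obtain ⟨y, hy, rfl⟩ := (m1 _ _).1 hw
      obtain ⟨c, hc⟩ := Wg.exists_pow hS hm ⟨hx, fun e => hv' ⟨x, e, rfl⟩⟩ hy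
      refine ⟨c, _, hc, ?_⟩
      rw [h.add _ (inv_mem (pow_mem (le _ hx) c)) _ (le _ hy), h.inv (pow_mem (le _ hx) c),
        h.pow (p := p) (le _ hx), neg_add_eq_sub]
    · obtain ⟨x, hx⟩ := exists_wg hS hm (i := i + a) (by omega)
      exact hx.2 (m2 ha (le _ hx.1) (e ⟨x, hx.1, rfl⟩))
  refine ⟨?_, F, fl, fun N s hN => ?_⟩
  · have h1 := h.card
    have : Finite V := Finite.of_surjective (fun x : lay G i => π x) fun v =>
      (h.surj v).elim fun x hx => ⟨⟨x, hx.1⟩, hx.2⟩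
    have : Module.Finite (ZMod p) V := Module.Finite.of_finite
    rw [card_lay hS hm, card_lay hS hm, Module.natCard_eq_pow_finrank (K := ZMod p), Nat.card_zmod,
      ← pow_add] at h1
    have := Nat.pow_right_injective hp.out.two_le h1
    omega
  have rs : ∀ r, (∀ a, ∀ x ∈ lay G (i + a), ⁅s, x⁆ ∈ lay G (i + a + r)) → Rs F N r :=
    fun r hr a v hv => by
      obtain ⟨x, hx, rfl⟩ := (m1 _ _).1 hv
      exact ⟨_, add_assoc i a r ▸ hr a x hx, (hN x (le _ hx)).symm⟩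
  refine ⟨rs, fun hs hs' => fl.ex_of (rs 1 fun a x hx => (comm_top hS hm hx s).2) fun a ha => ?_⟩
  obtain ⟨x, hx⟩ := exists_wg hS hm (i := i + a) (by omega)
  have hw := comm_wg hS hm hs hx (hs'.symm.imp (by omega) fun e => ⟨e, by omega⟩)
  exact ⟨_, ⟨x, hx.1, rfl⟩, fun e => hw.2 (m2 (a := a + 1 + 1) ha (lay_anti (by omega) hw.1)
    (hN x (le _ hx.1) ▸ e))⟩

end Cfsg.Lib.MCE
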