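import Cfsg.Agent.MCE.L4
import Cfsg.Agent.MCE.Sec
import Cfsg.Agent.MCN.CaseQ

/-! An element acting quadratically on the central elements of order `p`. -/

set_option autoImplicit false

namespace Cfsg.Lib.MCE

open Cfsg Cfsg.FusionSystem Subgroup Cfsg.Lib.Solv Cfsg.Lib.Fus Cfsg.Lib.Fus.Ess Cfsg.Lib.Grz
open Cfsg.Lib.MCN (Flag Ex Rs rs_conj rs_binom conj_pow')
open scoped commutatorElement

universe u

theorem D3.big {p : ℕ} [Fact p.Prime] {V : Type*} [AddCommGroup V] [Module (ZMod p) V]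
    {G : Type*} [Group G] {ρ : G →* Module.End (ZMod p) V} {F : ℕ → Submodule (ZMod p) V}
    {d m : ℕ} {s z y : G} (fl : Flag F d) (dp : d ≤ p) (hs : Ex F (ρ s - 1) 1)
    (hz : Ex F (ρ z - 1) m) (m2 : 2 ≤ m) (md : m < d) (c0 : Commute (ρ s) (ρ z))
    (cy : Commute (ρ y) (ρ z)) (e : y * s * y⁻¹ = z * s) : d + 1 ≤ 2 * m := by
  have hF := fl.anti
  have c1 : Commute (ρ s - 1) (ρ z - 1) :=
    (c0.sub_right (Commute.one_right _)).sub_left (Commute.one_left _)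
  have c2 : Commute (ρ s - 1) ((ρ z - 1) * ρ s) :=
    c1.mul_right ((Commute.refl _).sub_left (Commute.one_left _))
  have e1 : ρ y⁻¹ * ρ y = 1 := by rw [← map_mul, inv_mul_cancel, map_one]
  have e2 : ρ y * ρ y⁻¹ = 1 := by rw [← map_mul, mul_inv_cancel, map_one]
  have eN : ρ y * (ρ s - 1) * ρ y⁻¹ = ρ s - 1 + (ρ z - 1) * ρ s := by
    rw [mul_sub, sub_mul, mul_one, e2, ← map_mul, ← map_mul, e, map_mul]; noncomm_ring
  have eZ : ρ y * (ρ z - 1) * ρ y⁻¹ = ρ z - 1 := by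
    rw [mul_sub, sub_mul, mul_one, e2, cy.eq, mul_assoc, e2, mul_one]
  have hZ : Ex F ((ρ z - 1) * ρ s) m := by
    have := hz.add_rs fl (hz.rs.mul hs.rs) one_ne_zero
    convert this using 1
    rw [one_smul]; noncomm_ring
  obtain ⟨c, hc⟩ := fl.exists_lead hs c1.symm.eq hz.rs
  have cne : c ≠ 0 := by
    rintro rfl
    obtain ⟨v, hv, hv'⟩ := hz.exists_not_mem fl (a := 0) (by omega)
    exact hv' (by simpa using hc 0 v hv)
  have h1 := rs_conj fl hs hZ.rs m2 c2 e1 e2 eN d m (by omega) _ (by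
    rw [sub_mul, mul_sub (ρ s - 1) (ρ z - 1), c1.eq, smul_mul_assoc, mul_smul_comm, ← pow_succ,
      ← pow_succ']) hc
  obtain ⟨j, rfl⟩ : ∃ j, m = j + 1 := ⟨m - 1, by omega⟩
  have h3 := (hs.pow j).mul hZ
  have jne : ((j + 1 : ℕ) : ZMod p) ≠ 0 := fun e => by
    have := Nat.le_of_dvd (by omega) ((ZMod.natCast_eq_zero_iff _ p).1 e)
    omega
  have h4 := h3.add_rs fl (((((rs_binom hF hs.rs hZ.rs m2 c2 j).smul c).add h1)).mono hF (by omega))
    (mul_ne_zero cne jne)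
  rw [← eN, ← conj_pow' e1 e2, mul_sub (ρ y) (ρ z - 1), sub_mul (ρ y * _), eZ, mul_smul_comm,
    smul_mul_assoc, smul_sub, smul_sub, smul_smul] at h4
  by_contra lt
  obtain ⟨v, -, hv⟩ := h4.exists_not_mem fl (a := 0) (by omega)
  refine hv ?_
  simp only [LinearMap.add_apply, LinearMap.sub_apply]
  convert Submodule.zero_mem _ using 1
  abel

variable {G : Type u} [Group G] {p m : ℕ} [Finite G] [hp : Fact p.Prime] {E : Subgroup G}

theorem D3.quad (h : MC p m G) (hm : 2 ≤ m) {k i : ℕ} {s y : G} (hs : s ∉ lay G 0)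
    (hs' : s ∉ twoStep G (m - 1)) (hz : ⁅y, s⁆ ∈ lay G (k + 1)) (hi : k + 2 ≤ i) (im : i ≤ m + 1)
    (e : omz p (lay G (k + 2)) = lay G i) : ∀ v ∈ lay G i, ⁅⁅y, s⁆, ⁅⁅y, s⁆, v⁆⁆ = 1 := by
  obtain ⟨d, hd⟩ := Nat.exists_eq_add_of_le im
  have b : lay G (i + d) = ⊥ := lay_eq_bot h hm hd.le
  have dp : d ≤ p := by_contra fun n => by
    obtain ⟨x, hx⟩ := exists_wg h hm (i := i) (by omega)
    exact (pow_wg h hm hx (by omega) (by omega)).2 ((e.ge hx.1).2.1 ▸ one_mem _)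
  obtain ⟨V, _, _, _, π, S⟩ := exists_sec (p := p) (X := lay G i) (Y := lay G (i + d))
    (lay_anti (by omega)) (fun x hx y hy => commutatorElement_eq_one_iff_mul_comm.2
      (omz_comm (e.ge hx) (lay_anti hi hy)) ▸ one_mem _) fun x hx => (e.ge hx).2.1 ▸ one_mem _
  obtain ⟨ρ, hρ⟩ := S.exists_rep (p := p) cj (fun a => mulOn_conj _ a)
    (fun a x hx => (lay_normal _).conj_mem x hx a) fun a x hx => (lay_normal _).conj_mem x hx a
  have k1 : ∀ g, ∀ x ∈ lay G i, (ρ g - 1) (π x) = π ⁅g, x⁆ := fun g x hx => by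
    rw [commutatorElement_def, S.add _ ((lay_normal _).conj_mem x hx g) _ (inv_mem hx), S.inv hx,
      LinearMap.sub_apply, hρ g x hx, sub_eq_add_neg]
    rfl
  have k2 : ∀ g, Commute (ρ g) (ρ ⁅y, s⁆) := fun g => by
    have : ρ ⁅g, ⁅y, s⁆⁆ = 1 := LinearMap.ext fun v => by
      obtain ⟨x, hx, rfl⟩ := S.surj v
      rw [hρ _ x hx, cj_apply, ← omz_comm (e.ge hx) (comm_top h hm hz g).2, mul_inv_cancel_right]
      rfl
    rw [Commute, SemiconjBy, ← map_mul, ← map_mul, ← one_mul (ρ (_ * g)), ← this, ← map_mul,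
      commutatorElement_def g]
    congr 1
    group
  obtain ⟨-, F, fl, hF⟩ := S.flag (p := p) h hm hd.ge
  have hN := (hF _ s (k1 s)).2 hs (.inl hs')
  have hR := (hF _ _ (k1 ⁅y, s⁆)).1 (k + 2) fun a x hx =>
    lay_anti (by omega) (comm_lay h hm hz hx)
  have z : (ρ ⁅y, s⁆ - 1) * (ρ ⁅y, s⁆ - 1) = 0 := by
    by_cases z : ρ ⁅y, s⁆ - 1 = 0
    · rw [z, mul_zero]
    obtain ⟨r, rd, hr⟩ := fl.exists_ex hN (((k2 s).symm.sub_right (Commute.one_right _)).sub_left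
      (Commute.one_left _)).eq z
    obtain ⟨v, hv, hv'⟩ := hr.exists_not_mem fl (a := 0) (by omega)
    have : k + 2 ≤ r := by_contra fun n => hv' (fl.anti (by omega) (hR 0 v hv))
    have := D3.big fl dp hN hr (by omega) rd (k2 s) (k2 y) (by rw [commutatorElement_def]; group)
    exact fl.eq_zero (hr.rs.mul hr.rs) (by omega)
  intro v hv
  have h1 := lay_anti i.le_succ (comm_top h hm hv ⁅y, s⁆).2
  refine mem_bot.1 (b.le ((S.zero _ (lay_anti i.le_succ (comm_top h hm h1 _).2)).1 ?_))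
  rw [← k1 _ _ h1, ← k1 _ _ hv, ← Module.End.mul_apply, z, LinearMap.zero_apply]

theorem exists_quad (h : MC p m G) (hm : 2 ≤ m) (hE : E ≤ lay G 0) (hn : ¬ E.Normal)
    (hZ : lay G m ≤ E) : ∃ (k : ℕ) (z : G), 1 ≤ k ∧ lay G (k + 1) ≤ E ∧ z ∈ lay G k ∧ z ∉ E ∧
      ∀ v ∈ omz p E, ⁅z, ⁅z, v⁆⁆ = 1 := by
  classical
  have ex : ∃ j, lay G j ≤ E := ⟨m, hZ⟩
  have h1 := Nat.find_spec ex
  have h2 : Nat.find ex ≤ m := Nat.find_min' ex hZ
  have h3 := @Nat.find_min _ _ ex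
  have h4 : 2 ≤ Nat.find ex := by_contra fun n =>
    hn (normal_of_le h hm ((lay_anti (by omega)).trans h1))
  obtain ⟨k, hk⟩ := Nat.exists_eq_add_of_le' h4
  rw [hk] at h1 h2 h3
  obtain ⟨s, hs, hs'⟩ := exists_out h hm
  obtain ⟨y, hy⟩ := exists_wg h hm (i := k) (by omega)
  have hz : Wg (k + 1) ⁅y, s⁆ := commutatorElement_inv s y ▸ (comm_wg h hm hs hy (.inl h2)).inv
  refine ⟨k + 1, ⁅y, s⁆, by omega, h1, hz.1, fun e => h3 (m := k + 1) (by omega)
    ((hz.sup h hm).ge.trans (sup_le h1 (zpowers_le.2 e))), fun v hv => ?_⟩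
  by_cases c : lay G (k + 1) ≤ centralizer (lay G (k + 2))
  · exact commutatorElement_eq_one_iff_mul_comm.2 (mem_centralizer_iff.1 (c hz.1) _
      (comm_top h hm hz.1 v).1).symm
  obtain ⟨i, -, e⟩ := normal_eq h hm (X := lay G 0 ⊓ centralizer (lay G (k + 2))) inf_le_left
  have l : k + 2 ≤ i := by_contra fun n => c ((lay_anti (by omega)).trans (e.ge.trans inf_le_right))
  have hv' : v ∈ omz p (lay G (k + 2)) := ⟨lay_anti l (e.le (mem_inf.2 ⟨hE hv.1,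
    mem_centralizer_iff.2 fun u hu => (hv.2.2 u (h1 hu)).symm⟩)), hv.2.1,
    fun u hu => hv.2.2 u (h1 hu)⟩
  obtain ⟨j, jm, e'⟩ := normal_eq h hm (X := omz p (lay G (k + 2)))
    (omz_le.trans (lay_anti (by omega)))
  refine D3.quad h hm hs hs' hz.1 (by_contra fun n => hz.2 (omz_le (e'.ge ?_))) jm e' v (e'.le hv')
  exact lay_anti (by omega) hz.1

end Cfsg.Lib.MCE
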