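import Cfsg.Agent.MCE.D0
import Cfsg.Agent.MCE.Sec

/-! The module of central elements of order `p` of the essential subgroup. -/

set_option autoImplicit false

namespace Cfsg.Lib.MCE

open Cfsg Cfsg.FusionSystem Subgroup Cfsg.Lib.Solv Cfsg.Lib.Fus Cfsg.Lib.Fus.Ess Cfsg.Lib.Grz
open scoped commutatorElement

universe u

variable {G : Type u} [Group G] {p m : ℕ} [Finite G] [hp : Fact p.Prime] {E : Subgroup G}
  {A B : Subgroup (MulAut E)} {Γ : Subgroup (MulAut (lay G 0))}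

theorem Dat.exists_lin (D : Dat p m E A B Γ) (hN : ∀ α ∈ A, ZI m α → α ∈ B) :
    ∃ (V : Type u) (_ : AddCommGroup V) (_ : Module (ZMod p) V) (_ : Finite V) (π : G → V)
      (M : Type u) (_ : Group M) (_ : Finite M) (ρ : M →* Module.End (ZMod p) V) (θ : A →* M),
      Sec (omz p E) ⊥ π ∧ Function.Injective ρ ∧
      (∀ α : A, ∀ v ∈ omz p E, ρ (θ α) (π v) = π (pext E α.1 v)) ∧
      SE p ⊤ (((autInducedBy ⊤ E).subgroupOf A).map θ) ((B.subgroupOf A).map θ) ∧
      ∀ α : A, θ α ∈ (B.subgroupOf A).map θ → α.1 ∈ B := by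
  obtain ⟨V, _, _, _, π, S⟩ := exists_sec (p := p) (X := omz p E) (Y := ⊥) bot_le
    (fun x hx y hy => mem_bot.2 (commutatorElement_eq_one_iff_mul_comm.2 (omz_comm hx hy.1)))
    fun x hx => mem_bot.2 hx.2.1
  obtain ⟨ρ, hρ⟩ := S.exists_rep (p := p) ((pext E).comp A.subtype)
    (fun a => (mulOn_pext a.1).mono omz_le) (fun a x hx => pext_mem_omz a.1 hx)
    fun a x hx => mem_bot.2 (by rw [mem_bot.1 hx]; exact (mulOn_pext a.1).map_one)
  let θ := QuotientGroup.mk' ρ.ker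
  have hθ : Function.Surjective θ := QuotientGroup.mk'_surjective _
  have k : ∀ a : A, θ a = 1 ↔ ∀ v ∈ omz p E, pext E a.1 v = v := fun a => by
    refine (QuotientGroup.eq_one_iff _).trans ⟨fun e v hv => ?_, fun e => LinearMap.ext fun v => ?_⟩
    · have := hρ a v hv
      rw [MonoidHom.mem_ker.1 e] at this
      exact (inv_mul_eq_one.1 (mem_bot.1 ((S.eq_iff hv (pext_mem_omz a.1 hv)).1 this))).symm
    · obtain ⟨x, hx, rfl⟩ := S.surj v
      exact (hρ a x hx).trans (congrArg π (e x hx))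
  have l : ∀ α : A, θ α ∈ (B.subgroupOf A).map θ → α.1 ∈ B := by
    rintro a ⟨b, hb, e⟩
    refine (B.mul_mem_cancel_left (B.inv_mem hb)).1 (hN _ (b⁻¹ * a).2 fun v hv => ?_)
    exact (congrArg (· ∈ lay G m) ((k (b⁻¹ * a)).1 (by rw [map_mul, map_inv, e, inv_mul_cancel]) v
      (D.center_le hv))).mpr hv
  have le : ((autInducedBy ⊤ E).subgroupOf A).map θ ≤ (B.subgroupOf A).map θ :=
    map_mono (comap_mono D.leB)
  refine ⟨V, _, _, inferInstance, π, A ⧸ ρ.ker, inferInstance, inferInstance,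
    QuotientGroup.lift _ ρ le_rfl, θ, S, (injective_iff_map_eq_one _).2 fun x e => ?_, hρ,
    ⟨map_top_of_surjective θ hθ ▸ D.sylA.subgroupOf_top.map θ, le,
      lt_top_iff_ne_top.2 fun e => D.lt.not_ge fun a ha => l ⟨a, ha⟩ (e.ge (mem_top _)), ?_⟩, l⟩
  · obtain ⟨a, rfl⟩ := hθ x
    exact (QuotientGroup.eq_one_iff _).2 e
  rintro x - _ ⟨t, ht, rfl⟩ t1 e
  obtain ⟨a, rfl⟩ := hθ x
  rw [← map_inv, ← map_mul, ← map_mul] at e
  refine mem_map_of_mem θ (D.fuse' a.2 ht (fun i => t1 ((k t).2 fun v hv => ?_)) (l _ (le e)))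
  obtain ⟨c, hc, h⟩ := mem_inn_pext.1 i
  exact (h v hv.1).trans (by rw [← omz_comm hv hc, mul_inv_cancel_right])

end Cfsg.Lib.MCE
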