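import Cfsg.Agent.MCE.Defs
import Cfsg.Agent.MCN.QA

/-! Normalising a quadratic pair. -/

set_option autoImplicit false

namespace Cfsg.Lib.MCE

open Subgroup Cfsg.Lib.MCN Cfsg.Lib.Trans.Quad

theorem QT2.comm {Q : Type*} [CommRing Q] {k : ℕ} (hp : ((2 * k + 1 : ℕ) : Q) = 0) {D E : Q}
    (hD : D ^ (2 * k + 1) = 1) (h2 : 2 * (D * (D - E)) * D ^ 2 = 0)
    (hs : (D * (D - E)) ^ 2 - (2 * D - E) * E * D ^ 2 + 1 = 0) : D = 1 ∧ E = 1 := by
  have u : IsUnit (D ^ 3) := (IsUnit.of_pow_eq_one hD (by omega)).pow 3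
  push_cast at hp
  have e : D - E = 0 := u.mul_right_eq_zero.1 (by linear_combination D ^ 3 * (D - E) * hp - k * h2)
  obtain rfl : E = D := (sub_eq_zero.1 e).symm
  have e4 : E ^ 4 = 1 := by linear_combination -hs
  have e2 : E ^ 2 = 1 := by
    calc E ^ 2 = (E ^ 4) ^ k * E ^ 2 := by rw [e4, one_pow, one_mul]
      _ = (E ^ (2 * k + 1)) ^ 2 := by ring
      _ = 1 := by rw [hD, one_pow]
  have : E = 1 := by rwa [pow_succ, pow_mul, e2, one_pow, one_mul] at hD
  exact ⟨this, this⟩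

theorem QT2.abs {C R : Type*} [CommRing C] [Ring R] [Algebra C R] {A B : R} {t : C}
    (hA : A * A = 0) (hB : B * B = 0) (ht : A * B + B * A = algebraMap C R t) {k : ℕ}
    (hp : ((2 * k + 1 : ℕ) : R) = 0)
    (star : ∀ (q : C) (j : ℕ), algebraMap C R (t ^ j * q) = 0 → q • A = 0 ∧ q • B = 0)
    {c₁ c₂ c₃ c₄ : C} {y : R} (hy : y = 1 + (c₁ • A + c₂ • B + c₃ • (A * B) + c₄ • (B * A)))
    (h1 : y * A = A * y) (h2 : y ^ (2 * k + 1) = 1) {j : ℕ}
    (h3 : algebraMap C R t ^ j * (y * (1 - B) * y * (y * (1 - B) * y) + 1) = 0) :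
    y = 1 + c₁ • A ∧ (c₁ * t) • A = A ∧ (c₁ * t) • B = B := by
  have h0 : B * A = t • (1 : R) - A * B := by
    rw [← Algebra.algebraMap_eq_smul_one, ← ht, add_sub_cancel_left]
  have a1 : A * (B * A) = t • A := by
    rw [h0, mul_sub, ← mul_assoc, hA, zero_mul, sub_zero, mul_smul_comm, mul_one]
  have a2 : B * (A * B) = t • B := by
    rw [← mul_assoc, h0, sub_mul, mul_assoc, hB, mul_zero, sub_zero, smul_mul_assoc, one_mul]
  have a3 : ∀ x : R, A * (A * x) = 0 := fun x => by rw [← mul_assoc, hA, zero_mul]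
  have a4 : ∀ x : R, B * (B * x) = 0 := fun x => by rw [← mul_assoc, hB, zero_mul]
  have e1 : ((c₄ - c₃) * t) • A + (0 : C) • B + c₂ • (A * B) + (-c₂) • (B * A) = 0 := by
    rw [hy] at h1
    simp only [add_mul, mul_add, one_mul, mul_one, smul_mul_assoc, mul_smul_comm, mul_assoc, hA,
      a1, a3, smul_zero, mul_zero, zero_add, add_zero, smul_smul] at h1
    linear_combination (norm := module) -h1
  obtain ⟨q1, -, q2, -⟩ := qa_rel hA hB ht e1
  have q3 := (star (c₄ - c₃) 4 (by rw [← q1]; congr 1; ring)).2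
  have q4 := (star c₂ 3 q2).2
  set d := 1 + c₃ * t with hd
  have ey : y = d • (1 : R) + c₁ • A := by
    have : (c₄ - c₃) • (B * A) = 0 := by rw [← smul_mul_assoc, q3, zero_mul]
    rw [hy, q4, hd]
    rw [h0] at this ⊢
    linear_combination (norm := module) this
  have pw : ∀ n : ℕ, y ^ (n + 1) = (d ^ (n + 1)) • (1 : R) + (((n + 1 : ℕ) : C) * d ^ n * c₁) • A :=
    fun n => by
    induction n with
    | zero => simp [ey]
    | succ n ih =>
      rw [pow_succ, ih, ey]
      simp only [add_mul, mul_add, one_mul, mul_one, smul_mul_assoc, mul_smul_comm, hA, smul_zero,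
        add_zero, smul_smul]
      push_cast
      module
  have hp' : algebraMap C R ((2 * k + 1 : ℕ) : C) = 0 := by rw [map_natCast, hp]
  have e2 : algebraMap C R (d ^ (2 * k + 1) - 1) = 0 := by
    have := pw (2 * k)
    rw [h2, mul_assoc, mul_smul, Algebra.smul_def ((2 * k + 1 : ℕ) : C), hp', zero_mul, add_zero,
      ← Algebra.algebraMap_eq_smul_one] at this
    rw [map_sub, ← this, map_one, sub_self]
  set e := c₁ * t with he
  have en : y * (1 - B) * y = (d * (d - e)) • (1 : R) + ((2 * d - e) * c₁) • A - (d ^ 2) • B := by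
    rw [ey]
    simp only [add_mul, mul_add, mul_sub, sub_mul, one_mul, mul_one, smul_mul_assoc, mul_smul_comm,
      mul_assoc, hA, a1, smul_zero, add_zero, smul_smul, smul_add, smul_sub]
    rw [h0, he]
    module
  have e3 : (t ^ (j + 1) * (2 * (d * (d - e)) * ((2 * d - e) * c₁))) • A +
      (-(t ^ (j + 1) * (2 * (d * (d - e)) * d ^ 2))) • B +
      (t ^ j * ((d * (d - e)) ^ 2 - (2 * d - e) * e * d ^ 2 + 1)) • (A * B) +
      (t ^ j * ((d * (d - e)) ^ 2 - (2 * d - e) * e * d ^ 2 + 1)) • (B * A) = 0 := by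
    rw [en, ← map_pow, ← Algebra.smul_def] at h3
    simp only [add_mul, mul_add, mul_sub, sub_mul, one_mul, mul_one, smul_mul_assoc, mul_smul_comm,
      hA, hB, smul_zero, add_zero, smul_smul, smul_add, smul_sub] at h3
    rw [h0] at h3 ⊢
    rw [he] at h3 ⊢
    linear_combination (norm := module) t • h3
  obtain ⟨-, q5, q6, -⟩ := qa_rel hA hB ht e3
  let J : Ideal C :=
    { carrier := {q | ∃ j : ℕ, algebraMap C R (t ^ j * q) = 0}
      add_mem' := by
        rintro a b ⟨i, hi⟩ ⟨j, hj⟩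
        refine ⟨i + j, ?_⟩
        rw [show t ^ (i + j) * (a + b) = t ^ j * (t ^ i * a) + t ^ i * (t ^ j * b) by ring, map_add,
          map_mul, hi, map_mul _ (t ^ i), hj]
        simp
      zero_mem' := ⟨0, by simp⟩
      smul_mem' := by
        rintro c a ⟨i, hi⟩
        exact ⟨i, by rw [smul_eq_mul, mul_left_comm, map_mul, hi, mul_zero]⟩ }
  have hJ : ∀ q (i : ℕ), algebraMap C R (t ^ i * q) = 0 → Ideal.Quotient.mk J q = 0 := fun q i h =>
    Ideal.Quotient.eq_zero_iff_mem.2 ⟨i, h⟩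
  obtain ⟨r1, r2⟩ := QT2.comm (k := k) (D := Ideal.Quotient.mk J d) (E := Ideal.Quotient.mk J e)
    (by rw [← map_natCast (Ideal.Quotient.mk J)]; exact hJ _ 0 (by rw [pow_zero, one_mul, hp']))
    (by
      have := hJ _ 0 (by rw [pow_zero, one_mul, e2])
      rwa [map_sub, map_pow, map_one, sub_eq_zero] at this)
    (by
      have := hJ (2 * (d * (d - e)) * d ^ 2) (j + 4) (by
        rw [← neg_eq_zero, ← map_neg, ← q5]; congr 1; ring)
      simpa only [map_mul, map_sub, map_pow, map_ofNat] using this)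
    (by
      have := hJ ((d * (d - e)) ^ 2 - (2 * d - e) * e * d ^ 2 + 1) (j + 3) (by
        rw [← q6]; congr 1; ring)
      simpa only [map_mul, map_sub, map_add, map_pow, map_ofNat, map_one] using this)
  obtain ⟨i1, s1⟩ : d - 1 ∈ J := Ideal.Quotient.eq.1 (by rw [r1, map_one])
  obtain ⟨i2, s2⟩ : e - 1 ∈ J := Ideal.Quotient.eq.1 (by rw [r2, map_one])
  obtain ⟨s3, s4⟩ := star c₃ (i1 + 1) (by rw [← s1, hd]; congr 1; ring)
  obtain ⟨s5, s6⟩ := star _ _ s2
  rw [sub_smul, one_smul, sub_eq_zero] at s5 s6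
  refine ⟨?_, s5, s6⟩
  rw [ey, hd, add_smul, one_smul, mul_smul, ← Algebra.algebraMap_eq_smul_one t, ← ht, smul_add,
    ← smul_mul_assoc, ← smul_mul_assoc, s3, s4, zero_mul, zero_mul, add_zero, add_zero]

variable {p : ℕ} [hp : Fact p.Prime] {V : Type*} [AddCommGroup V] [Module (ZMod p) V] [Finite V]

theorem qt_ring (h5 : 5 ≤ p) {K : Type*} [Group K] (σ : K →* Module.End (ZMod p) V) {z w z₁ : K}
    (hK : closure {z, w} = ⊤) {A B c : Module.End (ZMod p) V} (hA : σ z = 1 + A)
    (hB : σ w = 1 + B) (hAA : A * A = 0) (hBB : B * B = 0) (hc : c = A * B + B * A)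
    (hM : ∀ x v (m : ℕ), (c ^ m) v = 0 → σ x v = v) (h1 : z₁ * z = z * z₁) (h2 : z₁ ^ p = 1)
    (h3 : ∃ j : ℕ, c ^ j * (σ (z₁ * w⁻¹ * z₁ * (z₁ * w⁻¹ * z₁)) + 1) = 0) :
    ∃ γ : Module.End (ZMod p) V, γ * A = A * γ ∧ γ * B = B * γ ∧ σ z₁ = 1 + γ * A ∧
      γ * c * A = A ∧ γ * c * B = B := by
  have cA : Commute c A := hc ▸ commute_T_left hAA
  have cB : Commute c B := hc ▸ commute_T_right hBB
  have call : ∀ g : K, Commute c (σ g) := fun g => by
    have hg : g ∈ closure ({z, w} : Set K) := hK ▸ mem_top g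
    induction hg using closure_induction with
    | mem x hx =>
      rcases hx with rfl | rfl
      · rw [hA]; exact (Commute.one_right c).add_right cA
      · rw [hB]; exact (Commute.one_right c).add_right cB
    | one => simp
    | mul x y _ _ hx hy => rw [map_mul]; exact hx.mul_right hy
    | inv x _ hx =>
      calc c * σ x⁻¹ = σ x⁻¹ * (σ x * c) * σ x⁻¹ := by
            rw [← mul_assoc, ← map_mul, inv_mul_cancel, map_one, one_mul]
        _ = σ x⁻¹ * c := by
            rw [← hx.eq, mul_assoc, mul_assoc, ← map_mul, mul_inv_cancel, map_one, mul_one]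
  let S := Subring.centralizer ({c} : Set (Module.End (ZMod p) V))
  have mem : ∀ {x}, x ∈ S ↔ c * x = x * c := by simp [S, Subring.mem_centralizer_iff]
  let σ' : K →* S := σ.codRestrict S fun g => mem.2 (call g).eq
  let t : Subring.center S := ⟨⟨c, mem.2 rfl⟩, Subring.mem_center_iff.2 fun y =>
    Subtype.ext (mem.1 y.2).symm⟩
  let A' : S := ⟨A, mem.2 cA.eq⟩
  let B' : S := ⟨B, mem.2 cB.eq⟩
  have ht : A' * B' + B' * A' = algebraMap (Subring.center S) S t := Subtype.ext hc.symm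
  obtain ⟨c₁, c₂, c₃, c₄, e⟩ := exists_word σ' hK A' B' (Subtype.ext hA) (Subtype.ext hB) t
    (Subtype.ext hAA) (Subtype.ext hBB) ht z₁
  obtain ⟨k, hk⟩ := hp.out.odd_of_ne_two (by omega)
  obtain ⟨j, h3⟩ := h3
  have cen : ∀ (q : Subring.center S) (y : S), q.1.1 * y.1 = y.1 * q.1.1 := fun q y =>
    congrArg Subtype.val (Subring.mem_center_iff.1 q.2 y).symm
  have wi : σ w⁻¹ = 1 - B := by
    calc σ w⁻¹ = σ w⁻¹ * ((1 + B) * (1 - B)) := by
          rw [add_mul, mul_sub, mul_sub, hBB]; simp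
      _ = 1 - B := by rw [← hB, ← mul_assoc, ← map_mul, inv_mul_cancel, map_one, one_mul]
  obtain ⟨r1, r2, r3⟩ := QT2.abs (k := k) (j := j) (Subtype.ext hAA) (Subtype.ext hBB) ht
    (Subtype.ext (by
      rw [← hk, SubringClass.coe_natCast, ← map_natCast (algebraMap (ZMod p) _), ZMod.natCast_self,
        map_zero]
      rfl))
    (fun q i hq => by
      have hq' : c ^ i * q.1.1 = 0 := by
        rw [map_mul, map_pow] at hq
        exact congrArg Subtype.val hq
      have f : ∀ x (X : S), σ x = 1 + X.1 → q • X = 0 := fun x X hX => Subtype.ext (by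
        change q.1.1 * X.1 = 0
        rw [cen]
        ext v
        have := hM x (q.1.1 v) i (by rw [← Module.End.mul_apply, hq']; rfl)
        rw [hX] at this
        simpa using this)
      exact ⟨f z A' hA, f w B' hB⟩) e
    (Subtype.ext (by
      have := congrArg σ h1
      rw [map_mul, map_mul, hA, mul_add, add_mul, mul_one, one_mul, add_right_inj] at this
      exact this))
    (by rw [← hk, ← map_pow, h2, map_one])
    (Subtype.ext (by
      rw [map_mul, map_mul, map_mul, wi] at h3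
      exact h3))
  exact ⟨c₁.1.1, cen c₁ A', cen c₁ B', congrArg Subtype.val r1, congrArg Subtype.val r2,
    congrArg Subtype.val r3⟩

end Cfsg.Lib.MCE
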