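import Cfsg.Agent.MCE.QT1
import Cfsg.Agent.MCE.QT2
import Cfsg.Agent.MCN.QP

/-! Torus elements for a quadratic pair. -/

set_option autoImplicit false

namespace Cfsg.Lib.MCE

open Cfsg Subgroup Cfsg.Lib.Fus Cfsg.Lib.Grz Cfsg.Lib.Solv Cfsg.Lib.Trans.Quad Cfsg.Lib.MCN

section
variable {k R : Type*} [CommRing k] [Ring R] [Algebra k R]

theorem QT3.pw {X : R} (h : X * X = 0) (n : ℕ) : (1 + X) ^ n = 1 + (n : k) • X := by
  induction n with
  | zero => simp
  | succ n ih =>
    rw [pow_succ, ih, add_mul, mul_add, mul_add, smul_mul_assoc, smul_mul_assoc, h]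
    push_cast
    simp only [mul_one, one_mul, smul_zero]
    module

theorem QT3.prod {B X : R} {a b : k} (hab : a * b = 1) (XX : X * X = 0) (BB : B * B = 0)
    (XBX : X * (B * X) = X) (BXB : B * (X * B) = B) :
    (1 + a • X) * (1 + b • -B) * (1 + a • X) * ((1 - X) * (1 + B) * (1 - X)) =
      1 + (a - 1) • (X * B) + (b - 1) • (B * X) := by
  have a1 : ∀ y, X * (X * y) = 0 := fun y => by rw [← mul_assoc, XX, zero_mul]
  have a2 : ∀ y, B * (B * y) = 0 := fun y => by rw [← mul_assoc, BB, zero_mul]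
  have e1 : (1 + a • X) * (1 + b • -B) * (1 + a • X) = 1 - X * B - B * X + a • X - b • B := by
    simp only [add_mul, mul_add, one_mul, mul_one, smul_mul_assoc, mul_smul_comm, mul_assoc, XX,
      XBX, smul_zero, add_zero, smul_add, smul_neg, mul_neg, neg_mul, smul_smul]
    linear_combination (norm := module) hab • (-(X * B) - B * X - a • X)
  have e2 : (1 - X) * (1 + B) * (1 - X) = 1 - X * B - B * X - X + B := by
    simp only [add_mul, mul_add, sub_mul, mul_sub, one_mul, mul_one, mul_assoc, XX, XBX]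
    abel
  rw [e1, e2]
  simp only [add_mul, mul_add, sub_mul, mul_sub, one_mul, mul_one, smul_mul_assoc, mul_assoc, XX,
    BB, XBX, BXB, a1, a2, smul_zero, mul_zero]
  module

theorem QT3.pw2 {P Q : R} (PP : P * P = P) (QQ : Q * Q = Q) (PQ : P * Q = 0) (QP : Q * P = 0)
    (a b : k) (n : ℕ) :
    (1 + (a - 1) • P + (b - 1) • Q) ^ n = 1 + (a ^ n - 1) • P + (b ^ n - 1) • Q := by
  induction n with
  | zero => simp
  | succ n ih =>
    rw [pow_succ, ih]
    simp only [add_mul, mul_add, one_mul, mul_one, smul_mul_assoc, mul_smul_comm, PP, QQ, PQ, QP,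
      smul_zero, smul_add]
    module

theorem QT3.inv {K : Type*} [Group K] (σ : K →* R) {w : K} {B : R} (hB : σ w = 1 + B)
    (BB : B * B = 0) : σ w⁻¹ = 1 - B := by
  calc σ w⁻¹ = σ w⁻¹ * ((1 + B) * (1 - B)) := by rw [add_mul, mul_sub, mul_sub, BB]; simp
    _ = 1 - B := by rw [← hB, ← mul_assoc, ← map_mul, inv_mul_cancel, map_one, one_mul]

end

variable {p : ℕ} [hp : Fact p.Prime] {V : Type*} [AddCommGroup V] [Module (ZMod p) V] [Finite V]

theorem quad_torus {M : Type*} [Group M] [Finite M] {ρ : M →* Module.End (ZMod p) V}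
    {P H : Subgroup M} {z g : M} (h5 : 5 ≤ p) (hρ : Function.Injective ρ) (hse : SE p ⊤ P H)
    (hz : z ∈ P) (h1 : z ≠ 1) (hg : g ∉ H) {A B : Module.End (ZMod p) V} (hA : A = ρ z - 1)
    (hB : B = ρ (g * z * g⁻¹) - 1) (hq : A * A = 0) {a b : ℕ} (hab : (a : ZMod p) * b = 1) :
    ∃ δ : M, δ ^ (p - 1) = 1 ∧ δ * z * δ⁻¹ = z ^ (a * a) ∧ ρ δ * A = (a : ZMod p) • A ∧
      A * ρ δ = (b : ZMod p) • A ∧ ρ δ * B = (b : ZMod p) • B ∧
      (∀ v, ∃ u u', ρ δ v - v = A u + B u') ∧ (∀ v, A v = 0 → ∃ u, ρ δ v - v = A u) ∧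
      ∀ v, A v = 0 → ρ δ v = v → (a : ZMod p) ≠ 1 → B v = 0 := by
  obtain ⟨k1, k2⟩ := se_pair hse hz h1 hg rfl
  generalize hK : closure {z, g * z * g⁻¹} = K at k1 k2
  let z' : K := ⟨z, hK ▸ subset_closure (by simp)⟩
  let w' : K := ⟨g * z * g⁻¹, hK ▸ subset_closure (by simp)⟩
  have hab' : closure {z', w'} = ⊤ := by
    apply map_injective K.subtype_injective
    rw [MonoidHom.map_closure, ← MonoidHom.range_eq_map, range_subtype, Set.image_pair]
    exact hK
  let σ := ρ.comp K.subtype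
  have hσ : Function.Injective σ := hρ.comp K.subtype_injective
  have eA : σ z' - 1 = A := hA.symm
  have eB : σ w' - 1 = B := hB.symm
  have hBB : B * B = 0 := by
    have e : B = ρ g * A * ρ g⁻¹ := by
      rw [hA, hB, mul_sub, sub_mul, mul_one, ← map_mul, ← map_mul, ← map_mul, mul_inv_cancel, map_one]
    rw [e, show ∀ a x b : Module.End (ZMod p) V, a * x * b * (a * x * b) = a * (x * (b * a) * x) * b
      from fun _ _ _ => by noncomm_ring, ← map_mul, inv_mul_cancel, map_one, mul_one, hq, mul_zero,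
      zero_mul]
  obtain ⟨Λ, π, q1, q2, q3, q4⟩ := exists_pi σ hab' (eA ▸ hq) (eB ▸ hBB) rfl
  rw [eA, eB] at q3 q4
  have hcA := commute_T_left (B := B) hq
  have hcB := commute_T_right (A := A) hBB
  generalize hc : A * B + B * A = c at q3 q4 hcA hcB
  have sA : σ z' = 1 + A := by rw [← eA, add_sub_cancel]
  have sB : σ w' = 1 + B := by rw [← eB, add_sub_cancel]
  have hcK : ∀ x, Commute c (σ x) := fun x => by
    have hx : x ∈ closure {z', w'} := hab' ▸ mem_top x
    induction hx using closure_induction with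
    | mem x hx =>
      rcases hx with rfl | rfl
      · rw [sA]; exact (Commute.one_right c).add_right hcA
      · rw [sB]; exact (Commute.one_right c).add_right hcB
    | one => simp
    | mul x y _ _ hx hy => rw [map_mul]; exact hx.mul_right hy
    | inv x _ hx => exact hx.units_inv_right (u := σ.toHomUnits x)
  have hker : ∀ x, (∀ i, π i x = 1) → ∃ n, x ^ p ^ n = 1 := fun x hx => by
    obtain ⟨n, hn⟩ := exists_pow_eq_one_of_isNilpotent (K := ZMod p) p (q2 x hx)
    exact ⟨n, hσ (by rw [map_pow, hn, map_one])⟩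
  have hz1 : z' ≠ 1 := fun e => h1 (congrArg Subtype.val e)
  obtain ⟨r1, -, r3⟩ := single_block h5 hab' hz1 π (fun l => l.1) q1 hker k1 k2
  obtain ⟨z₁, c1, c2, r2⟩ := qt_elt h5 hab' hz1 π (fun l => l.1) q1 hker k1 k2
  have : Module.Finite (ZMod p) V := Module.Finite.of_finite
  let D := Module.finrank (ZMod p) V
  let N : Subgroup K := subgroupOfFinite {x | ∀ v, (c ^ D) v = 0 → σ x v = v} (by simp)
    fun a b ha hb v hv => by rw [map_mul, Module.End.mul_apply, hb v hv, ha v hv]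
  have hM : ∀ x v m, (c ^ m) v = 0 → σ x v = v := fun x v m hv => by
    refine (r3 N ⟨fun a ha b v hv => ?_⟩ fun x => ?_).ge (mem_top x) v
      (Module.End.ker_pow_le_ker_pow_finrank c m hv)
    · rw [map_mul, map_mul, Module.End.mul_apply, Module.End.mul_apply, ha, ← Module.End.mul_apply,
        ← map_mul, mul_inv_cancel, map_one, Module.End.one_apply]
      rw [← Module.End.mul_apply, ((hcK _).pow_left D).eq, Module.End.mul_apply, hv, map_zero]
    · obtain ⟨e, e1, e2⟩ := q4 x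
      refine ⟨2 * D, fun v hv => ?_⟩
      rcases subsingleton_or_nontrivial V with hs | hs
      · exact Subsingleton.elim _ _
      have : CharP (Module.End (ZMod p) V) p :=
        charP_of_injective_algebraMap (algebraMap (ZMod p) _).injective p
      obtain ⟨j, hj⟩ := Nat.exists_eq_add_of_le' (Nat.lt_pow_self hp.out.one_lt (n := 2 * D)).le
      have e3 := sub_pow_char_pow_of_commute p (2 * D) (Commute.one_right (σ x))
      rw [one_pow, ← map_pow] at e3
      rw [← sub_eq_zero]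
      change (σ (x ^ p ^ (2 * D)) - 1) v = 0
      rw [← e3, hj, pow_add, pow_mul, e2, e1, (Commute.mul_pow e1.symm D),
        Module.End.mul_apply, Module.End.mul_apply, hv, map_zero, map_zero]
  have h2 : (2 : ZMod p) ≠ 0 := fun e => by
    have := Nat.le_of_dvd two_pos ((ZMod.natCast_eq_zero_iff 2 p).1 e); omega
  obtain ⟨γ, g1, g2, g3, g4, g5⟩ := qt_ring h5 σ hab' sA sB hq hBB hc.symm hM c1 c2 (by
    generalize z₁ * w'⁻¹ * z₁ * (z₁ * w'⁻¹ * z₁) = t at r2
    have t2 : σ t * σ t = 1 := by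
      rw [← map_mul, r1 (t * t) fun i => by rw [map_mul, r2]; simp, map_one]
    obtain ⟨j, hj⟩ := q3 t r2
    have e1 : Commute (σ t + 1) (c ^ 2) :=
      (((hcK t).add_right (Commute.one_right c)).pow_left 2).symm
    have e2 : ∀ j, (σ t + 1) ^ (j + 1) = (2 : ZMod p) ^ j • (σ t + 1) := fun j => by
      induction j with
      | zero => simp
      | succ j ih =>
        rw [pow_succ, ih, smul_mul_assoc, pow_succ, mul_smul, two_smul]
        congr 1
        rw [add_mul, mul_add, t2]; noncomm_ring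
    have e3 : ((σ t + 1) * c ^ 2) ^ (j + 1) = 0 := by rw [pow_succ, hj, zero_mul]
    rw [e1.mul_pow, e2, smul_mul_assoc, smul_eq_zero_iff_right (pow_ne_zero _ h2),
      (e1.pow_right _).eq, ← pow_mul] at e3
    exact ⟨_, e3⟩)
  rw [← hc] at g4 g5
  have XBA : γ * A * (B * A) = A := by
    rw [mul_assoc, add_mul, mul_assoc B, hq, mul_zero, add_zero, mul_assoc] at g4
    rwa [mul_assoc]
  have BXB : B * (γ * A * B) = B := by
    rw [mul_assoc, add_mul, mul_assoc A, hBB, mul_zero, zero_add, ← mul_assoc, ← mul_assoc,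
      g2] at g5
    rwa [← mul_assoc, ← mul_assoc]
  have XA : γ * A * A = 0 := by rw [mul_assoc, hq, mul_zero]
  have AX : A * (γ * A) = 0 := by rw [← mul_assoc, ← g1, XA]
  have ABX : A * (B * (γ * A)) = A := by
    rw [← mul_assoc B, ← g2, mul_assoc, ← mul_assoc, ← g1, XBA]
  have XX : γ * A * (γ * A) = 0 := by rw [mul_assoc, AX, mul_zero]
  have XBX : γ * A * (B * (γ * A)) = γ * A := by rw [mul_assoc, ABX]
  have Xv : ∀ v, (γ * A) v = A (γ v) := fun v => by rw [g1]; rfl
  have X0 : ∀ v, A v = 0 → (γ * A) v = 0 := fun v hv => by rw [Module.End.mul_apply, hv, map_zero]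
  generalize γ * A = X at g3 XBA BXB XA AX ABX XX XBX Xv X0
  let δ : K := z₁ ^ a * w'⁻¹ ^ b * z₁ ^ a * (z₁⁻¹ * w' * z₁⁻¹)
  have hδ : σ δ = 1 + ((a : ZMod p) - 1) • (X * B) + ((b : ZMod p) - 1) • (B * X) := by
    simp only [δ, map_mul, map_pow]
    rw [QT3.inv σ g3 XX, QT3.inv σ sB hBB, g3, sB, sub_eq_add_neg 1 B, QT3.pw (k := ZMod p) XX,
      QT3.pw (k := ZMod p) (X := -B) (by rw [neg_mul_neg, hBB]), QT3.prod hab XX hBB XBX BXB]
  have d1 : σ δ * A = (a : ZMod p) • A := by
    rw [hδ, add_mul, add_mul, smul_mul_assoc, smul_mul_assoc, mul_assoc, mul_assoc, XBA, XA]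
    simp [sub_smul]
  have d2 : A * σ δ = (b : ZMod p) • A := by
    rw [hδ, mul_add, mul_add, mul_smul_comm, mul_smul_comm, ← mul_assoc, AX, ABX]
    simp [sub_smul]
  have d3 : σ δ * B = (b : ZMod p) • B := by
    rw [hδ, add_mul, add_mul, smul_mul_assoc, smul_mul_assoc, mul_assoc, mul_assoc, hBB, BXB]
    simp [sub_smul]
  have d4 : ∀ v, σ δ v - v = A (((a : ZMod p) - 1) • γ (B v)) + B (((b : ZMod p) - 1) • X v) :=
    fun v => by
    rw [hδ, map_smul, map_smul, ← Xv]
    simp only [LinearMap.add_apply, LinearMap.smul_apply, Module.End.mul_apply,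
      Module.End.one_apply]
    abel
  refine ⟨δ, ?_, ?_, d1, d2, d3, fun v => ⟨_, _, d4 v⟩, fun v hv => ⟨_, (d4 v).trans (by
    rw [X0 v hv, smul_zero, map_zero, add_zero])⟩, fun v hv e ha => ?_⟩
  · refine congrArg Subtype.val (hσ (?_ : σ (δ ^ (p - 1)) = σ 1))
    rw [map_pow, hδ, QT3.pw2 (by rw [mul_assoc, BXB]) (by rw [mul_assoc, XBX])
      (by rw [mul_assoc, ← mul_assoc B, hBB, zero_mul, mul_zero])
      (by rw [mul_assoc, ← mul_assoc X, XX, zero_mul, mul_zero]),
      ZMod.pow_card_sub_one_eq_one (left_ne_zero_of_mul_eq_one hab),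
      ZMod.pow_card_sub_one_eq_one (right_ne_zero_of_mul_eq_one hab)]
    simp
  · rw [mul_inv_eq_iff_eq_mul]
    refine congrArg Subtype.val (hσ (?_ : σ (δ * z') = σ (z' ^ (a * a) * δ)))
    rw [map_mul σ δ, map_mul σ _ δ, map_pow, sA, QT3.pw (k := ZMod p) hq, mul_add, add_mul, smul_mul_assoc,
      d1, d2, smul_smul, Nat.cast_mul, mul_assoc, hab, mul_one, mul_one, one_mul]
  · have e1 := d4 v
    rw [show σ δ v = v from e, sub_self, X0 v hv, smul_zero, map_zero, add_zero, map_smul, ← Xv,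
      eq_comm, smul_eq_zero_iff_right (sub_ne_zero.2 ha)] at e1
    rw [← BXB, Module.End.mul_apply, Module.End.mul_apply, e1, map_zero]

end Cfsg.Lib.MCE
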