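import Cfsg.Agent.MCE.D3
import Cfsg.Agent.MCE.D4a
import Cfsg.Agent.MCE.QT3

/-! Lifting the torus to automorphisms of the two-step centralizer. -/

set_option autoImplicit false

namespace Cfsg.Lib.MCE

open Cfsg Cfsg.FusionSystem Subgroup Cfsg.Lib.Solv Cfsg.Lib.Fus Cfsg.Lib.Fus.Ess Cfsg.Lib.Grz
open scoped commutatorElement

universe u

variable {G : Type u} [Group G] {p m : ℕ} [Finite G] [hp : Fact p.Prime] {E : Subgroup G}
  {A B : Subgroup (MulAut E)} {Γ : Subgroup (MulAut (lay G 0))}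

theorem Dat.exists_tor (D : Dat p m E A B Γ) (hN : ∀ α ∈ A, ZI m α → α ∈ B) :
    ∃ (k : ℕ) (z : G) (g : MulAut E), Tor p m E k z g ∧ AllDel p m E z g Γ := by
  obtain ⟨k, z, k1, hk, zk, zE, hq⟩ := exists_quad D.mc D.two D.le D.nn (D.center_le.trans omz_le)
  obtain ⟨g, gA, gB⟩ := SetLike.not_le_iff_exists.1 D.lt.not_ge
  have cW := D.cW hN
  refine ⟨k, z, g, ⟨k1, hk, zk, zE, cW, D.cg hN gA gB⟩, fun a b hab => ?_⟩
  obtain ⟨V, _, _, _, π, M, _, _, ρ, θ, S, inj, hρ, se, l⟩ := D.exists_lin hN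
  have zN : z ∈ normalizer (E : Set G) := mem_normalizer_of_finite fun e he =>
    (E.mul_mem_cancel_right (inv_mem he)).1 (hk (comm_top D.mc D.two zk e).1)
  have z0 : z ∈ lay G 0 := D.norm_le zN
  have cT := conjAut_mem_autInducedBy (mem_top z) zN
  let c : A := ⟨_, D.sylA.le cT⟩
  have cP := mem_map_of_mem θ (show c ∈ (autInducedBy ⊤ E).subgroupOf A from cT)
  have pinj : ∀ {v w}, v ∈ omz p E → w ∈ omz p E → π v = π w → v = w := fun hv hw e =>
    inv_mul_eq_one.1 (mem_bot.1 ((S.eq_iff hv hw).1 e))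
  have cm : ∀ {v}, v ∈ omz p E → ⁅z, v⁆ ∈ omz p E := fun hv => (conj_mem_omz zN hv).2
  have hc : ∀ v ∈ omz p E, ρ (θ c) (π v) = π (z * v * z⁻¹) := fun v hv => by
    rw [hρ c v hv, pext_conjAut zN hv.1]
  have hA : ∀ v ∈ omz p E, (ρ (θ c) - 1) (π v) = π ⁅z, v⁆ := fun v hv => by
    rw [commutatorElement_def, S.add _ (conj_mem_omz zN hv).1 _ (inv_mem hv), S.inv hv,
      LinearMap.sub_apply, hc v hv, sub_eq_add_neg, Module.End.one_apply]
  have hB : ∀ v ∈ omz p E, (ρ (θ ⟨g, gA⟩ * θ c * (θ ⟨g, gA⟩)⁻¹) - 1) (π (pext E g v)) =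
      π (pext E g ⁅z, v⁆) := fun v hv => by
    rw [← hρ ⟨g, gA⟩ v hv, ← hρ ⟨g, gA⟩ _ (cm hv), ← hA v hv, ← Module.End.mul_apply,
      ← Module.End.mul_apply, sub_mul, mul_sub, ← map_mul ρ, ← map_mul ρ, inv_mul_cancel_right,
      one_mul, mul_one]
  have c1 : θ c ≠ 1 := fun e => zE (cW z fun v hv => mul_inv_eq_iff_eq_mul.1 (pinj
    (conj_mem_omz zN hv).1 hv (by rw [← hc v hv, e, map_one, Module.End.one_apply])))
  obtain ⟨δ, d1, d2, d3, d4, d5, d6, d7, d8⟩ := quad_torus D.five inj se cP c1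
    (fun e => gB (l ⟨g, gA⟩ e)) rfl rfl (LinearMap.ext fun v => by
      obtain ⟨x, hx, rfl⟩ := S.surj v
      rw [Module.End.mul_apply, hA x hx, hA _ (cm hx), hq x hx, S.one, LinearMap.zero_apply]) hab
  obtain ⟨β, hβ, rfl⟩ := se.fuse δ (mem_top _) _ cP c1 (d2 ▸ pow_mem cP _)
  obtain ⟨γ, hγ, e⟩ := D.ext β hβ
  obtain ⟨n, hn, n1⟩ := exists_pow_pprime_part (p := p) γ (m := p - 1)
    ((Nat.coprime_self_sub_left hp.out.one_le).2 (Nat.coprime_one_left p))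
  have ef : ∀ n : ℕ, ∀ x ∈ E, pext _ (γ ^ n) x = pext E (β ^ n).1 x := fun n => by
    induction n with
    | zero => exact fun x _ => by rw [pow_zero, pow_zero, coe_one, pext_one, pext_one]
    | succ n ih =>
      intro x hx
      rw [pow_succ, pow_succ, coe_mul, pext_mul, pext_mul, e x hx, ih _ (pext_mem _ hx)]
  have fW : ∀ v ∈ omz p E, pext _ (γ ^ n) v ∈ omz p E := fun v hv =>
    ef n v hv.1 ▸ pext_mem_omz _ hv
  have hf : ∀ v ∈ omz p E, π (pext _ (γ ^ n) v) = ρ (θ β) (π v) := fun v hv => by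
    rw [ef n v hv.1, ← hρ _ v hv, map_pow, pow_eq_pow_iff_modEq.2
      (n1.of_dvd (orderOf_dvd_of_pow_eq_one d1)), pow_one]
  have sb : ∀ v ∈ omz p E, π (v⁻¹ * pext _ (γ ^ n) v) = ρ (θ β) (π v) - π v := fun v hv => by
    rw [S.add _ (inv_mem hv) _ (fW v hv), S.inv hv, hf v hv, neg_add_eq_sub]
  have gW : ∀ {v}, v ∈ omz p E → pext E g v ∈ omz p E := pext_mem_omz g
  refine ⟨γ ^ n, pow_mem hγ n, hn, hab, mulOn_pext _, fW, cW _ fun v hv => ?_,
    fun v hv => pinj (fW _ (cm hv)) (pow_mem (cm hv) a) ?_,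
    fun v hv => pinj (cm (fW v hv)) (pow_mem (cm hv) b) ?_,
    fun v hv => pinj (fW _ (gW (cm hv))) (pow_mem (gW (cm hv)) b) ?_, fun v hv => ?_,
    fun v hv h1 => ?_, fun a1 v hv v1 h1 => ?_⟩
  · have hx := pext_mem_omz (β ^ n).1⁻¹ hv
    have h1 := (ef n _ hx.1).trans (pext_pext_inv _ v)
    generalize pext E (β ^ n).1⁻¹ v = x at hx h1
    have h2 := (conj_mem_omz zN hx).1
    have h3 := pinj (fW _ h2) (conj_mem_omz (pow_mem zN (a * a)) hv).1 (by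
      rw [hf _ h2, ← hc x hx, ← pext_conjAut (pow_mem zN _) hv.1, ← conjAut_pow zN,
        ← show (c ^ (a * a)).1 = _ ^ (a * a) from rfl, ← hρ _ v hv, map_pow, ← d2, ← h1, hf x hx,
        ← Module.End.mul_apply, ← Module.End.mul_apply, ← map_mul ρ, ← map_mul ρ,
        inv_mul_cancel_right])
    rw [mulOn_pext _ _ (mul_mem z0 (D.le hx.1)) _ (inv_mem z0), mulOn_pext _ _ z0 _ (D.le hx.1),
      (mulOn_pext _).map_inv z0, h1] at h3
    rw [mul_assoc, mul_inv_eq_iff_eq_mul.1 h3]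
    group
  · rw [hf _ (cm hv), S.pow (p := p) (cm hv), ← hA v hv, ← Module.End.mul_apply, d3,
      LinearMap.smul_apply]
  · rw [← hA _ (fW v hv), hf v hv, S.pow (p := p) (cm hv), ← hA v hv, ← Module.End.mul_apply, d4,
      LinearMap.smul_apply]
  · rw [hf _ (gW (cm hv)), S.pow (p := p) (gW (cm hv)), ← hB v hv, ← Module.End.mul_apply, d5,
      LinearMap.smul_apply]
  · obtain ⟨u, u', h1⟩ := d6 (π v)
    obtain ⟨x, hx, rfl⟩ := S.surj u
    obtain ⟨y, hy, rfl⟩ := S.surj u'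
    have hy' := pext_mem_omz g⁻¹ hy
    refine ⟨x, hx, _, hy', pinj (mul_mem (inv_mem hv) (fW v hv)) (mul_mem (cm hx) (gW (cm hy'))) ?_⟩
    rw [sb v hv, S.add _ (cm hx) _ (gW (cm hy')), h1, hA x hx, ← hB _ hy', pext_pext_inv]
  · obtain ⟨u, h2⟩ := d7 (π v) (by rw [hA v hv, h1, S.one])
    obtain ⟨x, hx, rfl⟩ := S.surj u
    exact ⟨x, hx, pinj (mul_mem (inv_mem hv) (fW v hv)) (cm hx) (by rw [sb v hv, h2, hA x hx])⟩
  · have hv' := D.center_le hv
    have hy := pext_mem_omz g⁻¹ hv'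
    have h2 := d8 (π v) (by rw [hA v hv', commutatorElement_eq_one_iff_mul_comm.2 (D0.cen D hv z),
      S.one]) (by rw [← hf v hv', h1]) a1
    rw [← pext_pext_inv g v, hB _ hy, S.zero _ (gW (cm hy)), mem_bot, ← (mulOn_pext g).map_one,
      (pext E g).injective.eq_iff, commutatorElement_eq_one_iff_mul_comm] at h2
    exact zE (D.cg hN (inv_mem gA) (mt B.inv_mem_iff.1 gB) v hv v1 z h2)

end Cfsg.Lib.MCE
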