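import Cfsg.Agent.MCN.Defs
import Cfsg.Agent.Grz.MaxFive
import Cfsg.Agent.Fus.Restrict

/-! Essential subgroups over a group of maximal class: definitions. -/

set_option autoImplicit false

namespace Cfsg.Lib.MCE

open Cfsg Cfsg.FusionSystem Subgroup Cfsg.Lib.Solv Cfsg.Lib.Fus Cfsg.Lib.Fus.Ess Cfsg.Lib.Grz
open scoped commutatorElement

/-- The chief series of the two-step centralizer: `lay G 0 = twoStep G 1`, `lay G i = gam G i`. -/
def lay (G : Type*) [Group G] (i : ℕ) : Subgroup G := if i = 0 then twoStep G 1 else gam G i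

theorem lay_eq_1' : type_of% @lay.eq_1 := @lay.eq_1

/-- The automorphisms of `lay G 0` induced by conjugation in `G`. -/
abbrev T0 (G : Type*) [Group G] : Subgroup (MulAut (lay G 0)) := autInducedBy ⊤ (lay G 0)

/-- The layer `lay G i` inside `lay G 0`. -/
abbrev lay0 (G : Type*) [Group G] (i : ℕ) : Subgroup (lay G 0) := (lay G i).subgroupOf (lay G 0)

/-- The group is not exceptional. -/
def NE (m : ℕ) (G : Type*) [Group G] : Prop := twoStep G (m - 1) = lay G 0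

theorem NE_eq_1' : type_of% @NE.eq_1 := @NE.eq_1

variable {G : Type*} [Group G]

theorem lay_zero : lay G 0 = twoStep G 1 := if_pos rfl

theorem lay_of_pos {i : ℕ} (hi : 1 ≤ i) : lay G i = gam G i := if_neg (by omega)

theorem lay_succ (i : ℕ) : lay G (i + 1) = gam G (i + 1) := lay_of_pos (by omega)

theorem twoStep_char (i : ℕ) : (twoStep G i).Characteristic :=
  characteristic_iff_map_le.2 fun τ => by
    rintro _ ⟨x, hx, rfl⟩
    exact twoStep_map i τ x hx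

instance lay_char (i : ℕ) : (lay G i).Characteristic := by
  rcases Nat.eq_zero_or_pos i with rfl | h
  · rw [lay_zero]; exact twoStep_char 1
  · rw [lay_of_pos h]; infer_instance

instance lay_normal (i : ℕ) : (lay G i).Normal := inferInstance

theorem mem_norm_lay (x : G) (i : ℕ) : x ∈ normalizer (lay G i : Set G) :=
  normalizer_eq_top (lay G i) ▸ mem_top x

/-- Conjugation by `x` on `lay G 0`. -/
abbrev c0 (x : G) : MulAut (lay G 0) := conjAut (lay G 0) x (mem_norm_lay x 0)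

/-- `x` has weight exactly `i`. -/
def Wg (i : ℕ) (x : G) : Prop := x ∈ lay G i ∧ x ∉ lay G (i + 1)

theorem Wg_eq_1' : type_of% @Wg.eq_1 := @Wg.eq_1

/-- `f` acts on the factor `lay G i / lay G (i + 1)` as the `a`-th power map. -/
def Eg (f : G → G) (i a : ℕ) : Prop := ∀ x ∈ lay G i, (x ^ a)⁻¹ * f x ∈ lay G (i + 1)

theorem Eg_eq_1' : type_of% @Eg.eq_1 := @Eg.eq_1

/-- `f` is an automorphism of `lay G 0` normalizing the action of `G`, with multiplier `l`. -/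
structure LA (f : G → G) (l : ℕ) : Prop where
  mul : MulOn (lay G 0) f
  inj : ∀ x ∈ lay G 0, f x = 1 → x = 1
  maps : ∀ x ∈ lay G 0, f x ∈ lay G 0
  nrm : ∃ x x', x ∉ lay G 0 ∧ x' ∉ lay G 0 ∧ (x ^ l)⁻¹ * x' ∈ lay G 0 ∧
    ∀ y ∈ lay G 0, f (x * y * x⁻¹) = x' * f y * x'⁻¹

/-- `π` identifies the section `X / Y` with the additive group `V`. -/
structure Sec {V : Type*} [AddCommGroup V] (X Y : Subgroup G) (π : G → V) : Prop where
  le : Y ≤ X
  add : ∀ x ∈ X, ∀ y ∈ X, π (x * y) = π x + π y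
  surj : ∀ v, ∃ x ∈ X, π x = v
  zero : ∀ x ∈ X, π x = 0 ↔ x ∈ Y

/-- The central elements of order dividing `p` of `E`. -/
def omz (p : ℕ) (E : Subgroup G) : Subgroup G where
  carrier := {x | x ∈ E ∧ x ^ p = 1 ∧ ∀ y ∈ E, x * y = y * x}
  one_mem' := ⟨E.one_mem, one_pow p, fun y _ => by rw [one_mul, mul_one]⟩
  mul_mem' := fun {a b} ha hb => ⟨E.mul_mem ha.1 hb.1, by
    rw [Commute.mul_pow (ha.2.2 b hb.1), ha.2.1, hb.2.1, one_mul], fun y hy => by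
    rw [mul_assoc, hb.2.2 y hy, ← mul_assoc, ha.2.2 y hy, mul_assoc]⟩
  inv_mem' := fun {a} ha => ⟨E.inv_mem ha.1, by rw [inv_pow, ha.2.1, inv_one], fun y hy =>
    (Commute.inv_left (ha.2.2 y hy : Commute a y)).eq⟩

theorem omz_eq_1' : type_of% @omz.eq_1 := @omz.eq_1

theorem mem_omz {p : ℕ} {E : Subgroup G} {x : G} :
    x ∈ omz p E ↔ x ∈ E ∧ x ^ p = 1 ∧ ∀ y ∈ E, x * y = y * x := Iff.rfl

theorem omz_le {p : ℕ} {E : Subgroup G} : omz p E ≤ E := fun _ h => h.1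

theorem omz_comm {p : ℕ} {E : Subgroup G} {v w : G} (hv : v ∈ omz p E) (hw : w ∈ E) :
    v * w = w * v := hv.2.2 w hw

theorem conj_mem_omz {p : ℕ} {E : Subgroup G} {y v : G} (hy : y ∈ normalizer (E : Set G))
    (hv : v ∈ omz p E) : y * v * y⁻¹ ∈ omz p E ∧ ⁅y, v⁆ ∈ omz p E := by
  have h : y * v * y⁻¹ ∈ omz p E := ⟨(mem_normalizer_iff.1 hy v).1 hv.1, by
    rw [conj_pow, hv.2.1, mul_one, mul_inv_cancel], fun u hu => by
    have := hv.2.2 _ ((mem_normalizer_iff''.1 hy u).1 hu)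
    calc y * v * y⁻¹ * u = y * (v * (y⁻¹ * u * y)) * y⁻¹ := by group
      _ = u * (y * v * y⁻¹) := by rw [this]; group⟩
  exact ⟨h, mul_mem h (inv_mem hv)⟩

theorem pext_mem_omz {p : ℕ} {E : Subgroup G} (g : MulAut E) {v : G} (hv : v ∈ omz p E) :
    pext E g v ∈ omz p E := by
  refine ⟨pext_mem g hv.1, ?_, fun u hu => ?_⟩
  · rw [pext_of_mem g hv.1, ← coe_pow, ← map_pow,
      show (⟨v, hv.1⟩ : E) ^ p = 1 from Subtype.ext hv.2.1, map_one, coe_one]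
  · rw [← pext_pext_inv g u, ← mulOn_pext g _ hv.1 _ (pext_mem _ hu),
      ← mulOn_pext g _ (pext_mem _ hu) _ hv.1, hv.2.2 _ (pext_mem _ hu)]

theorem comm_omz {p : ℕ} {E : Subgroup G} {y v v' : G} (hy : y ∈ normalizer (E : Set G))
    (hv : v ∈ omz p E) (hv' : v' ∈ omz p E) : ⁅y, v * v'⁆ = ⁅y, v⁆ * ⁅y, v'⁆ := by
  have := omz_comm (inv_mem hv) (conj_mem_omz hy hv').2.1
  calc ⁅y, v * v'⁆ = y * v * y⁻¹ * (⁅y, v'⁆ * v⁻¹) := by simp only [commutatorElement_def]; group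
    _ = _ := by rw [← this, commutatorElement_def y v]; group

theorem comm_omz_pow {p : ℕ} {E : Subgroup G} {y v : G} (hy : y ∈ normalizer (E : Set G))
    (hv : v ∈ omz p E) (n : ℕ) : ⁅y, v ^ n⁆ = ⁅y, v⁆ ^ n := by
  induction n with
  | zero => simp
  | succ n ih => rw [pow_succ, comm_omz hy (pow_mem hv n) hv, ih, pow_succ]

theorem comm_omz_inv {p : ℕ} {E : Subgroup G} {y v : G} (hy : y ∈ normalizer (E : Set G))
    (hv : v ∈ omz p E) : ⁅y, v⁻¹⁆ = ⁅y, v⁆⁻¹ :=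
  eq_inv_of_mul_eq_one_left (by rw [← comm_omz hy (inv_mem hv) hv]; simp)

instance omz_normal {p : ℕ} (E : Subgroup G) [E.Normal] : (omz p E).Normal :=
  ⟨fun _ hv g => (conj_mem_omz (normalizer_eq_top E ▸ mem_top g) hv).1⟩

/-- The data of a non-normal essential subgroup `E` inside the two-step centralizer, whose
extendable automorphisms extend to the two-step centralizer. -/
structure Dat (p m : ℕ) (E : Subgroup G) (A B : Subgroup (MulAut E))
    (Γ : Subgroup (MulAut (lay G 0))) : Prop where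
  mc : MC p m G
  five : 5 ≤ p
  two : 2 ≤ m
  le : E ≤ lay G 0
  nn : ¬ E.Normal
  cent : centralizer (E : Set G) ≤ E
  sylA : SylIn p (autInducedBy ⊤ E) A
  sylΓ : SylIn p (T0 G) Γ
  leB : autInducedBy ⊤ E ≤ B
  lt : B < A
  fuse : ∀ g ∈ A, ∀ t ∈ autInducedBy ⊤ E, t ∉ Inn E → g * t * g⁻¹ ∈ autInducedBy ⊤ E → g ∈ B
  ext : ∀ b ∈ B, ∃ γ ∈ Γ, ∀ x ∈ E, pext (lay G 0) γ x = pext E b x

/-- The automorphism `α` of `E` leaves `lay G m` invariant. -/
def ZI (m : ℕ) {E : Subgroup G} (α : MulAut E) : Prop := ∀ v ∈ lay G m, pext E α v ∈ lay G m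

theorem ZI_eq_1' : type_of% @ZI.eq_1 := @ZI.eq_1

/-- The element `z` of the last layer not contained in `E`, and an automorphism `g` moving the
centre. -/
structure Tor (p m : ℕ) (E : Subgroup G) (k : ℕ) (z : G) (g : MulAut E) : Prop where
  one_le : 1 ≤ k
  sub : lay G (k + 1) ≤ E
  zmem : z ∈ lay G k
  znot : z ∉ E
  cW : ∀ y, (∀ v ∈ omz p E, y * v = v * y) → y ∈ E
  cg : ∀ v ∈ lay G m, v ≠ 1 → ∀ y, y * pext E g v = pext E g v * y → y ∈ E

/-- A torus element `diag (a, b)` acting on `omz p E`. -/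
structure Del (p m : ℕ) (E : Subgroup G) (z : G) (g : MulAut E) (f : G → G) (a b : ℕ) : Prop where
  ab : (a : ZMod p) * b = 1
  mul : MulOn (lay G 0) f
  mapsW : ∀ v ∈ omz p E, f v ∈ omz p E
  hz : (z ^ (a * a))⁻¹ * f z ∈ E
  hA : ∀ v ∈ omz p E, f ⁅z, v⁆ = ⁅z, v⁆ ^ a
  hA' : ∀ v ∈ omz p E, ⁅z, f v⁆ = ⁅z, v⁆ ^ b
  hB : ∀ v ∈ omz p E, f (pext E g ⁅z, v⁆) = pext E g ⁅z, v⁆ ^ b
  hR : ∀ v ∈ omz p E, ∃ u ∈ omz p E, ∃ u' ∈ omz p E, v⁻¹ * f v = ⁅z, u⁆ * pext E g ⁅z, u'⁆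
  hK : ∀ v ∈ omz p E, ⁅z, v⁆ = 1 → ∃ u ∈ omz p E, v⁻¹ * f v = ⁅z, u⁆
  hZ : (a : ZMod p) ≠ 1 → ∀ v ∈ lay G m, v ≠ 1 → f v ≠ v

/-- All torus elements are induced by `p'`-elements of `Γ`. -/
def AllDel (p m : ℕ) (E : Subgroup G) (z : G) (g : MulAut E)
    (Γ : Subgroup (MulAut (lay G 0))) : Prop :=
  ∀ a b : ℕ, (a : ZMod p) * b = 1 →
    ∃ γ ∈ Γ, (orderOf γ).Coprime p ∧ Del p m E z g (pext (lay G 0) γ) a b

theorem AllDel_eq_1' : type_of% @AllDel.eq_1 := @AllDel.eq_1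

/-- A normal subgroup of `Γ` whose `p`-elements are inner. -/
structure NI (p : ℕ) (Γ N : Subgroup (MulAut (lay G 0))) : Prop where
  le : N ≤ Γ
  conj : ∀ g ∈ Γ, ∀ n ∈ N, g * n * g⁻¹ ∈ N
  inn : ∀ n ∈ N, ∀ k : ℕ, n ^ p ^ k = 1 → n ∈ Inn (lay G 0)

/-- A pearl. -/
def Pearl (p : ℕ) (E : Subgroup G) : Prop :=
  (Nat.card E = p ^ 2 ∧ IsElementaryAbelian p E) ∨ (Nat.card E = p ^ 3 ∧ IsExtraspecial p E ∧
    (p ≠ 2 → Monoid.exponent E = p) ∧ (p = 2 → Nonempty (E ≃* QuaternionGroup 2)))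

theorem Pearl_eq_1' : type_of% @Pearl.eq_1 := @Pearl.eq_1

/-- `E = lay G k ⊔ ⟨e⟩` with `e` in the centralizer of the second centre, outside `lay G 0`. -/
structure XC (m : ℕ) (E : Subgroup G) (k : ℕ) (e : G) : Prop where
  one_le : 1 ≤ k
  lt : k + 1 ≤ m
  mem : e ∈ twoStep G (m - 1)
  not_mem : e ∉ lay G 0
  eq : E = lay G k ⊔ zpowers e

end Cfsg.Lib.MCE
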