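import Cfsg.Agent.MCE.Defs
import Cfsg.Agent.Fus.FImg
import Cfsg.Agent.Fus.Alperin

/-! Essential subgroups under an isomorphism of fusion systems. -/

set_option autoImplicit false

namespace Cfsg.Lib.MCE

open Cfsg Cfsg.FusionSystem Subgroup Cfsg.Lib.Solv Cfsg.Lib.Fus Cfsg.Lib.Fus.Ess Cfsg.Lib.Grz
open scoped commutatorElement

section FT
variable {Ω : Type*} [Group Ω] {S E Y Q : Subgroup Ω} {F : FusionSystem S} {p : ℕ} [Finite S]
  [hp : Fact p.Prime] {f : Equiv.Perm Ω}

theorem essential_img {Ω' : Type*} [Group Ω'] {S' : Subgroup Ω'} {D : FusionSystem S'}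
    {t : Ω → Ω'} (hS : IsPGroup p S) (hF : F.IsSaturated p) (hD : FImg F D t)
    (hi : Set.InjOn t S) (hE : F.IsEssential p E) : D.IsEssential p (img E t) := by
  have := hD.finite
  obtain ⟨hlt, hN, hne⟩ := (isEssential_iff_closure_extendable hS hF).1 hE
  have hpre : pre S t (img E t) = E :=
    hD.mulOn.pre_img_of_ker_le hlt.le (by rw [hD.mulOn.pre_bot_of_injOn hi]; exact bot_le)
  have hle := hD.img_le hlt.le
  refine (isEssential_iff_closure_extendable (hD.isPGroup hS) (hD.saturated hS hF)).2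
    ⟨lt_of_le_of_ne hle fun e => hlt.ne ?_, (hD.isFullyNormalized_iff hle).2 (hpre.symm ▸ hN),
      fun hcl => hne (le_antisymm ((closure_le _).2 fun α hα => Extendable.mem hα) fun a ha => ?_)⟩
  · rw [← hpre, e, hD.pre_top]
  let e : E ≃* img E t := (hD.mulOn.mono hlt.le).imgEquiv (hi.mono hlt.le)
  let Ψ : MulAut E ≃* MulAut (img E t) := MulAut.congr e
  have hΨ : ∀ (α : MulAut E), ∀ x ∈ E, pext (img E t) (Ψ α) (t x) = t (pext E α x) := by
    intro α x hx
    rw [pext_of_mem _ (mem_img_of_mem t hx), pext_of_mem _ hx]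
    have h1 : (⟨t x, mem_img_of_mem t hx⟩ : img E t) = e ⟨x, hx⟩ := rfl
    rw [h1]
    change (e (α (e.symm (e _))) : Ω') = _
    rw [MulEquiv.symm_apply_apply]
    rfl
  have h1 : Ψ a ∈ D.autGroup (img E t) :=
    (mem_autGroup_pext hle).2 (hD.mor_of ((mem_autGroup_pext hlt.le).1 ha) (hΨ a))
  rw [← hcl] at h1
  have h2 : closure {α | Extendable D (img E t) α} ≤
      (closure {α | Extendable F E α}).comap Ψ.symm.toMonoidHom := by
    refine (closure_le _).2 ?_
    rintro β ⟨R, g, hR, hg, eg⟩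
    obtain ⟨k, hk, ek⟩ := hD.lift_piso hg.piso
    have hER : E ≤ pre S t R := hpre.ge.trans (pre_mono hR.le)
    refine subset_closure ⟨pre S t R, k, lt_of_le_of_ne hER fun e' => hR.ne ?_, hk.mor,
      fun x hx => hi (hk.mor.maps (hER hx)) (hlt.le (pext_mem _ hx)) ?_⟩
    · rw [e', hD.img_pre hg.le]
    · rw [← ek x (hER hx), eg _ (mem_img_of_mem t hx), ← hΨ _ x hx]
      exact congrArg (fun γ => pext (img E t) γ (t x)) (Ψ.apply_symm_apply β).symm
  have h3 : Ψ.symm (Ψ a) ∈ closure {α | Extendable F E α} := h2 h1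
  rwa [MulEquiv.symm_apply_apply] at h3
end FT

end Cfsg.Lib.MCE
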