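import Cfsg.Agent.MCE.TB
import Cfsg.Agent.Solv.CommCalc

/-! The exceptional case: structure. -/

set_option autoImplicit false

namespace Cfsg.Lib.MCE

open Cfsg Cfsg.FusionSystem Subgroup Cfsg.Lib.Solv Cfsg.Lib.Fus Cfsg.Lib.Fus.Ess Cfsg.Lib.Grz
open scoped commutatorElement

universe u

variable {G : Type u} [Group G] {p m k a b l : ℕ} [Finite G] [hp : Fact p.Prime] {E : Subgroup G}
  {A B : Subgroup (MulAut E)} {Γ : Subgroup (MulAut (lay G 0))} {z : G} {g : MulAut E} {f : G → G}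

theorem EX1.chi (D : Dat p m E A B Γ) {X : Subgroup G} {w : G} (hX : ∀ u ∈ X, ⁅u, w⁆ ∈ lay G m) :
    MulOn X fun u => ⁅u, w⁆ := fun u _ v hv => by
  beta_reduce
  rw [commutatorElement_mul_left_eq_conj_mul, D0.cen D (hX v hv) u, mul_inv_cancel_right,
    D0.cen D (hX v hv)]

theorem EX1.split (D : Dat p m E A B Γ) {X : Subgroup G} {w y : G} (hX : ∀ u ∈ X, ⁅u, w⁆ ∈ lay G m)
    (hz : z ∈ X) (hn : ⁅z, w⁆ ≠ 1) (hy : y ∈ X) : ∃ c : ℕ, (z ^ c)⁻¹ * y * w = w * ((z ^ c)⁻¹ * y) := by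
  have hb := lay_eq_bot D.mc D.two (le_refl (m + 1))
  have c := EX1.chi D hX
  obtain ⟨n, e⟩ := Wg.exists_pow D.mc D.two ⟨hX z hz, by rwa [hb]⟩ (hX y hy)
  refine ⟨n, commutatorElement_eq_one_iff_mul_comm.1 ?_⟩
  have := c.map_mul (inv_mem (pow_mem hz n)) hy
  rw [c.map_inv (pow_mem hz n), c.map_pow hz] at this
  rw [hb, mem_bot] at e
  exact this.trans e

theorem ex_struct (D : Dat p m E A B Γ) (hne : ¬ NE m G) (T : Tor p m E k z g) :
    ∃ i j, i + k + 1 = m ∧ i < j ∧ j + 2 ≤ m ∧ (∀ v ∈ lay G m, v ≠ 1 → Wg i (pext E g v)) ∧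
      omz p E ≤ lay G i ∧
      (∀ y, y ∈ lay G j ↔ y ∈ lay G 0 ∧ ∀ u ∈ lay G 0, ⁅y, u⁆ ∈ lay G m) ∧
      ∀ y ∈ lay G j, y ∈ E → y ∈ omz p E := by
  have h := D.mc
  have hm := D.two
  obtain ⟨-, -, h4, hmp⟩ := exc h hm hne
  obtain ⟨wz, hk⟩ := T.wg D
  have k1 := T.one_le
  have hb := lay_eq_bot h hm (le_refl (m + 1))
  obtain ⟨i, hi⟩ : ∃ i, i + k + 1 = m := ⟨m - 1 - k, by omega⟩
  have z0 : z ∈ lay G 0 := lay_anti (Nat.zero_le _) T.zmem
  have low : ∀ y ∈ lay G 0, y ∉ lay G i → ∃ u ∈ E, ⁅y, u⁆ ≠ 1 ∧ ⁅y, u⁆ ∈ lay G m := fun y hy n => by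
    obtain ⟨j, -, ji, wy⟩ := exists_wt hy n
    obtain ⟨u, wu⟩ := exists_wg h hm (i := m - 1 - j) (by omega)
    exact ⟨u, T.sub (lay_anti (by omega) wu.1), pair h hm hne (by omega) wy wu,
      lay_anti (by omega) (comm_lay h hm wy.1 wu.1)⟩
  have ha : omz p E ≤ lay G i := fun w hw => by_contra fun n => by
    obtain ⟨u, hu, e, -⟩ := low w (D.le (omz_le hw)) n
    exact e (commutatorElement_eq_one_iff_mul_comm.2 (omz_comm hw hu))
  have hg : ∀ v ∈ lay G m, v ≠ 1 → Wg i (pext E g v) := fun v hv v1 =>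
    ⟨ha (pext_mem_omz g (D.center_le hv)), fun n => T.znot (T.cg v hv v1 z
      (comm_mem_bot.1 (hb ▸ lay_anti (by omega) (comm_lay h hm T.zmem n))))⟩
  have hY : ∀ y ∈ E, (∀ e ∈ E, ⁅y, e⁆ ∈ lay G m) → ∀ e ∈ E, y * e = e * y := fun y hy c => by
    have key : ∀ e ∈ E, ⁅pext E g y, pext E g e⁆ ∈ lay G (i + 1) → ⁅y, e⁆ = 1 := fun e he n =>
      by_contra fun ne => (hg _ (c e he) ne).2 (by rwa [(mulOn_pext g).map_commutatorElement hy he])
    have y' : pext E g y ∈ lay G i := by_contra fun n => by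
      obtain ⟨u, hu, e, e'⟩ := low _ (D.le (pext_mem g hy)) n
      have hu' := pext_mem g⁻¹ hu
      rw [← pext_pext_inv g u] at e e'
      rw [← (mulOn_pext g).map_commutatorElement hy hu', key _ hu' (lay_anti (by omega) e'),
        (mulOn_pext g).map_one] at e
      exact e rfl
    exact fun e he => commutatorElement_eq_one_iff_mul_comm.1 (key e he (comm_top h hm y' _).1)
  have mJ : ∀ y, y ∈ lay G 0 ⊓ commLe (lay G 0) (lay G m) ↔
      y ∈ lay G 0 ∧ ∀ u ∈ lay G 0, ⁅y, u⁆ ∈ lay G m := fun y =>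
    ⟨fun e => ⟨e.1, e.2.2⟩, fun e => ⟨e.1, mem_norm_lay y m, e.2⟩⟩
  have : (lay G 0 ⊓ commLe (lay G 0) (lay G m)).Normal := ⟨fun n hn x => (mJ _).2
    ⟨(lay_normal 0).conj_mem n hn.1 x, fun u hu => by
      have := (lay_normal m).conj_mem _ (hn.2.2 _ ((lay_normal 0).conj_mem' u hu x)) x
      rwa [show x * ⁅n, x⁻¹ * u * x⁆ * x⁻¹ = ⁅x * n * x⁻¹, u⁆ by
        simp only [commutatorElement_def]; group] at this⟩⟩
  obtain ⟨j, -, hj⟩ := normal_eq h hm (X := lay G 0 ⊓ commLe (lay G 0) (lay G m)) inf_le_left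
  rw [hj] at mJ
  have hJ : ∀ y ∈ lay G (m - 2), y ∈ lay G j := fun y hy => (mJ y).2
    ⟨lay_anti (Nat.zero_le _) hy, fun u hu =>
      lay_anti (by omega) (comm_lay2 h hm hy hu (.inl (by omega)))⟩
  have cJ : ∀ y ∈ lay G j, y ∈ E → ∀ e ∈ E, y * e = e * y := fun y hy hE =>
    hY y hE fun e he => ((mJ y).1 hy).2 e (D.le he)
  have j2 : j ≤ m - 2 := by
    obtain ⟨y, wy⟩ := exists_wg h hm (i := m - 2) (by omega)
    exact wy.mem_iff.1 (hJ y wy.1)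
  have ij : i < j := by
    by_contra n
    obtain ⟨v, wv⟩ := exists_wg h hm (le_refl m)
    have v1 : v ≠ 1 := fun e => wv.2 (e ▸ one_mem _)
    have cw : ∀ u ∈ lay G 0, ⁅u, pext E g v⁆ ∈ lay G m := fun u hu =>
      comm_mem_symm (((mJ _).1 (lay_anti (by omega) (hg v wv.1 v1).1)).2 u hu)
    have all : ∀ c, c ≤ m → c ≠ k → ∃ y ∈ E, Wg c y := fun c c1 c2 => by
      obtain ⟨y, wy⟩ := exists_wg h hm c1
      rcases lt_or_gt_of_ne c2 with c3 | c3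
      · obtain ⟨n, e⟩ := EX1.split D cw z0 (fun e => T.znot (T.cg v wv.1 v1 z
          (commutatorElement_eq_one_iff_mul_comm.1 e))) (lay_anti (Nat.zero_le _) wy.1)
        exact ⟨_, T.cg v wv.1 v1 _ e, (wy.mul (inv_mem (pow_mem (lay_anti c3 T.zmem) n))).2⟩
      · exact ⟨y, T.sub (lay_anti c3 wy.1), wy⟩
    have fin : ∀ c d, c + d + 1 = m → c ≠ k → d ≠ k → m - 2 ≤ d → False := fun c d e c1 d1 d2 => by
      obtain ⟨x, hx, wx⟩ := all c (by omega) c1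
      obtain ⟨y, hy, wy⟩ := all d (by omega) d1
      exact pair h hm hne e wx wy (commutatorElement_eq_one_iff_mul_comm.2
        (cJ y (hJ y (lay_anti d2 wy.1)) hy x hx).symm)
    by_cases km : k + 1 = m
    · exact fin 1 (m - 2) (by omega) (by omega) (by omega) le_rfl
    · exact fin 0 (m - 1) (by omega) (by omega) (by omega) (by omega)
  exact ⟨i, j, hi, ij, by omega, hg, ha, mJ, fun y hy hE => ⟨hE, mem_bot.1
    ((lay_eq_bot h hm (by omega)).le (pow_lay h hm (by omega) hy)), cJ y hy hE⟩⟩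

end Cfsg.Lib.MCE
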