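import Cfsg.Agent.MCE.Defs
import Cfsg.Agent.Solv.HallHigmanCore

/-! Two corollaries of Theorem B of Hall and Higman. -/

set_option autoImplicit false

namespace Cfsg.Lib.MCE

open Cfsg Cfsg.FusionSystem Subgroup Cfsg.Lib.Solv Cfsg.Lib.Fus Cfsg.Lib.Fus.Ess Cfsg.Lib.Grz
open scoped commutatorElement

section HH
variable {p : ℕ} [hp : Fact p.Prime] {V : Type*} [AddCommGroup V] [Module (ZMod p) V] [Finite V]
  {M : Type*} [Group M] [Finite M] {ρ : M →* Module.End (ZMod p) V} {N : Subgroup M} {x : M}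

namespace HHc

omit [Finite M] in
theorem nil (hx : x ^ p = 1) : (ρ x - 1) ^ Module.finrank (ZMod p) V = 0 := by
  have h1 : (ρ x - 1) ^ p = 0 := by
    rcases subsingleton_or_nontrivial V with hV | hV
    · exact Subsingleton.elim _ _
    have : CharP (Module.End (ZMod p) V) p :=
      charP_of_injective_algebraMap (algebraMap (ZMod p) (Module.End (ZMod p) V)).injective p
    rw [sub_pow_char_of_commute p (Commute.one_right _), ← map_pow, hx, map_one, one_pow, sub_self]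
  have h2 := Module.End.ker_pow_le_ker_pow_finrank (ρ x - 1) p
  rw [h1, LinearMap.ker_zero, top_le_iff] at h2
  exact LinearMap.ker_eq_top.1 h2

theorem mem_norm (hxN : ∀ n ∈ N, x * n * x⁻¹ ∈ N) : x ∈ normalizer (N : Set M) :=
  mem_normalizer_fintype hxN

theorem thm (hρ : Function.Injective ρ) (hN : (Nat.card N).Coprime p)
    (hxN : x ∈ normalizer (N : Set M)) (hx : x ^ p = 1) (hy : ¬ N ≤ centralizer {x}) :
    p ≤ Module.finrank (ZMod p) V ∨
      (p - 1 ≤ Module.finrank (ZMod p) V ∧ ∃ Q ≤ N, ¬ IsMulCommutative Q) := by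
  rcases HH.thmB_of_not_le_centralizer p ρ hN (fun g _ e => hρ (e.trans (map_one ρ).symm)) hxN
    (k := 0) (by simpa using hx) (by simpa using hy) (nil hx) with h | ⟨n, q, m, h1, h2, -, -, -,
      ⟨Q, hQ, -, hQ'⟩, h3⟩
  · exact Or.inl (by simpa using h)
  · obtain rfl : n = 1 := by omega
    exact Or.inr ⟨by simpa using h3, Q, hQ, hQ'⟩

end HHc

theorem hh_comm (hρ : Function.Injective ρ) (hN : (Nat.card N).Coprime p)
    (hxN : ∀ n ∈ N, x * n * x⁻¹ ∈ N) (hx : x ^ p = 1) (hd : Module.finrank (ZMod p) V + 2 ≤ p) :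
    ∀ n ∈ N, x * n = n * x := by
  by_contra h
  have hy : ¬ N ≤ centralizer {x} := fun e =>
    h fun n hn => (mem_centralizer_singleton_iff.1 (e hn)).symm
  rcases HHc.thm hρ hN (HHc.mem_norm hxN) hx hy with h | h
  · omega
  · omega

theorem hh_fpf (hρ : Function.Injective ρ) (hN : (Nat.card N).Coprime p)
    (hxN : ∀ n ∈ N, x * n * x⁻¹ ∈ N) (hx : x ^ p = 1) (hd : Module.finrank (ZMod p) V + 1 ≤ p)
    (hf : ∀ n ∈ N, x * n = n * x → n = 1) : N = ⊥ := by
  by_contra h0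
  have key : ∀ Q ≤ N, Q ≠ ⊥ → ¬ Q ≤ centralizer {x} := fun Q hQ hQ0 e =>
    hQ0 (eq_bot_iff.2 fun n hn => mem_bot.2
      (hf n (hQ hn) (mem_centralizer_singleton_iff.1 (e hn)).symm))
  have hcop : (Nat.card (zpowers x)).Coprime (Nat.card N) := by
    rw [Nat.card_zpowers]
    exact hN.symm.coprime_dvd_left (orderOf_dvd_of_pow_eq_one hx)
  obtain ⟨q, Q, hq, hQN, hQ, hxQ, hQY, -⟩ := HH.exists_minimal
    (zpowers_le.2 (HHc.mem_norm hxN)) le_rfl le_normalizer hcop
    (Or.inl (Coprime.isSolvable_zpowers x))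
    (by rw [HH.centralizer_zpowers_eq]; exact key N le_rfl h0)
  have := Fact.mk hq
  have hQ0 : Q ≠ ⊥ := by
    rintro rfl
    exact hQY bot_le
  have hnt : Nontrivial Q := (nontrivial_iff_ne_bot Q).2 hQ0
  have hZ0 : Q ⊓ centralizer (Q : Set M) ≠ ⊥ := by
    have := hQ.center_nontrivial
    obtain ⟨⟨z, hz⟩, hz1⟩ := exists_ne (1 : center Q)
    intro e
    have : (z : M) ∈ Q ⊓ centralizer (Q : Set M) :=
      ⟨z.2, fun y hy => congrArg Subtype.val (mem_center_iff.1 hz ⟨y, hy⟩)⟩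
    rw [e, mem_bot] at this
    exact hz1 (Subtype.ext (Subtype.ext this))
  have hxQ' := hxQ (mem_zpowers x)
  have hxZ : ∀ n ∈ Q ⊓ centralizer (Q : Set M), x * n * x⁻¹ ∈ Q ⊓ centralizer (Q : Set M) := by
    intro n hn
    refine ⟨(mem_normalizer_iff.1 hxQ' n).1 hn.1, fun y hy => ?_⟩
    have := hn.2 _ ((mem_normalizer_iff''.1 hxQ' y).1 hy)
    calc y * (x * n * x⁻¹) = x * (x⁻¹ * y * x * n) * x⁻¹ := by group
      _ = _ := by rw [this]; group
  have hle : Q ⊓ centralizer (Q : Set M) ≤ N := inf_le_left.trans hQN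
  rcases HHc.thm hρ (hN.coprime_dvd_left (card_dvd_of_le hle)) (HHc.mem_norm hxZ) hx
    (key _ hle hZ0) with h | ⟨-, R, hR, hR'⟩
  · omega
  · exact hR' ⟨⟨fun a b => Subtype.ext ((hR b.2).2 a (hR a.2).1)⟩⟩
end HH

end Cfsg.Lib.MCE
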