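import Cfsg.Agent.MCE.L2
import Cfsg.Agent.MCE.Sec

/-! The Frattini module of the two-step centralizer; automorphisms trivial on a section. -/

set_option autoImplicit false

namespace Cfsg.Lib.MCE

open Cfsg Cfsg.FusionSystem Subgroup Cfsg.Lib.Solv Cfsg.Lib.Fus Cfsg.Lib.Fus.Ess Cfsg.Lib.Grz
open scoped commutatorElement

universe u

section R
variable {G : Type u} [Group G] {p m i j : ℕ} [Finite G] [hp : Fact p.Prime]
  {Γ N : Subgroup (MulAut (lay G 0))} {n : MulAut (lay G 0)}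
  (h : MC p m G) (hm : 2 ≤ m) (hΓ : SylIn p (T0 G) Γ)
include h hm hΓ

theorem exists_frat (hN : NI p Γ N) {r : ℕ}
    (hΦ : lay G r ≤ (frattini (lay G 0)).map (lay G 0).subtype) :
    ∃ (V : Type u) (_ : AddCommGroup V) (_ : Module (ZMod p) V) (_ : Finite V) (M : Type u)
      (_ : Group M) (_ : Finite M) (ρ : M →* Module.End (ZMod p) V) (θ : Γ →* M),
      Function.Injective ρ ∧ Module.finrank (ZMod p) V ≤ r ∧
      (Nat.card ((N.subgroupOf Γ).map θ)).Coprime p ∧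
      (∀ g : Γ, g.1 ∈ Inn (lay G 0) → θ g = 1) ∧ ∀ g : Γ, θ g = 1 → ∃ k, g.1 ^ p ^ k = 1 := by
  have hG : IsPGroup p G := IsPGroup.of_card h.card
  have hL : IsPGroup p (lay G 0) := hG.to_subgroup _
  obtain ⟨r', hr', e⟩ := normal_eq h hm (X := (frattini (lay G 0)).map (lay G 0).subtype)
    (map_subtype_le _)
  have hrr : r' ≤ r := by
    by_contra hlt
    obtain ⟨x, hx⟩ := exists_wg h hm (i := r) (by omega)
    exact hlt (hx.mem_iff.1 (e ▸ hΦ hx.1))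
  have hmem : ∀ x : lay G 0, (x : G) ∈ lay G r' ↔ x ∈ frattini (lay G 0) := fun x => by
    rw [← e]
    exact mem_map_iff_mem (lay G 0).subtype_injective
  have hcm : ∀ x ∈ lay G 0, ∀ y ∈ lay G 0, ⁅x, y⁆ ∈ lay G r' := fun x hx y hy =>
    (hmem ⁅⟨x, hx⟩, ⟨y, hy⟩⁆).2 (commutator_le_frattini_of_isPGroup hL
      (commutator_mem_commutator (mem_top _) (mem_top _)))
  obtain ⟨V, _, _, _, π, S⟩ := exists_sec (p := p) (X := lay G 0) (Y := lay G r')
    (lay_anti (Nat.zero_le _)) hcm fun x hx => (hmem (⟨x, hx⟩ ^ p)).2 (pow_mem_frattini hL _)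
  have hd := (Sec.flag (i := 0) (d := r') h hm (by rwa [zero_add]) (by omega)).1
  obtain ⟨ρ, hρ⟩ := S.exists_rep (p := p) ((pext (lay G 0)).comp Γ.subtype)
    (fun a => mulOn_pext a.1) (fun a x hx => pext_mem a.1 hx) fun a x hx => by
      have hx0 := lay_anti (Nat.zero_le _) hx
      change pext _ a.1 x ∈ _
      rw [pext_of_mem _ hx0, hmem]
      exact AInv.of_char (A := Γ) _ a a.2 _ ((hmem ⟨x, hx0⟩).1 hx)
  let θ := QuotientGroup.mk' ρ.ker
  have hθ : Function.Surjective θ := QuotientGroup.mk'_surjective _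
  have k : ∀ a : Γ, θ a = 1 ↔ Triv a.1 ⊤ (frattini (lay G 0)) := fun a => by
    refine (QuotientGroup.eq_one_iff _).trans ⟨fun e v _ => ?_, fun e => LinearMap.ext fun v => ?_⟩
    · have := hρ a v v.2
      rw [MonoidHom.mem_ker.1 e] at this
      have h1 := (S.eq_iff v.2 (pext_mem a.1 v.2)).1 this
      rw [pext_coe] at h1
      exact (hmem _).1 h1
    · obtain ⟨x, hx, rfl⟩ := S.surj v
      refine (hρ a x hx).trans ((S.eq_iff hx (pext_mem a.1 hx)).2 ?_).symm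
      rw [pext_of_mem _ hx]
      exact (hmem _).2 (e ⟨x, hx⟩ trivial)
  have hinn : ∀ g : Γ, g.1 ∈ Inn (lay G 0) → θ g = 1 := by
    rintro g ⟨c, hc⟩
    refine (k g).2 fun v _ => (hmem _).1 ?_
    rw [← hc]
    have := hcm _ (inv_mem v.2) _ c.2
    rw [commutatorElement_def, inv_inv, mul_assoc, mul_assoc, ← mul_assoc (c : G)] at this
    exact this
  refine ⟨V, _, _, inferInstance, Γ ⧸ ρ.ker, inferInstance, inferInstance,
    QuotientGroup.lift _ ρ le_rfl, θ, (injective_iff_map_eq_one _).2 fun x e => ?_, by omega,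
    (hp.out.coprime_iff_not_dvd.2 fun hd => ?_).symm, hinn, fun g hg => ?_⟩
  · obtain ⟨a, rfl⟩ := hθ x
    exact (QuotientGroup.eq_one_iff _).2 e
  · obtain ⟨⟨_, a, ha, rfl⟩, hu⟩ := exists_prime_orderOf_dvd_card' p hd
    rw [← orderOf_coe] at hu
    obtain ⟨c, l, h1, h2⟩ := exists_pow_ppart (p := p) a.1 1
    have h3 := hinn (a ^ c) (hN.inn _ (pow_mem ha c) l h1)
    rw [map_pow, pow_eq_pow_iff_modEq.2 (show c ≡ 1 [MOD orderOf (θ a)] by
      rw [hu]; rwa [pow_one] at h2), pow_one] at h3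
    change orderOf (θ a) = p at hu
    rw [h3, orderOf_one] at hu
    exact hp.out.one_lt.ne hu
  · obtain ⟨l, hl⟩ := exists_pow_coprime (p := p) g.2
    exact ⟨l, eq_one_of_triv_frattini hL hl (((k g).1 hg).pow (fun _ _ => trivial) _)⟩

omit hm in
theorem RK.ni (hX : AInv Γ (lay0 G i)) (hY : AInv Γ (lay0 G j))
    (hnt : ∀ s, s ∉ lay G 0 → ∃ y ∈ lay G i, ⁅s, y⁆ ∉ lay G j) :
    NI p Γ (trivSub hX (lay0 G j)) := by
  have _ := h
  have hc : ∀ g ∈ Γ, ∀ n ∈ trivSub hX (lay0 G j), g * n * g⁻¹ ∈ trivSub hX (lay0 G j) :=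
    fun g hg n hn => mem_trivSub.2 ⟨mul_mem (mul_mem hg (mem_trivSub.1 hn).1) (inv_mem hg),
      (mem_trivSub.1 hn).2.conj (hX _ (inv_mem hg)) (hY _ hg)⟩
  refine ⟨fun n hn => (mem_trivSub.1 hn).1, hc, fun n hn k hk => ?_⟩
  obtain ⟨a, ha, e⟩ := hΓ.exists_conj (zpowers_le.2 (mem_trivSub.1 hn).1)
    (isPGroup_zpowers_of_pow hk)
  obtain ⟨s, -, hs⟩ := mem_autInducedBy_pext.1 (e n (mem_zpowers n))
  have h1 := triv_subgroupOf_iff.1 (mem_trivSub.1 (hc a ha n hn)).2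
  have hs0 : s ∈ lay G 0 := by
    by_contra hs0
    obtain ⟨y, hy, hy'⟩ := hnt s hs0
    have hy0 := lay_anti (Nat.zero_le _) hy
    have h2 := (lay_normal j).conj_mem _ (h1 y hy0 hy) y
    rw [hs y hy0] at h2
    exact hy' (by simpa [commutatorElement_def, mul_assoc] using h2)
  obtain ⟨c, hc⟩ : a * n * a⁻¹ ∈ Inn (lay G 0) := mem_inn_pext.2 ⟨s, hs0, hs⟩
  refine ⟨a⁻¹ c, ?_⟩
  have : n = a⁻¹ * MulAut.conj c * a := by rw [hc]; group
  rw [this]
  ext x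
  simp

theorem ni_triv (hX : AInv Γ (lay0 G i)) (hY : AInv Γ (lay0 G j))
    (hnt : ∀ s, s ∉ lay G 0 → ∃ y ∈ lay G i, ⁅s, y⁆ ∉ lay G j) :
    NI p Γ (trivSub hX (lay0 G j)) :=
  have _ := hm
  RK.ni h hΓ hX hY hnt
end R

end Cfsg.Lib.MCE
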