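import Cfsg.Agent.MCE.L2

/-! Exceptional groups of maximal class. -/

set_option autoImplicit false

namespace Cfsg.Lib.MCE

open Cfsg Cfsg.FusionSystem Subgroup Cfsg.Lib.Solv Cfsg.Lib.Fus Cfsg.Lib.Fus.Ess Cfsg.Lib.Grz
open scoped commutatorElement

variable {G : Type*} [Group G] {p m i j a b : ℕ} {x y s : G} {X : Subgroup G}
  [Finite G] [hp : Fact p.Prime] (h : MC p m G) (hm : 2 ≤ m)
include h hm

theorem L3.not_le (hne : ¬ NE m G) : ¬ lay G 0 ≤ twoStep G (m - 1) := fun e =>
  hne (eq_of_le_of_card_ge e (by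
    rw [card_lay h hm, card_twoStep_eq h hm (by omega) (by omega)]; rfl)).symm

theorem L3.ne_bot (hne : ¬ NE m G) (a : ℕ) : ∀ b, a + b + 1 = m → ¬ ⁅lay G a, lay G b⁆ ≤ ⊥ := by
  induction a with
  | zero =>
    refine fun b hb e => L3.not_le h hm hne fun x hx => (mem_C h hm).2 fun y hy => ?_
    exact comm_mem_bot.1 (e (commutator_mem_commutator hx (show b = m - 1 by omega ▸ hy)))
  | succ a ih =>
    refine fun b hb e => ih (b + 1) (by omega) ?_
    rw [commutator_comm, lay_succ_eq h hm b]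
    refine L2.three ?_ ?_
    · rwa [commutator_comm ⊤, ← lay_succ_eq h hm]
    · rw [← lay_eq_bot h hm le_rfl, lay_succ_eq h hm]
      exact commutator_mono (commutator_le.2 fun x hx y hy =>
        lay_anti (by omega) (comm_lay2 h hm hx hy (.inl (by omega)))) le_rfl

theorem pair (hne : ¬ NE m G) (hab : a + b + 1 = m) (hx : Wg a x) (hy : Wg b y) :
    ⁅x, y⁆ ≠ 1 := fun e => L3.ne_bot h hm hne a b hab (commutator_le.2 fun u hu v hv => by
  have k := lay_eq_bot h hm (le_refl (m + 1))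
  rw [← hx.sup h hm] at hu
  refine comm_mem_of_sup (fun c hc => k ▸ lay_anti (by omega) (comm_lay h hm hc hv))
    (comm_mem_symm ?_) hu
  rw [← hy.sup h hm] at hv
  exact comm_mem_of_sup (fun c hc => k ▸ lay_anti (by omega) (comm_lay h hm hc hx.1))
    (comm_mem_symm (mem_bot.2 e)) hv)

theorem exc (hne : ¬ NE m G) : 5 ≤ p ∧ Even m ∧ 4 ≤ m ∧ m + 1 ≤ p := by
  have h1 : Even m := by
    by_contra e
    obtain ⟨k, hk⟩ := Nat.not_even_iff_odd.1 e
    obtain ⟨x, hx⟩ := exists_wg h hm (i := k) (by omega)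
    exact pair h hm hne (by omega) hx hx (by simp)
  have h2 : m ≠ 2 := by
    rintro rfl
    exact hne lay_zero.symm
  have h3 : m ≤ p := by
    by_contra e
    obtain ⟨s, hs⟩ := h.exists_unif
    have p2 := hp.out.two_le
    have := hs.twoStep_eq (i := m - p) (by omega) (by omega)
    rw [show m - p + (p - 1) = m - 1 by omega, twoStep_eq h hm (i := m - p) (by omega) (by omega)]
      at this
    exact hne this
  obtain ⟨k, hk⟩ := h1
  obtain ⟨r, hr⟩ := hp.out.odd_of_ne_two (by omega)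
  exact ⟨by omega, ⟨k, hk⟩, by omega, by omega⟩

theorem C_inf (hne : ¬ NE m G) : twoStep G (m - 1) ⊓ lay G 0 = lay G 1 := by
  obtain ⟨i, -, e⟩ := normal_eq h hm (X := twoStep G (m - 1) ⊓ lay G 0) inf_le_right
  refine le_antisymm (e.le.trans (lay_anti ?_))
    (le_inf (lay_succ (G := G) 0 ▸ gam_le_twoStep) (lay_anti (by omega)))
  by_contra h0
  obtain rfl : i = 0 := by omega
  exact L3.not_le h hm hne (e.ge.trans inf_le_left)

theorem center_zero (hne : ¬ NE m G) (hx : x ∈ lay G 0) (hc : ∀ y ∈ lay G 0, x * y = y * x) :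
    x ∈ lay G m := by
  by_contra e
  obtain ⟨i, -, h1, h2⟩ := exists_wt hx e
  obtain ⟨y, hy⟩ := exists_wg h hm (i := m - 1 - i) (by omega)
  exact pair h hm hne (by omega) h2 hy
    (commutatorElement_eq_one_iff_mul_comm.2 (hc y (lay_anti (Nat.zero_le _) hy.1)))

end Cfsg.Lib.MCE
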