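import Cfsg.Agent.MCE.ScA
import Cfsg.Agent.MCE.L3

/-! Eigenvalues on the layers, II. -/

set_option autoImplicit false

namespace Cfsg.Lib.MCE

open Cfsg Cfsg.FusionSystem Subgroup Cfsg.Lib.Solv Cfsg.Lib.Fus Cfsg.Lib.Fus.Ess Cfsg.Lib.Grz
open scoped commutatorElement

variable {G : Type*} [Group G] {p m i j a b l : ℕ} {x y s : G} {f : G → G}
  [Finite G] [hp : Fact p.Prime] (h : MC p m G) (hm : 2 ≤ m)
include h hm

theorem LA.step (hf : LA f l) (h1 : Eg f i a) (hi : i + 2 ≤ m ∨ (NE m G ∧ i + 1 ≤ m)) :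
    Eg f (i + 1) (l * a) := by
  obtain ⟨x, x', hx, -, hl, e⟩ := hf.nrm
  obtain ⟨y, hy⟩ := exists_wg h hm (i := i) (by omega)
  have hy0 := lay_anti (Nat.zero_le i) hy.1
  have hw := comm_wg h hm hx hy
    (hi.imp_right fun k => ⟨fun e => hx ((show twoStep G (m - 1) = _ from k.1).le e), k.2⟩)
  refine hf.eg_of h hm hw ?_
  rw [show f ⁅x, y⁆ = ⁅x', f y⁆ by
    rw [commutatorElement_def, hf.mul.map_mul ((lay_normal 0).conj_mem y hy0 x) (inv_mem hy0),
      e y hy0, hf.mul.map_inv hy0, commutatorElement_def]]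
  refine comm_pow_mod _ (comm_top h hm hw.1 _).1 (comm_top h hm hw.1 _).1 ?_
    (comm_top h hm (h1 y hy.1) _).2
  simpa using comm_lay2 h hm hl (hf.maps_lay h hm hy.1) (hi.imp (by omega) And.left)

theorem LA.iter (hf : LA f l) (h1 : Eg f 0 a) (hi : i + 1 ≤ m ∨ (NE m G ∧ i ≤ m)) :
    Eg f i (l ^ i * a) := by
  induction i with
  | zero => simpa using h1
  | succ i ih =>
    rw [pow_succ', mul_assoc]
    exact hf.step h hm (ih (hi.imp (by omega) fun k => ⟨k.1, by omega⟩)) hi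

theorem LA.pair (hf : LA f l) (h1 : Eg f i a) (h2 : Eg f j b) (hx : x ∈ lay G i)
    (hy : y ∈ lay G j) (hxy : ⁅x, y⁆ ≠ 1)
    (k1 : ∀ u ∈ lay G (i + 1), ∀ v ∈ lay G j, u * v = v * u)
    (k2 : ∀ u ∈ lay G i, ∀ v ∈ lay G (j + 1), u * v = v * u) : Eg f m (a * b) := by
  have w1 := (comm_top h hm hx y).1
  have w2 := (comm_top h hm hy x).2
  have c1 : ⁅⁅x, y⁆, x⁆ ∈ (⊥ : Subgroup G) := comm_mem_of_comm (k2 x hx _ w2).symm
  have c2 : ⁅⁅x, y⁆, y⁆ ∈ (⊥ : Subgroup G) := comm_mem_of_comm (k1 _ w1 y hy)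
  have hb := lay_eq_bot h hm (le_refl (m + 1))
  have hz : ⁅x, y⁆ ∈ lay G m := by
    rw [← center_eq h hm, mem_center_iff]
    intro g
    have := comm_pow_mod (a := 1) (b := 1) (u' := g * x * g⁻¹) (v' := g * y * g⁻¹) ⊥ c1 c2
      (comm_mem_of_comm (k1 _ (by
        simpa [commutatorElement_def, mul_assoc] using (comm_top h hm (inv_mem hx) g).1) _
        ((lay_normal j).conj_mem y hy g)))
      (comm_mem_of_comm (k2 _ hx _ (by
        simpa [commutatorElement_def, mul_assoc] using (comm_top h hm (inv_mem hy) g).1)))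
    rw [mem_bot, inv_mul_eq_one, mul_one, pow_one, ← conjugate_commutatorElement] at this
    exact mul_inv_eq_iff_eq_mul.1 this.symm
  refine hf.eg_of h hm ⟨hz, by rwa [hb]⟩ ?_
  rw [hf.mul.map_commutatorElement (lay_anti (Nat.zero_le _) hx) (lay_anti (Nat.zero_le _) hy), hb]
  exact comm_pow_mod ⊥ c1 c2 (comm_mem_of_comm (k1 _ (h1 x hx) _ (hf.maps_lay h hm hy)))
    (comm_mem_of_comm (k2 _ hx _ (h2 y hy)))

theorem sign (hne : ¬ NE m G) (hf : LA f (p - 1)) (h1 : Eg f (m - 1) a)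
    (ha : (a : ZMod p) ^ 2 = 1) (hx : x ∈ lay G m) : f x = x⁻¹ := by
  obtain ⟨-, ⟨k, hk⟩, h4, -⟩ := exc h hm hne
  obtain ⟨μ, h0⟩ := hf.exists_eg h hm 0
  have h2 := (hf.iter h hm h0 (i := m - 1) (.inl (by omega))).cast h hm h1 (by omega)
  obtain ⟨u, hu⟩ := exists_wg h hm (Nat.zero_le m)
  obtain ⟨v, hv⟩ := exists_wg h hm (i := m - 1) (by omega)
  have hb := lay_eq_bot h hm (le_refl (m + 1))
  have h3 := hf.pair h hm h0 h1 hu.1 hv.1 (MCE.pair h hm hne (by omega) hu hv)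
    (fun u hu v hv => comm_mem_bot.1 (hb ▸ lay_anti (by omega) (comm_lay h hm hu hv)))
    (fun u _ v hv => mem_center_iff.1 ((center_eq h hm).ge (lay_anti (by omega) hv)) u)
  have h5 := h3.congr h hm (b := p - 1) (by
    rw [Nat.cast_mul, Nat.cast_pow, neg_one_cast, Odd.neg_one_pow ⟨k - 1, by omega⟩] at h2
    rw [Nat.cast_mul, neg_one_cast]
    linear_combination (-(a : ZMod p)) * h2 - ha) x hx
  have h6 := pow_mem_succ h hm hx
  rw [hb, mem_bot] at h5 h6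
  rw [← inv_mul_eq_one.1 h5, eq_inv_iff_mul_eq_one, ← pow_succ,
    Nat.sub_add_cancel hp.out.one_le, h6]

end Cfsg.Lib.MCE
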