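import Cfsg.Agent.MCE.L4
import Cfsg.Agent.MCE.ScB
import Cfsg.Agent.MCE.HH
import Cfsg.Agent.MCE.RK

/-! Normal subgroups of `Γ` whose `p`-elements are inner. -/

set_option autoImplicit false

namespace Cfsg.Lib.MCE

open Cfsg Cfsg.FusionSystem Subgroup Cfsg.Lib.Solv Cfsg.Lib.Fus Cfsg.Lib.Fus.Ess Cfsg.Lib.Grz
open scoped commutatorElement

universe u

section R
variable {G : Type u} [Group G] {p m i j : ℕ} [Finite G] [hp : Fact p.Prime]
  {Γ N : Subgroup (MulAut (lay G 0))} {n : MulAut (lay G 0)}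
  (h : MC p m G) (hm : 2 ≤ m) (hΓ : SylIn p (T0 G) Γ)
include h hm hΓ

namespace R12

omit [Finite G] hp h hm in
theorem c0_mem (s : G) : c0 s ∈ Γ := hΓ.le (conjAut_mem_autInducedBy (mem_top s) _)

variable {M : Type*} [Group M] (θ : Γ →* M)

theorem pow_eq (h1 : ∀ g : Γ, g.1 ∈ Inn (lay G 0) → θ g = 1) (s : G) :
    θ ⟨c0 s, c0_mem hΓ s⟩ ^ p = 1 := by
  rw [← map_pow]
  refine h1 _ ?_
  change c0 s ^ p ∈ _
  rw [conjAut_pow]
  exact (c0_mem_inn h hm).2 (pow_mem_zero h hm s)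

omit [Finite G] hp h hm hΓ in
theorem conj_mem (hN : NI p Γ N) (c : Γ) : ∀ y ∈ (N.subgroupOf Γ).map θ,
    θ c * y * (θ c)⁻¹ ∈ (N.subgroupOf Γ).map θ := by
  rintro _ ⟨a, ha, rfl⟩
  exact ⟨c * a * c⁻¹, hN.conj c c.2 a ha, by rw [map_mul, map_mul, map_inv]⟩

omit [Finite G] hp in
theorem key (hN : NI p Γ N) (h2 : ∀ g : Γ, θ g = 1 → ∃ k, g.1 ^ p ^ k = 1) {s : G}
    (hs : s ∉ lay G 0) {a : Γ} (ha : a.1 ∈ N)
    (e : θ ⟨c0 s, c0_mem hΓ s⟩ * θ a = θ a * θ ⟨c0 s, c0_mem hΓ s⟩) :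
    LA (pext (lay G 0) a.1) 1 := by
  obtain ⟨k, hk⟩ := h2 (a * ⟨c0 s, c0_mem hΓ s⟩ * a⁻¹ * ⟨c0 s, c0_mem hΓ s⟩⁻¹)
    (by rw [map_mul, map_mul, map_mul, map_inv, map_inv, ← e]; group)
  refine la_of_comm h hm hs (hN.inn _ ?_ k hk)
  have := mul_mem ha (hN.conj _ (c0_mem hΓ s) _ (inv_mem ha))
  simpa only [mul_assoc] using this

omit hΓ in
theorem one (hne : NE m G) (hab : ¬ IsMulCommutative (lay G 0)) (hc : (orderOf n).Coprime p)
    (hf : LA (pext (lay G 0) n) 1) : n = 1 := by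
  classical
  obtain ⟨μ, hμ⟩ := hf.exists_eg h hm 0
  have h1 : ∀ i ≤ m, Eg (pext (lay G 0) n) i μ := fun i hi => by
    simpa using hf.iter h hm hμ (Or.inr ⟨hne, hi⟩)
  let Q : ℕ → Prop := fun c => ∃ i j, i + j = c ∧ ∃ x ∈ lay G i, ∃ y ∈ lay G j, x * y ≠ y * x
  have hQ0 : Q 0 := by
    by_contra e
    refine hab ⟨⟨fun x y => Subtype.ext (by_contra fun e' => e ⟨0, 0, rfl, x, x.2, y, y.2, e'⟩)⟩⟩
  have hle : ∀ i j, ∀ x ∈ lay G i, ∀ y ∈ lay G j, x * y ≠ y * x → i ≤ m ∧ j ≤ m := by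
    intro i j x hx y hy e
    constructor <;> by_contra hlt
    · rw [lay_eq_bot h hm (by omega), mem_bot] at hx
      exact e (by rw [hx, one_mul, mul_one])
    · rw [lay_eq_bot h hm (by omega), mem_bot] at hy
      exact e (by rw [hy, one_mul, mul_one])
  obtain ⟨i, j, hij, x, hx, y, hy, e⟩ : Q (Nat.findGreatest Q (2 * m)) :=
    Nat.findGreatest_spec (Nat.zero_le _) hQ0
  have hmax : ∀ i' j', i' + j' = i + j + 1 → ∀ u ∈ lay G i', ∀ v ∈ lay G j', u * v = v * u := by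
    intro i' j' e' u hu v hv
    by_contra e''
    have := hle _ _ u hu v hv e''
    exact Nat.findGreatest_is_greatest (P := Q) (n := 2 * m) (k := i' + j') (by omega) (by omega)
      ⟨i', j', rfl, u, hu, v, hv, e''⟩
  have hij' := hle _ _ x hx y hy e
  have h2 := hf.pair h hm (h1 i hij'.1) (h1 j hij'.2) hx hy
    (fun e' => e (commutatorElement_eq_one_iff_mul_comm.1 e')) (hmax _ _ (by omega))
    (hmax _ _ (by omega))
  have h3 := h2.cast h hm (h1 m le_rfl) le_rfl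
  have h4 : (μ : ZMod p) = (1 : ℕ) := by
    rw [Nat.cast_mul] at h3
    rw [Nat.cast_one]
    exact mul_right_cancel₀ (hf.ne_zero h hm hμ (Nat.zero_le _)) (h3.trans (one_mul _).symm)
  have h5 : ∀ i ≤ m + 1, Triv n (lay0 G 0) (lay0 G i) := by
    intro i hi
    induction i with
    | zero => exact triv_self fun x _ => (n x).2
    | succ i ih =>
      refine (ih (by omega)).trans (h.pg.to_subgroup _) hc (triv_subgroupOf_iff.2 fun x _ hx => ?_)
        fun z hz => ?_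
      · simpa using (h1 i (by omega)).congr h hm h4 x hx
      · have := hf.maps_lay h hm (mem_subgroupOf.1 hz)
        rwa [pext_coe] at this
  ext x
  have := h5 (m + 1) le_rfl x x.2
  rw [mem_subgroupOf, lay_eq_bot h hm le_rfl, mem_bot, coe_mul, coe_inv, inv_mul_eq_one] at this
  exact this.symm

end R12

theorem r_one (hN : NI p Γ N) (hΦ : lay G (p - 2) ≤ (frattini (lay G 0)).map (lay G 0).subtype)
    (hn : n ∈ N) : LA (pext (lay G 0) n) 1 := by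
  obtain ⟨V, _, _, _, M, _, _, ρ, θ, h1, h2, h3, h4, h5⟩ := exists_frat h hm hΓ hN hΦ
  obtain ⟨s, hs⟩ := exists_not_mem_zero h hm
  have := hp.out.two_le
  exact R12.key h hm hΓ θ hN h5 hs (a := ⟨n, hN.le hn⟩) hn
    (hh_comm h1 h3 (R12.conj_mem θ hN _) (R12.pow_eq h hm hΓ θ h4 s) (by omega) _ ⟨_, hn, rfl⟩)

theorem r_two (hN : NI p Γ N) (hne : NE m G) (hab : ¬ IsMulCommutative (lay G 0)) (hn : n ∈ N)
    (hc : (orderOf n).Coprime p) : n = 1 := by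
  obtain ⟨V, _, _, _, M, _, _, ρ, θ, h1, h2, h3, h4, h5⟩ :=
    exists_frat h hm hΓ hN (le_frattini h hm hab)
  obtain ⟨s, hs⟩ := exists_not_mem_zero h hm
  have := hp.out.two_le
  have h6 := hh_fpf h1 h3 (R12.conj_mem θ hN ⟨c0 s, R12.c0_mem hΓ s⟩)
    (R12.pow_eq h hm hΓ θ h4 s) (by omega) (by
      rintro _ ⟨a, ha, rfl⟩ e
      obtain ⟨k, hk, hk'⟩ := exists_pow_pprime_part a.1 h3
      have h7 : θ (a ^ k) = θ a := by
        rw [map_pow, pow_eq_pow_iff_modEq.2 (hk'.of_dvd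
          (((N.subgroupOf Γ).map θ).orderOf_dvd_natCard ⟨a, ha, rfl⟩)), pow_one]
      have h8 := R12.one h hm hne hab hk (R12.key h hm hΓ θ hN h5 hs (a := a ^ k)
        (pow_mem ha k) (by rw [h7]; exact e))
      rw [← h7, show a ^ k = 1 from Subtype.ext h8, map_one])
  obtain ⟨k, hk⟩ := h5 ⟨n, hN.le hn⟩ (mem_bot.1 (h6 ▸ ⟨_, hn, rfl⟩))
  exact eq_one_of_coprime_of_isPGroup (isPGroup_zpowers_of_pow hk) (mem_zpowers n) hc
end R

end Cfsg.Lib.MCE
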