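import Cfsg.Agent.MCE.EX1
import Cfsg.Agent.MCE.R12

/-! The exceptional case: endgame. -/

set_option autoImplicit false

namespace Cfsg.Lib.MCE

open Cfsg Cfsg.FusionSystem Subgroup Cfsg.Lib.Solv Cfsg.Lib.Fus Cfsg.Lib.Fus.Ess Cfsg.Lib.Grz
open scoped commutatorElement

universe u

variable {G : Type u} [Group G] {p m k a b l : ℕ} [Finite G] [hp : Fact p.Prime] {E : Subgroup G}
  {A B : Subgroup (MulAut E)} {Γ : Subgroup (MulAut (lay G 0))} {z : G} {g : MulAut E} {f : G → G}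

omit [Finite G] in
theorem EX2.pow_mem {x : G} (hz : z ∈ normalizer (E : Set G)) (e : z⁻¹ * x ∈ E) (c : ℕ) :
    (z ^ c)⁻¹ * x ^ c ∈ E := by
  induction c with
  | zero => simp
  | succ c ih =>
    have := mul_mem ((mem_normalizer_iff''.1 hz _).1 ih) e
    rwa [show z⁻¹ * ((z ^ c)⁻¹ * x ^ c) * z * (z⁻¹ * x) = (z ^ (c + 1))⁻¹ * x ^ (c + 1) by
      rw [pow_succ, pow_succ]; group] at this

theorem end_ex (D : Dat p m E A B Γ) (hne : ¬ NE m G) (T : Tor p m E k z g)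
    (hd : AllDel p m E z g Γ) : False := by
  have h := D.mc
  have hm := D.two
  obtain ⟨h5, -, h4, hmp⟩ := exc h hm hne
  have neg : ((p - 1 : ℕ) : ZMod p) = -1 := by
    rw [Nat.cast_sub hp.out.one_le, ZMod.natCast_self, Nat.cast_one, zero_sub]
  have n1 : ((p - 1 : ℕ) : ZMod p) ≠ 1 := fun e => by
    have := (ZMod.natCast_eq_zero_iff 2 p).1 (by rw [neg] at e; push_cast; linear_combination -e)
    have := Nat.le_of_dvd two_pos this
    omega
  obtain ⟨γ, hγ, cop, d⟩ := hd (p - 1) (p - 1) (by rw [neg]; ring)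
  obtain ⟨i, j, hi, ij, j2, hg, ha, mJ, hW⟩ := ex_struct D hne T
  have iZ : ∀ α : MulAut (lay G 0), ∀ v ∈ lay G m, pext _ α v ∈ lay G m := fun α v hv => by
    have v0 := lay_anti (Nat.zero_le m) hv
    refine center_zero h hm hne (pext_mem α v0) fun y hy => ?_
    have y' := pext_mem α⁻¹ hy
    rw [← pext_pext_inv α y, ← mulOn_pext α _ v0 _ y', ← mulOn_pext α _ y' _ v0, D0.cen D hv]
  have iJ : ∀ α : MulAut (lay G 0), ∀ v ∈ lay G j, pext _ α v ∈ lay G j := fun α v hv => by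
    obtain ⟨v0, c⟩ := (mJ v).1 hv
    refine (mJ _).2 ⟨pext_mem α v0, fun y hy => ?_⟩
    have y' := pext_mem α⁻¹ hy
    rw [← pext_pext_inv α y, ← (mulOn_pext α).map_commutatorElement v0 y']
    exact iZ α _ (c _ y')
  have aZ : AInv Γ (lay0 G m) := fun α _ x hx => by
    have := iZ α x hx
    rwa [pext_coe] at this
  have aJ : AInv Γ (lay0 G j) := fun α _ x hx => by
    have := iJ α x hx
    rwa [pext_coe] at this
  obtain ⟨v, wv⟩ := exists_wg h hm (le_refl m)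
  have v1 : v ≠ 1 := fun e => wv.2 (e ▸ one_mem _)
  obtain ⟨-, u0, hu0, e0⟩ := d.onZ D T n1 (iZ γ) v wv.1
  have ww := hg v wv.1 v1
  have fw := d.hB u0 hu0
  rw [e0] at fw
  have cz : ∀ u ∈ omz p E, ⁅z, u⁆ ∈ lay G m := fun u hu =>
    lay_anti (by omega) (comm_lay h hm T.zmem (ha hu))
  have s1 : ∀ y ∈ lay G j, y ∈ E → y⁻¹ * pext _ γ y ∈ lay G m := fun y hy hE => by
    obtain ⟨u, hu, u', hu', e⟩ := d.hR y (hW y hy hE)
    have e1 := mul_mem (inv_mem hy) (iJ γ y hy)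
    rw [e, mul_mem_cancel_left (lay_anti (by omega) (cz u hu))] at e1
    have e2 : ⁅z, u'⁆ = 1 := by_contra fun n => (hg _ (cz u' hu') n).2 (lay_anti ij e1)
    rw [e, e2, (mulOn_pext g).map_one, mul_one]
    exact cz u hu
  have s2 : ∀ y ∈ lay G j, y⁻¹ * pext _ γ y ∈ E := fun y hy => by
    by_cases kj : k + 1 ≤ j
    · exact omz_le (D.center_le (s1 y hy (T.sub (lay_anti kj hy))))
    have zJ : z ∈ lay G j := lay_anti (by omega) T.zmem
    have z0 : z ∈ lay G 0 := lay_anti (Nat.zero_le _) zJ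
    obtain ⟨c, e⟩ := EX1.split D (X := lay G j)
      (fun u hu => ((mJ u).1 hu).2 _ (lay_anti (Nat.zero_le _) ww.1)) zJ
      (fun e => T.znot (T.cg v wv.1 v1 z (commutatorElement_eq_one_iff_mul_comm.1 e))) hy
    have eE := T.cg v wv.1 v1 _ e
    have eJ := mul_mem (inv_mem (pow_mem zJ c)) hy
    have fe := omz_le (d.mapsW _ (hW _ eJ eE))
    have fz : z⁻¹ * pext _ γ z ∈ E := by
      obtain ⟨r, hr⟩ : ∃ r, p = r + 2 := ⟨p - 2, by omega⟩
      have := mul_mem (pow_mem (T.sub (pow_mem_succ h hm T.zmem)) r) d.hz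
      rwa [show (p - 1) * (p - 1) = p * r + 1 by
        rw [hr, show r + 2 - 1 = r + 1 from rfl]; ring, ← pow_mul, pow_succ', mul_inv_rev,
        mul_assoc, mul_inv_cancel_left] at this
    have := mul_mem (mul_mem (inv_mem eE) (EX2.pow_mem (T.norm D) fz c)) fe
    rwa [(mulOn_pext γ).map_mul (inv_mem (pow_mem z0 c)) (lay_anti (Nat.zero_le _) hy),
      (mulOn_pext γ).map_inv (pow_mem z0 c), (mulOn_pext γ).map_pow z0,
      show ∀ x w : G, ((z ^ c)⁻¹ * y)⁻¹ * ((z ^ c)⁻¹ * x ^ c) * ((x ^ c)⁻¹ * w) = y⁻¹ * w from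
        fun x w => by group] at this
  have tr : Triv γ (lay0 G j) (lay0 G m) := Triv.trans (h.pg.to_subgroup _) cop
    (Y := (lay G j ⊓ E).subgroupOf (lay G 0))
    (triv_subgroupOf_iff.2 fun y _ hy => ⟨(lay G j).mul_mem ((lay G j).inv_mem hy) (iJ γ y hy), s2 y hy⟩)
    (triv_subgroupOf_iff.2 fun y _ hy => s1 y hy.1 hy.2) (aZ γ hγ)
  obtain ⟨y, wy⟩ := exists_wg h hm (i := m - 2) (by omega)
  have yJ : y ∈ lay G j := lay_anti (by omega) wy.1
  have hN := ni_triv h hm D.sylΓ aJ aZ fun s hs => ⟨y, yJ, fun e =>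
    (comm_wg h hm hs wy (.inl (by omega))).2 (lay_anti (by omega) e)⟩
  obtain ⟨r, -, hr⟩ := normal_eq h hm (X := (frattini (lay G 0)).map (lay G 0).subtype)
    (map_subtype_le _)
  have rm : r < m := by
    by_contra n
    obtain ⟨x, wx⟩ := exists_wg h hm (Nat.zero_le m)
    refine wx.2 (lay_anti (by omega) ((mJ x).2 ⟨wx.1, fun u hu => lay_anti (not_lt.1 n) (hr.le ?_)⟩))
    exact ⟨⁅(⟨x, wx.1⟩ : lay G 0), ⟨u, hu⟩⁆, commutator_le_frattini_of_isPGroup (h.pg.to_subgroup _)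
      (commutator_mem_commutator trivial trivial), rfl⟩
  have hf := r_one h hm D.sylΓ hN (hr ▸ lay_anti (by omega)) (mem_trivSub.2 ⟨hγ, tr⟩)
  obtain ⟨μ, h0⟩ := hf.exists_eg h hm 0
  have e1 := (hf.iter h hm h0 (i := m - 2) (.inl (by omega))).cast h hm (hf.eg_of h hm wy (a := 1)
    (by rw [pow_one]; exact lay_anti (by omega) (triv_subgroupOf_iff.1 tr y
      (lay_anti (Nat.zero_le _) yJ) yJ))) (by omega)
  have e2 := (hf.iter h hm h0 (i := i) (.inl (by omega))).cast h hm (hf.eg_of h hm ww (a := p - 1)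
    (by rw [fw, inv_mul_cancel]; exact one_mem _)) (by omega)
  rw [one_pow] at e1 e2
  exact n1 (by rw [← e2, e1, Nat.cast_one])

end Cfsg.Lib.MCE
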