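import Cfsg.Agent.MCE.L1
import Cfsg.Agent.Grz.Five

/-! The data of a non-normal essential subgroup inside the two-step centralizer. -/

set_option autoImplicit false

namespace Cfsg.Lib.MCE

open Cfsg Cfsg.FusionSystem Subgroup Cfsg.Lib.Solv Cfsg.Lib.Fus Cfsg.Lib.Fus.Ess Cfsg.Lib.Grz
open scoped commutatorElement

universe u

variable {G : Type u} [Group G] [Finite G] {p m k : ℕ} [hp : Fact p.Prime]
  {F : FusionSystem (⊤ : Subgroup G)} {E T P : Subgroup G} {e x : G} {f : Equiv.Perm G}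

omit hp in
theorem F1.piso_char {X : Subgroup G} [hX : X.Characteristic] (hf : PIso F f ⊤ ⊤) :
    PIso F f X X := by
  obtain ⟨τ, -, e⟩ := exists_autF hf
  exact (hf.mor.restrict le_top).piso_of_maps fun x hx =>
    e x ▸ characteristic_iff_map_le.1 hX τ (mem_map_of_mem _ hx)

variable (h : MC p m G) (hm : 2 ≤ m) (hF : F.IsSaturated p)
include h hm hF

theorem dat_of_ext (h5 : 5 ≤ p) (hE : F.IsEssential p E) (hle : E ≤ lay G 0) (hn : ¬ E.Normal)
    (hx : ∀ f : Equiv.Perm G, PIso F f E E → ∀ R, E < R → R ≤ normalizerIn ⊤ E → Mor F R f →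
      ∃ g : Equiv.Perm G, PIso F g (lay G 0) (lay G 0) ∧ ∀ x ∈ E, g x = f x) :
    Dat p m E (F.autGroup E) (closure {α | Extendable F E α}) (F.autGroup (lay G 0)) := by
  have hS : IsPGroup p (⊤ : Subgroup G) := h.pg.to_subgroup ⊤
  have hT := sat_sylIn hS hF hE.2.1
  have h2 : ∀ g ∈ F.autGroup E, ∀ t ∈ autInducedBy ⊤ E, t ∉ Inn E →
      g * t * g⁻¹ ∈ autInducedBy ⊤ E → g ∈ closure {α | Extendable F E α} :=
    fun g hg t ht ht1 e => subset_closure
      ((extendable_iff_of_isCentric hS hF hE.1 hg).2 ⟨t, ht, ht1, e⟩)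
  have h3 : autInducedBy ⊤ E ≤ closure {α | Extendable F E α} := fun t ht => by
    obtain ⟨u, hu, hu'⟩ := SetLike.not_le_iff_exists.1
      (not_autInducedBy_le_inn hS (isCentric_self hE.1) (lt_of_isEssential hS hF hE))
    exact h2 t (hT.le ht) u hu hu' (mul_mem (mul_mem ht hu) (inv_mem ht))
  refine ⟨h, h5, hm, hle, hn, cent_le_of hE.1, hT, sat_sylIn hS hF
    (isFullyNormalized_of_le_normalizer le_top fun x _ => mem_norm_lay x 0), h3,
    lt_of_le_of_ne ((closure_le _).2 fun _ h => h.mem)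
      (closure_extendable_ne_of_isEssential hS hF hE), h2, fun b hb => ?_⟩
  induction hb using closure_induction with
  | mem α hα =>
    obtain ⟨Q, g, h4, h6, h7⟩ := id hα
    have h8 : PIso F g E E := h6.piso_of_eqOn h4.le (piso_pext_of_mem le_top hα.mem) h7
    obtain ⟨g', h9, h10⟩ := hx g h8 (Q ⊓ normalizer (E : Set G))
      (lt_inf_normalizer_of_lt (h.pg.to_subgroup Q) h4) (inf_le_inf_right _ le_top)
      (h6.restrict inf_le_left)
    exact ⟨h9.aut, h9.aut_mem, fun x hx => by rw [h9.pext_aut (hle hx), h10 x hx, h7 x hx]⟩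
  | one => exact ⟨1, one_mem _, fun x _ => by rw [pext_one, pext_one]⟩
  | mul α β _ _ h4 h6 =>
    obtain ⟨a, ha, ea⟩ := h4
    obtain ⟨b, hb, eb⟩ := h6
    exact ⟨a * b, mul_mem ha hb, fun x hx => by
      rw [pext_mul, pext_mul, eb x hx, ea _ (pext_mem β hx)]⟩
  | inv α _ h4 =>
    obtain ⟨a, ha, ea⟩ := h4
    refine ⟨a⁻¹, inv_mem ha, fun x hx => (pext (lay G 0) a).injective ?_⟩
    rw [pext_pext_inv, ea _ (pext_mem α⁻¹ hx), pext_pext_inv]

theorem ext_gen {n : ℕ} (hmax : ∀ Q, F.IsEssential p Q → Q = lay G 0 ∨ Nat.card Q ≤ n)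
    (hP : P ≤ lay G 0) (hn : n < Nat.card P) (hf : Mor F P f) :
    ∃ g : Equiv.Perm G, PIso F g (lay G 0) (lay G 0) ∧ ∀ x ∈ P, g x = f x := by
  have _ := hm
  have hS : IsPGroup p (⊤ : Subgroup G) := h.pg.to_subgroup ⊤
  have key := alperin_essential hS hF (Φ := fun P f => n < Nat.card ↥(P ⊓ lay G 0) →
      ∃ g : Equiv.Perm G, PIso F g (lay G 0) (lay G 0) ∧ ∀ x ∈ P ⊓ lay G 0, g x = f x)
    (fun P f g _ h1 e hc => by
      obtain ⟨a, h2, h3⟩ := h1 hc
      exact ⟨a, h2, fun x hx => (h3 x hx).trans (e x hx.1)⟩)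
    (fun P Q f _ h1 hle hc => by
      obtain ⟨a, h2, h3⟩ := h1 (hc.trans_le (card_le_of_le (inf_le_inf_right _ hle)))
      exact ⟨a, h2, fun x hx => h3 x ⟨hle hx.1, hx.2⟩⟩)
    (fun P Q R f g hf _ h1 h2 hc => by
      obtain ⟨a, h3, h4⟩ := h1 hc
      have h5 : ∀ x ∈ P ⊓ lay G 0, f x ∈ Q ⊓ lay G 0 := fun x hx =>
        ⟨hf.maps hx.1, h4 x hx ▸ h3.maps hx.2⟩
      obtain ⟨b, h6, h7⟩ := h2 (hc.trans_le ((hf.mor.restrict inf_le_left).card_le le_top h5))
      exact ⟨b * a, h3.trans h6, fun x hx => by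
        rw [Equiv.Perm.mul_apply, Equiv.Perm.mul_apply, h4 x hx, h7 _ (h5 x hx)]⟩)
    (fun Q hQ _ f hf hc => by
      rcases hQ with rfl | hQ
      · exact ⟨f, F1.piso_char hf, fun _ _ => rfl⟩
      · rcases hmax Q hQ with rfl | h1
        · exact ⟨f, hf, fun _ _ => rfl⟩
        · exact absurd (hc.trans_le ((card_le_of_le inf_le_left).trans h1)) (lt_irrefl _))
  obtain ⟨g, h1, h2⟩ := key P f hf (by rwa [inf_eq_left.2 hP])
  exact ⟨g, h1, fun x hx => h2 x ⟨hx, hP hx⟩⟩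

end Cfsg.Lib.MCE
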