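import Cfsg.Agent.MCE.Defs
import Cfsg.Agent.Grz.Pearl

/-! Three extension tools for saturated fusion systems. -/

set_option autoImplicit false

namespace Cfsg.Lib.MCE

open Cfsg Cfsg.FusionSystem Subgroup Cfsg.Lib.Solv Cfsg.Lib.Fus Cfsg.Lib.Fus.Ess Cfsg.Lib.Grz
open scoped commutatorElement

universe u

namespace FT

theorem pCoreIn_le_of_conj {M : Type*} [Group M] {p : ℕ} {A B : Subgroup M} (hBA : B ≤ A)
    (hn : ∀ a ∈ A, ∀ b ∈ B, a * b * a⁻¹ ∈ B) : pCoreIn p B ≤ pCoreIn p A := by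
  refine le_pCoreIn ((pCoreIn_le B).trans hBA) (isPGroup_pCoreIn B) fun a ha x hx => ?_
  refine le_pCoreIn (N := (pCoreIn p B).map (MulAut.conj a).toMonoidHom) ?_
    ((isPGroup_pCoreIn B).map _) ?_ ⟨x, hx, rfl⟩
  · rintro _ ⟨y, hy, rfl⟩
    exact hn a ha y (pCoreIn_le B hy)
  · rintro b hb _ ⟨y, hy, rfl⟩
    have h1 : a⁻¹ * b * a⁻¹⁻¹ ∈ B := hn _ (inv_mem ha) b hb
    refine ⟨_, conj_mem_pCoreIn h1 hy, ?_⟩
    change a * _ * a⁻¹ = b * (a * y * a⁻¹) * b⁻¹
    group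

end FT

section FT
variable {Ω : Type*} [Group Ω] {S E Y Q : Subgroup Ω} {F : FusionSystem S} {p : ℕ} [Finite S]
  [hp : Fact p.Prime] {f : Equiv.Perm Ω}

theorem exists_inv_fix (hS : IsPGroup p S) (hF : F.IsSaturated p) (hE : F.IsEssential p E)
    (hYE : Y ≤ E) (hY : AInv (F.autGroup E) (Y.subgroupOf E))
    (hc : Nat.card E = p ^ 2 * Nat.card Y)
    (hN : ∀ s ∈ normalizerIn S E, ∀ y ∈ Y, s * y * s⁻¹ = y) :
    ∃ g : Equiv.Perm Ω, PIso F g (normalizerIn S E) (normalizerIn S E) ∧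
      (∀ x ∈ E, x * g x ∈ Y) ∧ ∀ y ∈ Y, g y = y := by
  have hES := hE.1.1
  have := finite_of_le hES
  have hEN : E ≤ normalizerIn S E := le_inf hES le_normalizer
  have : (Y.subgroupOf E).Normal := ⟨fun y hy e => by
    rwa [show e * y * e⁻¹ = y from Subtype.ext (hN e (hEN e.2) y hy)]⟩
  obtain ⟨s, hs, hsN, -, -, h0⟩ := (radIn_of_essential hS hE).exists_rad hS le_rfl
    (lt_of_isEssential hS hF hE)
  have hsyl := sat_sylIn hS hF hE.2.1
  have hT : autInducedBy S E ≤ F.autGroup E ⊓ fixAut E Y := by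
    refine le_inf hsyl.le fun α hα y hy => ?_
    obtain ⟨u, hu, huN, rfl⟩ := mem_autInducedBy'.1 hα
    rw [pext_conjAut huN (hYE hy), hN u ⟨hu, huN⟩ y hy]
  have hcore : pCoreIn p (F.autGroup E ⊓ fixAut E Y) ≤ pCoreIn p (F.autGroup E) := by
    refine FT.pCoreIn_le_of_conj inf_le_left fun a ha b hb =>
      mem_inf.2 ⟨mul_mem (mul_mem ha (mem_inf.1 hb).1) (inv_mem ha), fun y hy => ?_⟩
    have h1 : pext E a⁻¹ y ∈ Y := by
      rw [pext_of_mem _ (hYE hy)]
      exact hY a⁻¹ (inv_mem ha) ⟨y, hYE hy⟩ hy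
    rw [pext_mul, pext_mul, (mem_inf.1 hb).2 _ h1, pext_pext_inv]
  have h : Rad p (F.autGroup E ⊓ fixAut E Y) (conjAut E s hsN) :=
    ⟨h0.pg, hT (conjAut_mem_autInducedBy hs hsN), h0.pelt, fun e => h0.not_mem (hcore e)⟩
  have hY' : AInv (F.autGroup E ⊓ fixAut E Y) (Y.subgroupOf E) := hY.mono inf_le_left
  have h1 := h.quot hY' fun h1 => h1.trans h.pg (h.ptr hY' aInv_bot
    (triv_conjAut_bot_iff.2 fun x _ hx => hN s ⟨hs, hsN⟩ x hx)) aInv_bot
  have h2 : Nat.card (E ⧸ Y.subgroupOf E) = p ^ 2 := index_eq_of_card hYE hc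
  have h3 : ∀ x : E ⧸ Y.subgroupOf E, x ^ p = 1 := fun x =>
    Monoid.exponent_dvd_iff_forall_pow_eq_one.1
      ((not_isCyclic_iff_exponent_eq_prime hp.out h2).1 h1.not_isCyclic).dvd x
  obtain ⟨d, z, y, h4, h5, h6, h7, h8, -, -⟩ := h1.exists_torus _ (hsyl.mono hT inf_le_left)
    (conjAut_mem_autInducedBy hs hsN) h2 h3 (neg_one_sq (p := p))
  obtain ⟨g, k1, -, k3⟩ := exists_ext_normalizer hS hF hE.2.1 (mem_inf.1 d.2).1 h4 h5
  have hcomm := (IsPGroup.isMulCommutative_of_card_eq_prime_sq h2).1.1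
  have hinv : ∀ v : E ⧸ Y.subgroupOf E, v * v ^ (p - 1) = 1 := fun v => by
    rw [← pow_succ', Nat.sub_add_cancel hp.out.one_le, h3]
  have key : ∀ v : E ⧸ Y.subgroupOf E, v * quoHom hY' d v = 1 := by
    let K : Subgroup (E ⧸ Y.subgroupOf E) :=
      { carrier := {v | v * quoHom hY' d v = 1}
        one_mem' := by simp
        mul_mem' := fun {a b} ha hb => by
          change a * b * quoHom hY' d (a * b) = 1
          rw [map_mul, hcomm (quoHom hY' d a), mul_assoc, ← mul_assoc b, show b * _ = 1 from hb,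
            one_mul]
          exact ha
        inv_mem' := fun {a} ha => by
          change a⁻¹ * quoHom hY' d a⁻¹ = 1
          rw [map_inv, ← mul_inv_rev, hcomm, show a * _ = 1 from ha, inv_one] }
    have : ⊤ ≤ K := h8 ▸ sup_le (zpowers_le.2 (show z * _ = 1 by rw [h6, hinv]))
      (zpowers_le.2 (show y * _ = 1 by rw [h7, hinv]))
    exact fun v => this (mem_top v)
  refine ⟨g, k1, fun x hx => ?_, fun y hy => ?_⟩
  · rw [k3 x hx, pext_of_mem _ hx]
    have := key (QuotientGroup.mk ⟨x, hx⟩)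
    rw [quoHom_mk, ← QuotientGroup.mk_mul, QuotientGroup.eq_one_iff] at this
    exact this
  · rw [k3 y (hYE hy), (mem_inf.1 d.2).2 y hy]

theorem ext_normalizer (hS : IsPGroup p S) (hF : F.IsSaturated p) (hQ : F.IsFullyNormalized Q)
    (hlt : Q < S) (hne : ¬ F.IsEssential p Q)
    (hc : Nat.card (normalizerIn S Q) ≤ p * Nat.card Q) (hf : PIso F f Q Q) :
    ∃ g : Equiv.Perm Ω, PIso F g (normalizerIn S Q) (normalizerIn S Q) ∧ ∀ x ∈ Q, g x = f x := by
  have h1 := closure_extendable_eq_of_not_isEssential hS hF hlt hQ hne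
  have hNS : normalizerIn S Q ≤ S := normalizerIn_le
  have := finite_of_le hNS
  have hN : IsPGroup p (normalizerIn S Q) := hS.of_injective _ (inclusion_injective hNS)
  have key : ∀ α ∈ closure {α | Extendable F Q α}, ∃ g : Equiv.Perm Ω,
      PIso F g (normalizerIn S Q) (normalizerIn S Q) ∧ ∀ x ∈ Q, g x = pext Q α x := by
    intro α hα
    induction hα using closure_induction with
    | mem α hα =>
      have hα' := Extendable.mem hα
      obtain ⟨R, g, h2, h3, h4⟩ := hα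
      have := h3.finite
      have h5 := eq_of_lt_of_card_le hN hc
        (lt_inf_normalizer_of_lt (hS.of_injective _ (inclusion_injective h3.le)) h2)
        (inf_le_inf_right _ h3.le)
      have h6 : normalizerIn S Q ≤ R := h5.ge.trans inf_le_left
      have h7 : PIso F g Q Q := h3.piso_of_eqOn h2.le (piso_pext_of_mem hlt.le hα') h4
      exact ⟨g, (h3.restrict h6).piso_of_maps fun x hx =>
        h7.map_normalizer h3 h2.le (h6 hx) hx.2, h4⟩
    | one => exact ⟨1, PIso.refl F hNS, fun x _ => by rw [map_one]⟩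
    | mul α β _ _ h2 h3 =>
      obtain ⟨g, h4, h5⟩ := h2
      obtain ⟨g', h6, h7⟩ := h3
      exact ⟨_, h6.trans h4, fun x hx => by
        rw [map_mul, Equiv.Perm.mul_apply, Equiv.Perm.mul_apply, h7 x hx,
          h5 _ ((pext_mem_iff β x).2 hx)]⟩
    | inv α _ h2 =>
      obtain ⟨g, h4, h5⟩ := h2
      refine ⟨_, h4.symm, fun x hx => g.injective ?_⟩
      rw [perm_apply_inv, h5 _ ((pext_mem_iff α⁻¹ x).2 hx), map_inv, perm_apply_inv]
  obtain ⟨g, h2, h3⟩ := key _ (h1 ▸ hf.aut_mem)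
  exact ⟨g, h2, fun x hx => (h3 x hx).trans (hf.pext_aut hx)⟩
end FT

section FG
variable {G : Type u} [Group G] [Finite G] {p m k : ℕ} [hp : Fact p.Prime]
  {F : FusionSystem (⊤ : Subgroup G)} {E T P : Subgroup G} {e x : G} {f : Equiv.Perm G}

theorem ext_of_Q (hG : IsPGroup p G) (hF : F.IsSaturated p) (Q : Subgroup G → Prop)
    (hup : ∀ P R, P ≤ R → Q P → Q R)
    (hinv : ∀ (τ : MulAut G) P, Q P → Q (P.map τ.toMonoidHom))
    (hess : ∀ E, F.IsEssential p E → ¬ Q E) (hf : Mor F P f) (hP : Q P) :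
    ∃ τ : MulAut G, ∀ x ∈ P, τ x = f x := by
  refine alperin_essential (hG.to_subgroup ⊤) hF (Φ := fun P f => Q P →
    ∃ τ : MulAut G, ∀ x ∈ P, τ x = f x) ?_ ?_ ?_ ?_ P f hf hP
  · exact fun P f g _ h e hk => (h hk).imp fun _ h x hx => (h x hx).trans (e x hx)
  · exact fun P R f _ h e hk => (h (hup _ _ e hk)).imp fun _ h x hx => h x (e hx)
  · intro P R U f g hf _ h1 h2 hk
    obtain ⟨σ, h3⟩ := h1 hk
    obtain ⟨τ, h4⟩ := h2 (hup _ _ (by
      rintro _ ⟨x, hx, rfl⟩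
      change σ x ∈ R
      rw [h3 x hx]
      exact hf.maps hx) (hinv σ P hk))
    exact ⟨τ * σ, fun x hx => by
      rw [MulAut.mul_apply, h3 x hx, h4 _ (hf.maps hx), Equiv.Perm.mul_apply]⟩
  · rintro R (rfl | hR) - f hf hk
    · obtain ⟨τ, -, h⟩ := exists_autF hf
      exact ⟨τ, fun x _ => h x⟩
    · exact absurd hk (hess R hR)
end FG

end Cfsg.Lib.MCE
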