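import Cfsg.Agent.MCE.FP
import Cfsg.Agent.MCE.FT
import Cfsg.Agent.Fus.R3Index

/-! Extension to the two-step centralizer in order `p ^ 6`. -/

set_option autoImplicit false

namespace Cfsg.Lib.MCE

open Cfsg Cfsg.FusionSystem Subgroup Cfsg.Lib.Solv Cfsg.Lib.Fus Cfsg.Lib.Fus.Ess Cfsg.Lib.Grz
open scoped commutatorElement

universe u

variable {G : Type u} [Group G] [Finite G] {p m k : ℕ} [hp : Fact p.Prime]
  {F : FusionSystem (⊤ : Subgroup G)} {E T P : Subgroup G} {e x : G} {f : Equiv.Perm G}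

variable (h : MC p m G) (hm : 2 ≤ m) (hF : F.IsSaturated p)
include h hm hF

theorem ext_four (hne : ¬ NE m G) (h4 : m = 4) (hE : F.IsEssential p E) (hle : E ≤ lay G 0)
    (hn : ¬ E.Normal) (hmax : ∀ Q, F.IsEssential p Q → Q < lay G 0 → Nat.card Q ≤ Nat.card E)
    (hf : PIso F f E E) {R : Subgroup G} (hR : E < R) (hR' : R ≤ normalizerIn ⊤ E)
    (hm' : Mor F R f) :
    ∃ g : Equiv.Perm G, PIso F g (lay G 0) (lay G 0) ∧ ∀ x ∈ E, g x = f x := by
  have _ := hne
  have hS : IsPGroup p (⊤ : Subgroup G) := h.pg.to_subgroup ⊤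
  have h1 := hp.out.one_lt
  have hZ : lay G m ≤ E := fun y hy => cent_le_of hE.1 fun x _ =>
    mem_center_iff.1 ((center_eq h hm).ge hy) x
  have hN : normalizerIn ⊤ E ≤ lay G 0 := fun s hs => by
    by_contra hs'
    obtain ⟨k, -, rfl⟩ := eq_lay_of_norm h hm hZ hle hs' fun x hx =>
      conj_mem_of_mem_normalizerIn hs hx
    exact hn inferInstance
  have c0 : Nat.card (lay G 0) = p ^ 5 := by rw [card_lay h hm, h4]
  have hfR : ∀ a ∈ R, f a ∈ normalizerIn ⊤ E := fun a ha =>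
    hf.map_normalizer hm' hR.le ha (hR' ha).2
  obtain ⟨r, hr⟩ := IsPGroup.iff_card.1 (h.pg.to_subgroup E)
  have h2 : 3 ≤ r := (Nat.pow_le_pow_iff_right h1).1 (hr ▸ cube_le_card h hm hE.1 hle)
  rcases h2.eq_or_lt with rfl | h2
  swap
  · obtain rfl : R = lay G 0 := eq_of_lt_of_card_le (h.pg.to_subgroup _) (by
      rw [c0, hr, ← pow_succ']
      exact Nat.pow_le_pow_right hp.out.pos (by omega)) hR (hR'.trans hN)
    exact ⟨f, hm'.piso_of_maps fun a ha => hN (hfR a ha), fun _ _ => rfl⟩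
  have cN : Nat.card (normalizerIn ⊤ E) = p ^ 4 := by
    rw [R3.card_normalizerIn_of_rank_le hS hF hE
      (hr ▸ Nat.le_of_dvd Nat.card_pos (index_dvd_card _)), hr, ← pow_succ']
  obtain rfl : R = normalizerIn ⊤ E := eq_of_lt_of_card_le (h.pg.to_subgroup _)
    (by rw [cN, hr, ← pow_succ']) hR hR'
  generalize hNE : normalizerIn ⊤ E = N at *
  have hlt : N < lay G 0 := lt_of_le_of_ne hN fun e => by
    rw [e, c0, Nat.pow_right_inj h1] at cN
    omega
  have h3 : ∀ g, ¬ PIso F g N (lay G 1) := fun g =>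
    not_piso_one h hm h4 hE.1 hE.2.1 (hNE ▸ cN.le) hR.le
  have h5 : normalizerIn ⊤ N = lay G 0 := by
    refine le_antisymm (fun s hs => ?_) (le_inf le_top (le_normalizer_of_card_le
      (h.pg.to_subgroup _) (by rw [c0, cN, ← pow_succ']) hN))
    by_contra hs'
    obtain ⟨k, hk, rfl⟩ := eq_lay_of_norm h hm (hZ.trans hR.le) hN hs' fun x hx =>
      conj_mem_of_mem_normalizerIn hs hx
    rw [card_lay h hm, Nat.pow_right_inj h1] at cN
    obtain rfl : k = 1 := by omega
    exact h3 1 (PIso.refl F le_top)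
  have h6 : F.IsFullyNormalized N := isFullyNormalized_iff_piso.2 ⟨le_top, fun Q g hg => by
    by_contra h7
    have h8 : normalizerIn ⊤ Q = ⊤ := by
      by_contra h8
      have := prime_mul_card_le_of_lt' hS (lt_top_iff_ne_top.2 h8)
      rw [card_top, h.card, h4, pow_succ'] at this
      exact h7 (h5 ▸ c0 ▸ Nat.le_of_mul_le_mul_left this hp.out.pos)
    have : Q.Normal := normalizer_eq_top_iff.1 (eq_top_iff.2 (h8.ge.trans inf_le_right))
    obtain rfl : Q = lay G 1 := normal_card h hm le_rfl (by rw [hg.card_eq, cN, h4])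
    exact h3 g hg⟩
  obtain ⟨g, h7, h8⟩ := ext_normalizer hS hF h6 (hlt.trans_le le_top) (fun e => by
      have := hmax N e hlt
      rw [cN, hr, Nat.pow_le_pow_iff_right h1] at this
      omega) (by rw [h5, c0, cN, ← pow_succ']) (hm'.piso_of_maps hfR)
  exact ⟨g, h5 ▸ h7, fun x hx => h8 x (hR.le hx)⟩

end Cfsg.Lib.MCE
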