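import Cfsg.Agent.MCE.L4
import Cfsg.Agent.Grz.Pearl
import Cfsg.Agent.Fus.EssMax3
import Cfsg.Agent.Fus.R3Index

/-! The prime `3`. -/

set_option autoImplicit false

namespace Cfsg.Lib.MCE

open Cfsg Cfsg.FusionSystem Subgroup Cfsg.Lib.Solv Cfsg.Lib.Fus Cfsg.Lib.Fus.Ess Cfsg.Lib.Grz
open scoped commutatorElement

universe u

variable {G : Type u} [Group G] [Finite G] {p m k : ℕ} [hp : Fact p.Prime]
  {F : FusionSystem (⊤ : Subgroup G)} {E T P : Subgroup G} {e x : G} {f : Equiv.Perm G}

variable (h : MC p m G) (hm : 2 ≤ m) (hF : F.IsSaturated p)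
include h hm hF

theorem three_case (h3 : p = 3) (hm3 : 3 ≤ m) (hE : F.IsEssential p E) (hle : E ≤ lay G 0) :
    E = lay G 0 := by
  classical
  subst h3
  have hne : NE m G := by_contra fun n => by have := (exc h hm n).1; omega
  by_contra hn
  have up : ∀ (r n : ℕ) (x : G), 1 ≤ n → x ∈ lay G n → x ^ 3 ^ r ∈ lay G (n + 2 * r) :=
    fun r n x h1 hx => by
      induction r with
      | zero => simpa using hx
      | succ r ih => rw [pow_succ, pow_mul]; exact pow_lay h hm (i := n + 2 * r) (by omega) ih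
  have wg : ∀ (r n : ℕ) (x : G), n + 2 * r ≤ m → Wg n x → Wg (n + 2 * r) (x ^ 3 ^ r) :=
    fun r n x h1 hx => by
      induction r with
      | zero => simpa using hx
      | succ r ih =>
        rw [pow_succ, pow_mul]
        exact pow_wg h hm (ih (by omega)) (by omega) fun _ => hm3
  have hZ : lay G (m - 1) ≤ E := fun y hy => cent_le_of hE.1 fun x hx =>
    (mem_C h hm).1 ((show twoStep G (m - 1) = _ from hne).ge (hle hx)) y hy
  obtain ⟨a, ha, y, hy, ny⟩ : ∃ a, E ≤ lay G a ∧ ∃ y ∈ E, y ∉ lay G (a + 1) := by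
    by_contra! c
    have : ∀ a, E ≤ lay G a := fun a => by
      induction a with
      | zero => exact hle
      | succ a ih => exact c a ih
    obtain ⟨v, wv⟩ := exists_wg h hm (le_refl m)
    exact wv.2 (this _ (hZ (lay_anti (by omega) wv.1)))
  have wy : Wg a y := ⟨ha hy, ny⟩
  have am := wy.le h hm
  have hΦ : (frattini E).index ≤ 3 ^ 2 := by
    obtain ⟨s, hs⟩ := h.exists_unif
    obtain ⟨T, h1, rfl⟩ := hs.exists_gen_two hm3 E
    refine (index_frattini_le_pow_card (h.pg.to_subgroup _)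
      (T := T.subtype (· ∈ closure (T : Set G))) ?_).trans (Nat.pow_le_pow_right (by omega) ?_)
    · rw [← closure_closure_coe_preimage]
      congr 1
      ext x
      simp
    · rw [Finset.card_subtype]
      exact (Finset.card_filter_le _ _).trans h1
  obtain ⟨t, ht⟩ := exists_rad_of_essential (h.pg.to_subgroup ⊤) hF hE
  by_cases hc : ∃ y' ∈ E, Wg (a + 1) y'
  · obtain ⟨y', hy', wy'⟩ := hc
    have e : E = lay G a := le_antisymm ha (le_of_weights h hm fun j h1 h2 => by
      obtain ⟨r, rfl | rfl⟩ : ∃ r, j = a + 2 * r ∨ j = a + 1 + 2 * r := ⟨(j - a) / 2, by omega⟩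
      exacts [⟨_, pow_mem hy _, wg r a y h2 wy⟩, ⟨_, pow_mem hy' _, wg r _ y' h2 wy'⟩])
    have h1 := R3.card_normalizerIn_of_rank_le (h.pg.to_subgroup ⊤) hF hE
      (hΦ.trans (by norm_num))
    have h2 : normalizerIn ⊤ E = ⊤ := eq_top_iff.2 fun g _ => ⟨trivial, e ▸ mem_norm_lay g a⟩
    rw [h2, card_top, h.card, e, card_lay h hm, ← pow_succ'] at h1
    have := Nat.pow_right_injective (by norm_num) h1
    obtain rfl : a = 0 := by omega
    exact hn e
  · have key : ∀ u : E, u ∈ (lay G (a + 1)).subgroupOf E ↔ u ^ 3 ^ ((m - a) / 2) = 1 := fun u =>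
      ⟨fun hu => Subtype.ext (mem_bot.1 ((lay_eq_bot h hm (by omega)).le
        (up ((m - a) / 2) (a + 1 + 1) u (by omega) (by_contra fun n => hc ⟨u, u.2, hu, n⟩)))),
        fun e => by_contra fun n => (wg ((m - a) / 2) a u (by omega) ⟨ha u.2, n⟩).2 (by
          rw [show (u : G) ^ 3 ^ ((m - a) / 2) = 1 from congrArg Subtype.val e]; exact one_mem _)⟩
    rcases ht.le_frattini_or_eq_top hΦ (X := (lay G (a + 1)).subgroupOf E) (fun α _ u hu => by
      rw [key] at hu ⊢
      rw [← map_pow, hu, map_one]) with e | e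
    · have h1 := ht.sq_le_index_frattini.trans (index_antitone e)
      have h2 : (lay G (a + 1)).relIndex E ≤ (lay G (a + 1)).relIndex (lay G a) :=
        relIndex_le_of_le_right ha index_ne_zero_of_finite
      have h4 := ((lay G (a + 1)).subgroupOf (lay G a)).card_mul_index
      rw [Nat.card_congr (subgroupOfEquivOfLe (lay_anti (Nat.le_succ a))).toEquiv] at h4
      have h5 := L1.card_le h hm a
      rw [← h4, mul_comm] at h5
      have h6 := Nat.le_of_mul_le_mul_right h5 Nat.card_pos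
      change 3 ^ 2 ≤ (lay G (a + 1)).relIndex E at h1
      change (lay G (a + 1)).relIndex (lay G a) ≤ 3 at h6
      omega
    · exact ny (e.ge (mem_top (⟨y, hy⟩ : E)))

end Cfsg.Lib.MCE
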