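import Cfsg.Agent.MCE.L2
import Cfsg.Agent.MCE.L3
import Cfsg.Agent.MCN.MaxA
import Cfsg.Agent.Grz.Five

/-! Pearls and the trichotomy for essential subgroups. -/

set_option autoImplicit false

namespace Cfsg.Lib.MCE

open Cfsg Cfsg.FusionSystem Subgroup Cfsg.Lib.Solv Cfsg.Lib.Fus Cfsg.Lib.Fus.Ess Cfsg.Lib.Grz
open scoped commutatorElement

universe u

variable {G : Type u} [Group G] [Finite G] {p m k : ℕ} [hp : Fact p.Prime]
  {F : FusionSystem (⊤ : Subgroup G)} {E T P : Subgroup G} {e x : G} {f : Equiv.Perm G}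

variable (h : MC p m G) (hm : 2 ≤ m) (hF : F.IsSaturated p)
include h hm hF

theorem pearl_of (hE : F.IsEssential p E) (hx : x ∈ E) (h1 : x ∉ lay G 0)
    (h2 : x ∉ twoStep G (m - 1)) : Pearl p E := by
  have hu := unif_of h hm h1 h2
  obtain ⟨r, hr⟩ := IsPGroup.iff_card.1 (h.pg.to_subgroup E)
  obtain ⟨t, ht⟩ := exists_rad_of_essential (h.pg.to_subgroup ⊤) hF hE
  have h3 : 2 ≤ r := (Nat.pow_le_pow_iff_right hp.out.one_lt).1
    (hr ▸ ht.sq_le_index_frattini.trans (Nat.le_of_dvd Nat.card_pos (index_dvd_card _)))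
  obtain ⟨n, rfl⟩ := Nat.exists_eq_add_of_le' h3
  have hn : MC p n E := Unif.mc (s := ⟨x, hx⟩) ⟨hr, le_trans (Nat.card_le_card_of_injective
    (fun y => ⟨y.1.1, mem_centralizer_singleton_iff.2
      (congrArg Subtype.val (mem_centralizer_singleton_iff.1 y.2))⟩)
    fun y z e => Subtype.ext (Subtype.ext (Subtype.mk.inj e))) hu.cent⟩
  have h4 : n < 2 := not_le.1 fun e => MCN.not_rad_of_mc hn e ht
  obtain rfl | rfl : n = 0 ∨ n = 1 := by omega
  · refine Or.inl ⟨hr, IsPGroup.isMulCommutative_of_card_eq_prime_sq hr, fun a ha => ?_⟩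
    have := Monoid.pow_exponent_eq_one (⟨a, ha⟩ : E)
    rw [(not_isCyclic_iff_exponent_eq_prime hp.out hr).1 ht.not_isCyclic] at this
    exact congrArg Subtype.val this
  · have hc : ¬ ∀ x y : E, x * y = y * x := fun e =>
      Trans.MaxClass.not_isMulCommutative hn.ne le_rfl ⟨⟨e⟩⟩
    refine Or.inr ⟨hr, isExtraspecial_of_card_cube hr hc, ?_⟩
    rcases ht.card_cube hr with ⟨h5, h6⟩ | ⟨h5, h6⟩
    · refine ⟨fun _ => ((Nat.dvd_prime hp.out).1
        (Monoid.exponent_dvd_of_forall_pow_eq_one h5)).resolve_left fun e => hc fun x y => ?_,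
        fun e => absurd e (h6.resolve_left hc)⟩
      have := Monoid.exp_eq_one_iff.1 e
      exact Subsingleton.elim _ _
    · exact ⟨fun e => absurd h5 e, fun _ => h6⟩

theorem ess_split (hE : F.IsEssential p E) :
    (∃ x ∈ E, x ∉ lay G 0 ∧ x ∉ twoStep G (m - 1)) ∨ E ≤ lay G 0 ∨
      (¬ NE m G ∧ ∃ k e, XC m E k e) := by
  have _ := hF
  refine or_iff_not_imp_left.2 fun h1 => or_iff_not_imp_left.2 fun h2 => ?_
  have h3 : E ≤ twoStep G (m - 1) := (SubgroupClass.subset_union.1 fun x hx => by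
    by_contra e
    exact h1 ⟨x, hx, fun e' => e (Or.inl e'), fun e' => e (Or.inr e')⟩).resolve_left h2
  have hne : ¬ NE m G := fun e => h2 (h3.trans (le_of_eq e))
  obtain ⟨e, he, he'⟩ := SetLike.not_le_iff_exists.1 h2
  have h4 : lay G (m - 1) ≤ E := fun y hy =>
    cent_le_of hE.1 fun x hx => (mem_C h hm).1 (h3 hx) y hy
  obtain ⟨k, hk, ek⟩ := eq_lay_of_norm h hm (X := E ⊓ lay G 0)
    (le_inf ((lay_anti (by omega)).trans h4) (lay_anti (by omega))) inf_le_right he' fun x hx =>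
      ⟨E.mul_mem (E.mul_mem he hx.1) (E.inv_mem he), (lay_normal 0).conj_mem x hx.2 e⟩
  obtain ⟨w, hw⟩ := exists_wg h hm hk
  obtain ⟨v, hv⟩ := exists_wg h hm (i := m - 1) (by omega)
  have h5 : 1 ≤ k := hw.mem_iff.1 (by
    have := ek.ge hw.1
    exact (C_inf h hm hne).le ⟨h3 this.1, this.2⟩)
  have h6 : k ≤ m - 1 := hv.mem_iff.1 (ek.le ⟨h4 hv.1, lay_anti (by omega) hv.1⟩)
  refine ⟨hne, k, e, h5, by omega, h3 he, he', le_antisymm (fun g hg => ?_)
    (sup_le (ek.ge.trans inf_le_left) (zpowers_le_of_mem he))⟩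
  obtain ⟨c, hc⟩ := exists_pow_top h hm he' g
  have h7 : (e ^ c)⁻¹ * g ∈ lay G k := ek.le ⟨E.mul_mem (E.inv_mem (E.pow_mem he c)) hg, hc⟩
  simpa using mul_mem (mem_sup_right (pow_mem (mem_zpowers e) c)) (mem_sup_left h7)

omit hF in
theorem cube_le_card (hE : F.IsCentric E) (hle : E ≤ lay G 0) : p ^ 3 ≤ Nat.card E := by
  obtain ⟨r, hr⟩ := IsPGroup.iff_card.1 (h.pg.to_subgroup E)
  rw [hr]
  refine Nat.pow_le_pow_right hp.out.pos (not_lt.1 fun h1 => ?_)
  rcases (by omega : r ≤ 1 ∨ r = 2) with h2 | rfl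
  · have : IsCyclic E := isCyclic_of_card_dvd_prime (p := p)
      (hr ▸ (pow_dvd_pow p h2).trans (pow_one p).dvd)
    obtain ⟨a, ha⟩ := IsCyclic.exists_generator (α := E)
    have h3 : centralizer ({(a : G)} : Set G) ≤ E := fun y hy => cent_le_of hE fun x hx => by
      obtain ⟨c, hc⟩ := ha ⟨x, hx⟩
      have h4 : x = (a : G) ^ c := (congrArg Subtype.val hc).symm
      rw [h4]
      exact (Commute.zpow_left (mem_centralizer_singleton_iff.1 hy).symm c).eq
    have h4 := (Trans.sq_le_card_centralizer h.pg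
      (h.card ▸ Nat.pow_le_pow_right hp.out.pos (by omega)) (a : G)).trans (card_le_of_le h3)
    rw [hr, Nat.pow_le_pow_iff_right hp.out.one_lt] at h4
    omega
  · rcases exists_centralizer_le h.pg hr (cent_le_of hE) with rfl | ⟨a, ha, -, h3⟩
    · obtain ⟨s, hs⟩ := exists_not_mem_zero h hm
      exact hs (hle trivial)
    · exact Unif.not_mem_twoStep ⟨h.card, hr ▸ card_le_of_le h3⟩ le_rfl hm (lay_zero.le (hle ha))

omit hF in
theorem not_piso_one (h4 : m = 4) (hE : F.IsCentric E) (hE' : F.IsFullyNormalized E)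
    (hN : Nat.card (normalizerIn ⊤ E) ≤ p ^ 4) (hT : E ≤ T) : ¬ PIso F f T (lay G 1) := fun hf => by
  have h1 := hf.restrict hT
  have h2 : img E f ≤ lay G 1 := img_le_iff.2 fun x hx => hf.maps (hT hx)
  have h3 : lay G 3 ≤ img E f := fun y hy => cent_le_of (h1.isCentric hE) fun x hx => by
    have := comm_lay h hm (h2 hx) hy
    rw [lay_eq_bot h hm (by omega), mem_bot] at this
    exact commutatorElement_eq_one_iff_mul_comm.1 this
  have h5 : lay G 0 ≤ normalizerIn ⊤ (img E f) := fun g hg =>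
    mem_normalizerIn_of_finite trivial fun x hx => by
      have := mul_mem (h3 (comm_zero h hm hg (lay_anti (by omega) (h2 hx)))) hx
      simpa [commutatorElement_def] using this
  have h6 := ((card_le_of_le h5).trans (isFullyNormalized_iff_piso.1 hE' |>.2 _ f h1)).trans hN
  rw [card_lay h hm, Nat.pow_le_pow_iff_right hp.out.one_lt] at h6
  omega

end Cfsg.Lib.MCE
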