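import Cfsg.Agent.MCE.Defs
import Cfsg.Agent.Grz.CubeA

/-! The layers of a group of maximal class. -/

set_option autoImplicit false

namespace Cfsg.Lib.MCE

open Cfsg Cfsg.FusionSystem Subgroup Cfsg.Lib.Solv Cfsg.Lib.Fus Cfsg.Lib.Fus.Ess Cfsg.Lib.Grz
open scoped commutatorElement

variable {G : Type*} [Group G] {p m i j a b : ℕ} {x y s : G} {X : Subgroup G}

theorem lay_anti : Antitone (lay G) := antitone_nat_of_succ_le fun n => by
  rcases n with _ | n
  · rw [lay_succ, lay_zero]; exact gam_le_twoStep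
  · rw [lay_succ, lay_succ]; exact gam_anti (by omega)

theorem Wg.mem_iff (hx : Wg i x) : x ∈ lay G j ↔ j ≤ i :=
  ⟨fun h => by_contra fun e => hx.2 (lay_anti (by omega) h), fun h => lay_anti h hx.1⟩

theorem exists_wt (hx : x ∈ lay G a) (hx' : x ∉ lay G b) : ∃ i, a ≤ i ∧ i < b ∧ Wg i x := by
  induction b with
  | zero => exact absurd (lay_anti (Nat.zero_le a) hx) hx'
  | succ b ih =>
    by_cases h : x ∈ lay G b
    · exact ⟨b, by_contra fun e => hx' (lay_anti (by omega) hx), by omega, h, hx'⟩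
    · obtain ⟨i, h1, h2, h3⟩ := ih h
      exact ⟨i, h1, by omega, h3⟩

theorem Wg.inv (hx : Wg i x) : Wg i x⁻¹ := ⟨inv_mem hx.1, fun e => hx.2 (inv_mem_iff.1 e)⟩

theorem Wg.mul (hx : Wg i x) (hy : y ∈ lay G (i + 1)) : Wg i (x * y) ∧ Wg i (y * x) :=
  have h := lay_anti (Nat.le_succ i) hy
  ⟨⟨mul_mem hx.1 h, fun e => hx.2 ((mul_mem_cancel_right hy).1 e)⟩,
    ⟨mul_mem h hx.1, fun e => hx.2 ((mul_mem_cancel_left hy).1 e)⟩⟩

theorem comm_mem_lay_of (hx : x ∈ lay G i) (hi : 1 ≤ i) (g : G) :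
    ⁅x, g⁆ ∈ lay G (i + 1) ∧ ⁅g, x⁆ ∈ lay G (i + 1) := by
  rw [lay_of_pos hi] at hx
  rw [lay_succ]
  exact ⟨comm_mem_gam (j := 0) hx (mem_top g) (by omega),
    comm_mem_gam (i := 0) (mem_top g) hx (by omega)⟩

/-- Commutators in a group that is cyclic over a subgroup central modulo `W`. -/
theorem L1.comm_of_sup {W Y : Subgroup G} [W.Normal] (h : ∀ c ∈ Y, ∀ g ∈ Y ⊔ zpowers s, ⁅c, g⁆ ∈ W)
    (hx : x ∈ Y ⊔ zpowers s) (hy : y ∈ Y ⊔ zpowers s) : ⁅x, y⁆ ∈ W :=
  comm_mem_of_sup (fun c hc => h c hc y hy) (comm_mem_symm (comm_mem_of_sup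
    (fun c hc => h c hc s (mem_sup_right (mem_zpowers s))) (by simp) hy)) hx

variable [Finite G] [hp : Fact p.Prime] (h : MC p m G) (hm : 2 ≤ m)
include h hm

theorem card_twoStep_eq (hi : 1 ≤ i) (him : i + 1 ≤ m) :
    Nat.card (twoStep G i) = p ^ (m + 1) := by
  have h1 := h.card_twoStep hi
  have h2 := prime_mul_card_le_card h.pg (h.twoStep_ne_top him)
  have _ := hm
  exact Nat.eq_of_mul_eq_mul_left hp.out.pos (by rw [← h1.antisymm h2, h.card, pow_succ'])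

theorem card_lay (i : ℕ) : Nat.card (lay G i) = p ^ (m + 1 - i) := by
  rcases i with _ | i
  · rw [lay_zero]; exact card_twoStep_eq h hm le_rfl hm
  · rw [lay_succ]; exact h.card_gam (by omega)

theorem lay_eq_bot (hi : m + 1 ≤ i) : lay G i = ⊥ := by
  rw [lay_of_pos (by omega)]; exact h.gam_eq_bot hi

theorem exists_not_mem_zero : ∃ s : G, s ∉ lay G 0 := by
  by_contra! e
  exact h.twoStep_ne_top (i := 1) hm (lay_zero (G := G) ▸ eq_top_iff.2 fun x _ => e x)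

theorem center_eq : center G = lay G m := by
  rw [lay_of_pos (by omega)]
  exact Trans.MaxClass.center_eq h.card h.ne (by omega)

omit [Finite G] hp in
theorem comm_top (hx : x ∈ lay G i) (g : G) :
    ⁅x, g⁆ ∈ lay G (i + 1) ∧ ⁅g, x⁆ ∈ lay G (i + 1) := by
  have _ := h
  have _ := hm
  rcases i with _ | i
  · rw [lay_succ]
    exact ⟨commutator_mem_commutator trivial trivial, commutator_mem_commutator trivial trivial⟩
  · exact comm_mem_lay_of hx (by omega) g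

theorem L1.card_le (i : ℕ) : Nat.card (lay G i) ≤ p * Nat.card (lay G (i + 1)) := by
  rw [card_lay h hm, card_lay h hm, ← pow_succ']
  exact Nat.pow_le_pow_right hp.out.pos (by omega)

theorem exists_wg (hi : i ≤ m) : ∃ x : G, Wg i x := by
  refine SetLike.not_le_iff_exists.1 fun e => ?_
  have := card_le_of_le e
  rw [card_lay h hm, card_lay h hm, Nat.pow_le_pow_iff_right hp.out.one_lt] at this
  omega

theorem exists_wt_one (hx : x ∈ lay G 0) (hx' : x ≠ 1) : ∃ i, i ≤ m ∧ Wg i x := by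
  obtain ⟨i, -, h1, h2⟩ := exists_wt hx (b := m + 1) (by rwa [lay_eq_bot h hm le_rfl])
  exact ⟨i, by omega, h2⟩

theorem Wg.le (hx : Wg i x) : i ≤ m := by
  by_contra e
  have := hx.1
  rw [lay_eq_bot h hm (by omega), mem_bot] at this
  exact hx.2 (this ▸ one_mem _)

omit hm in
theorem L1.sup_eq {Y : Subgroup G} (hc : Nat.card X ≤ p * Nat.card Y) (hYX : Y ≤ X) (hx : x ∈ X)
    (hx' : x ∉ Y) : Y ⊔ zpowers x = X :=
  (eq_of_lt_of_card_le (h.pg.to_subgroup X) hc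
    (lt_of_le_of_ne le_sup_left fun e => hx' (e.ge (mem_sup_right (mem_zpowers x))))
    (sup_le hYX (zpowers_le.2 hx)))

theorem Wg.sup (hx : Wg i x) : lay G (i + 1) ⊔ zpowers x = lay G i :=
  L1.sup_eq h (L1.card_le h hm i) (lay_anti (Nat.le_succ i)) hx.1 hx.2

theorem sup_top (hs : s ∉ lay G 0) : lay G 0 ⊔ zpowers s = ⊤ :=
  L1.sup_eq h (by rw [card_top, h.card, card_lay h hm, pow_succ']; rfl) le_top trivial hs

theorem Wg.exists_pow (hx : Wg i x) (hy : y ∈ lay G i) :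
    ∃ c : ℕ, (x ^ c)⁻¹ * y ∈ lay G (i + 1) := by
  obtain ⟨c, w, hw, rfl⟩ := exists_mul_pow ((hx.sup h hm).ge hy)
  exact ⟨c, by simpa using hw⟩

theorem exists_pow_top (hs : s ∉ lay G 0) (g : G) : ∃ c : ℕ, (s ^ c)⁻¹ * g ∈ lay G 0 := by
  obtain ⟨c, w, hw, rfl⟩ := exists_mul_pow ((sup_top h hm hs).ge (mem_top g))
  exact ⟨c, by simpa using hw⟩

omit hm in
theorem L1.pw_mem {Y : Subgroup G} [Y.Normal] (hc : Nat.card X ≤ p * Nat.card Y) (hYX : Y ≤ X)
    (hx : x ∈ X) : x ^ p ∈ Y := by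
  obtain ⟨k, hk⟩ := IsPGroup.index (h.pg.to_subgroup X) (Y.subgroupOf X)
  have e := (Y.subgroupOf X).index_mul_card
  rw [Nat.card_congr (subgroupOfEquivOfLe hYX).toEquiv, hk] at e
  have h1 : p ^ k ≤ p ^ 1 := Nat.le_of_mul_le_mul_right (by rwa [e, pow_one]) Nat.card_pos
  have h2 := (Y.subgroupOf X).pow_index_mem ⟨x, hx⟩
  rw [hk] at h2
  obtain rfl | rfl : k = 0 ∨ k = 1 := by
    have := (Nat.pow_le_pow_iff_right hp.out.one_lt).1 h1; omega
  · exact pow_mem (by simpa [mem_subgroupOf] using h2) p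
  · simpa [mem_subgroupOf] using h2

omit h hm [Finite G] in
theorem L1.pw_mem_iff {Y : Subgroup G} (hx : x ^ p ∈ Y) (hx' : x ∉ Y) (c : ℕ) :
    x ^ c ∈ Y ↔ p ∣ c := by
  refine ⟨fun e => by_contra fun hc => hx' ?_, ?_⟩
  · have := (Nat.coprime_comm.1 (hp.out.coprime_iff_not_dvd.2 hc)).gcd_eq_one
    have e2 : x = (x ^ c) ^ Nat.gcdA c p * (x ^ p) ^ Nat.gcdB c p := by
      rw [← zpow_natCast, ← zpow_natCast, ← zpow_mul, ← zpow_mul, ← zpow_add, ← Nat.gcd_eq_gcd_ab,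
        this, Nat.cast_one, zpow_one]
    exact e2 ▸ mul_mem (zpow_mem e _) (zpow_mem hx _)
  · rintro ⟨k, rfl⟩
    rw [pow_mul]; exact pow_mem hx k

theorem pow_mem_succ (hx : x ∈ lay G i) : x ^ p ∈ lay G (i + 1) :=
  L1.pw_mem h (L1.card_le h hm i) (lay_anti (Nat.le_succ i)) hx

theorem Wg.pow_mem_iff (hx : Wg i x) (c : ℕ) : x ^ c ∈ lay G (i + 1) ↔ p ∣ c :=
  L1.pw_mem_iff (pow_mem_succ h hm hx.1) hx.2 c

theorem pow_mem_zero (x : G) : x ^ p ∈ lay G 0 :=
  lay_anti (Nat.zero_le 1) (lay_succ (G := G) 0 ▸ h.pow_mem_gam (by omega) x)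

theorem pow_mem_zero_iff (hs : s ∉ lay G 0) (c : ℕ) : s ^ c ∈ lay G 0 ↔ p ∣ c :=
  L1.pw_mem_iff (pow_mem_zero h hm s) hs c

theorem lay_succ_eq (i : ℕ) : lay G (i + 1) = ⁅lay G i, (⊤ : Subgroup G)⁆ := by
  rcases i with _ | i
  · obtain ⟨s, hs⟩ := exists_not_mem_zero h hm
    refine le_antisymm ?_ (commutator_le.2 fun x hx g _ => (comm_top h hm hx g).1)
    rw [lay_succ]
    refine commutator_le.2 fun x _ y _ => L1.comm_of_sup (Y := lay G 0) (s := s)
      (fun c hc g _ => commutator_mem_commutator hc trivial) ?_ ?_ <;> rw [sup_top h hm hs] <;> trivial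
  · rw [lay_succ, lay_succ]; rfl

omit [Finite G] hp in
theorem comm_lay (hx : x ∈ lay G a) (hy : y ∈ lay G b) : ⁅x, y⁆ ∈ lay G (a + b + 1) := by
  rcases a with _ | a
  · simpa using (comm_top h hm hy x).2
  rcases b with _ | b
  · exact (comm_top h hm hx y).1
  rw [lay_succ] at hx hy ⊢
  exact comm_mem_gam hx hy le_rfl

theorem comm_zero (hx : x ∈ lay G 0) (hy : y ∈ lay G 0) : ⁅x, y⁆ ∈ lay G 3 := by
  obtain ⟨u, hu⟩ := exists_wg h hm (Nat.zero_le m)
  rw [← hu.sup h hm] at hx hy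
  refine L1.comm_of_sup (fun c hc g hg => comm_mem_symm ?_) hx hy
  rw [hu.sup h hm, lay_zero] at hg
  rw [lay_succ] at hc ⊢
  exact mem_twoStep.1 hg c hc

theorem comm_same (hx : x ∈ lay G a) (hy : y ∈ lay G a) : ⁅x, y⁆ ∈ lay G (2 * a + 2) := by
  by_cases ha : a ≤ m
  · obtain ⟨u, hu⟩ := exists_wg h hm ha
    rw [← hu.sup h hm] at hx hy
    refine L1.comm_of_sup (fun c hc g hg => ?_) hx hy
    rw [hu.sup h hm] at hg
    exact lay_anti (by omega) (comm_lay h hm hc hg)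
  · rw [lay_eq_bot h hm (by omega), mem_bot] at hx
    simp [hx]

theorem le_of_weights (hX : ∀ j, i ≤ j → j ≤ m → ∃ x ∈ X, Wg j x) : lay G i ≤ X := by
  have key : ∀ n j, i ≤ j → m + 1 ≤ j + n → lay G j ≤ X := fun n => by
    induction n with
    | zero => exact fun j _ hj => by rw [lay_eq_bot h hm (i := j) hj]; exact bot_le
    | succ n ih =>
      intro j h1 h2
      by_cases hj : j ≤ m
      · obtain ⟨x, hx, hw⟩ := hX j h1 hj
        rw [← hw.sup h hm]
        exact sup_le (ih _ (by omega) (by omega)) (zpowers_le.2 hx)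
      · rw [lay_eq_bot h hm (by omega)]; exact bot_le
  exact key (m + 1) i le_rfl (by omega)

theorem normal_card [X.Normal] (hi : 1 ≤ i) (hX : Nat.card X = p ^ (m + 1 - i)) :
    X = lay G i := by
  obtain ⟨i, rfl⟩ := Nat.exists_eq_add_of_le' hi
  by_cases hi : i ≤ m
  · rw [lay_succ]
    exact Trans.MaxClass.eq_lowerCentralSeries h.card h.ne X hi (by rw [hX]; congr 1; omega)
  · rw [lay_eq_bot h hm (by omega), ← card_eq_one, hX, show m + 1 - (i + 1) = 0 by omega, pow_zero]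

theorem normal_eq [X.Normal] (hX : X ≤ lay G 0) : ∃ i, i ≤ m + 1 ∧ X = lay G i := by
  obtain ⟨r, hr⟩ := (h.pg.to_subgroup X).exists_card_eq
  have h1 := card_le_of_le hX
  rw [hr, card_lay h hm, Nat.pow_le_pow_iff_right hp.out.one_lt] at h1
  refine ⟨m + 1 - r, by omega, ?_⟩
  by_cases e : r = m + 1
  · rw [show m + 1 - r = 0 by omega]
    exact eq_of_le_of_card_ge hX (by rw [hr, card_lay h hm, e]; rfl)
  · exact normal_card h hm (by omega) (by rw [hr]; congr 1; omega)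

omit [Finite G] hp in
theorem normal_of_le (hX : lay G 1 ≤ X) : X.Normal := ⟨fun x hx g => by
  have := mul_mem (hX (show ⁅g, x⁆ ∈ lay G 1 by
    rw [lay_succ]; exact commutator_mem_commutator trivial trivial)) hx
  have _ := h
  have _ := hm
  simpa [commutatorElement_def] using this⟩

end Cfsg.Lib.MCE
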