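import Cfsg.Agent.MCE.L1
import Cfsg.Agent.MCN.Blk

/-! Two-step centralizers and the layers. -/

set_option autoImplicit false

namespace Cfsg.Lib.MCE

open Cfsg Cfsg.FusionSystem Subgroup Cfsg.Lib.Solv Cfsg.Lib.Fus Cfsg.Lib.Fus.Ess Cfsg.Lib.Grz
open scoped commutatorElement

variable {G : Type*} [Group G] {p m i j a b : ℕ} {x y s : G} {X : Subgroup G}

theorem L2.three {H K L W : Subgroup G} [W.Normal] (h1 : ⁅⁅K, L⁆, H⁆ ≤ W) (h2 : ⁅⁅L, H⁆, K⁆ ≤ W) :
    ⁅⁅H, K⁆, L⁆ ≤ W := by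
  rw [le_iff_map_mk'_eq_bot, map_commutator, map_commutator] at *
  exact commutator_commutator_eq_bot_of_rotate h1 h2

variable [Finite G] [hp : Fact p.Prime] (h : MC p m G) (hm : 2 ≤ m)
include h hm

theorem twoStep_eq (hi : 1 ≤ i) (him : i + 2 ≤ m) : twoStep G i = lay G 0 := by
  have _ := hm
  rw [lay_zero]
  by_cases h2 : p = 2
  · obtain ⟨s, hs⟩ := h.exists_unif
    induction i, hi using Nat.le_induction with
    | base => rfl
    | succ i hi ih =>
      have := hs.twoStep_eq hi (by omega)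
      rw [show p - 1 = 1 by omega] at this
      exact this.trans (ih (by omega))
  · exact MCN.blackburn h2 h hi him

theorem mem_C : x ∈ twoStep G (m - 1) ↔ ∀ y ∈ lay G (m - 1), x * y = y * x := by
  rw [mem_twoStep, h.gam_eq_bot (i := m - 1 + 2) (by omega), lay_of_pos (by omega)]
  simp only [comm_mem_bot]

theorem comm_wg (hs : s ∉ lay G 0) (hy : Wg i y)
    (hi : i + 2 ≤ m ∨ (s ∉ twoStep G (m - 1) ∧ i + 1 ≤ m)) : Wg (i + 1) ⁅s, y⁆ := by
  refine ⟨(comm_top h hm hy.1 s).2, fun e => ?_⟩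
  rcases i with _ | i
  · obtain ⟨u, hu⟩ := exists_wg h hm (i := 1) (by omega)
    refine hu.2 ((show lay G (0 + 1) ≤ _ from ?_) hu.1)
    rw [lay_succ_eq h hm 0, ← sup_top h hm hs]
    refine commutator_le.2 fun a ha g hg => comm_mem_symm (comm_mem_of_sup
      (fun c hc => lay_anti (by omega) (comm_zero h hm hc ha)) (comm_mem_symm ?_) hg)
    rw [← hy.sup h hm] at ha
    exact comm_mem_of_sup (fun c hc => (comm_top h hm hc s).1) (comm_mem_symm e) ha
  · have h1 := hy.1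
    have h2 := hy.2
    rw [lay_succ] at h1 h2 e
    have h3 := h.mem_twoStep_of (by omega) h1 h2 e
    by_cases h4 : i + 1 + 2 ≤ m
    · exact hs (twoStep_eq h hm (by omega) h4 ▸ h3)
    · obtain ⟨h5, h6⟩ := hi.resolve_left h4
      exact h5 (show m - 1 = i + 1 by omega ▸ h3)

theorem comm_lay2 (hx : x ∈ lay G a) (hy : y ∈ lay G b) (hab : a + b + 2 ≤ m ∨ NE m G) :
    ⁅x, y⁆ ∈ lay G (a + b + 2) := by
  suffices k : ∀ a b, a + b + 2 ≤ m ∨ NE m G → ⁅lay G a, lay G b⁆ ≤ lay G (a + b + 2) from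
    k a b hab (commutator_mem_commutator hx hy)
  intro a
  induction a with
  | zero =>
    refine fun b hb => commutator_le.2 fun x hx y hy => ?_
    rcases b with _ | b
    · exact lay_anti (by omega) (comm_zero h hm hx hy)
    by_cases h1 : b + 1 + 2 ≤ m
    · rw [← twoStep_eq h hm (by omega) h1] at hx
      rw [lay_succ] at hy
      rw [lay_of_pos (by omega), zero_add]
      exact mem_twoStep.1 hx y hy
    · have h2 : twoStep G (m - 1) = lay G 0 := hb.resolve_left (by omega)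
      exact comm_mem_of_comm ((mem_C h hm).1 (h2 ▸ hx) y (lay_anti (by omega) hy))
  | succ a ih =>
    intro b hb
    rw [lay_succ_eq h hm a]
    refine L2.three ?_ ?_
    · rw [commutator_comm ⊤, ← lay_succ_eq h hm, commutator_comm]
      exact (ih (b + 1) (hb.imp_left (by omega))).trans (lay_anti (by omega))
    · rw [commutator_comm (lay G b), show a + 1 + b + 2 = a + b + 2 + 1 by omega, lay_succ_eq h hm]
      exact commutator_mono (ih b (hb.imp_left (by omega))) le_rfl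

theorem unif_of (hs : s ∉ lay G 0) (hs' : s ∉ twoStep G (m - 1)) : Unif p m s :=
  ⟨h.card, h.card_centralizer_le hm fun i h1 h2 => by
    by_cases h3 : i + 2 ≤ m
    · rwa [twoStep_eq h hm h1 h3]
    · rwa [show i = m - 1 by omega]⟩

theorem exists_out : ∃ s : G, s ∉ lay G 0 ∧ s ∉ twoStep G (m - 1) := by
  obtain ⟨s, hs⟩ := h.exists_unif
  exact ⟨s, lay_zero (G := G) ▸ hs.not_mem_twoStep le_rfl hm,
    hs.not_mem_twoStep (by omega) (by omega)⟩

theorem cent_zero : centralizer (lay G 0 : Set G) ≤ lay G 0 := fun s hs => by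
  by_contra e
  obtain ⟨y, hy⟩ := exists_wg h hm (Nat.zero_le m)
  exact (comm_wg h hm e hy (.inl (by omega))).2 (comm_mem_of_comm (hs y hy.1).symm)

theorem c0_mem_inn : c0 x ∈ Inn (lay G 0) ↔ x ∈ lay G 0 := by
  rw [mem_inn_pext]
  refine ⟨fun ⟨g, hg, e⟩ => (mul_mem_cancel_left (inv_mem hg)).1 (cent_zero h hm fun y hy => ?_),
    fun hx => ⟨x, hx, fun y hy => pext_conjAut _ hy⟩⟩
  have := (pext_conjAut _ hy).symm.trans (e y hy)
  calc y * (g⁻¹ * x) = g⁻¹ * (g * y * g⁻¹) * x := by group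
    _ = _ := by rw [← this]; group

theorem eq_lay_of_norm (hZ : lay G m ≤ X) (hX : X ≤ lay G 0) (hs : s ∉ lay G 0)
    (hn : ∀ x ∈ X, s * x * s⁻¹ ∈ X) : ∃ k, k ≤ m ∧ X = lay G k := by
  classical
  obtain ⟨z, hz⟩ := exists_wg h hm le_rfl
  have ex : ∃ k, ¬ X ≤ lay G (k + 1) := ⟨m, fun e => hz.2 (e (hZ hz.1))⟩
  have h1 : X ≤ lay G (Nat.find ex) := by
    rcases e : Nat.find ex with _ | k
    · exact hX
    · exact not_not.1 (Nat.find_min ex (show k < _ by omega))
  obtain ⟨y, hy, hy'⟩ := SetLike.not_le_iff_exists.1 (Nat.find_spec ex)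
  have hw : Wg (Nat.find ex) y := ⟨h1 hy, hy'⟩
  refine ⟨_, hw.le h hm, h1.antisymm (le_of_weights h hm fun j h2 h3 => ?_)⟩
  by_cases h4 : j = m
  · exact ⟨z, hZ hz.1, h4 ▸ hz⟩
  induction j, h2 using Nat.le_induction with
  | base => exact ⟨y, hy, hw⟩
  | succ j h2 ih =>
    obtain ⟨u, hu, hu'⟩ := ih (by omega) (by omega)
    exact ⟨_, mul_mem (hn u hu) (inv_mem hu), comm_wg h hm hs hu' (.inl (by omega))⟩

end Cfsg.Lib.MCE
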