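import Cfsg.Agent.MCE.L3

/-! Powers in a group of maximal class. -/

set_option autoImplicit false

namespace Cfsg.Lib.MCE

open Cfsg Cfsg.FusionSystem Subgroup Cfsg.Lib.Solv Cfsg.Lib.Fus Cfsg.Lib.Fus.Ess Cfsg.Lib.Grz
open scoped commutatorElement

variable {G : Type*} [Group G] {p m i j a b : ℕ} {x y s : G} {X : Subgroup G}
  [Finite G] [hp : Fact p.Prime] (h : MC p m G) (hm : 2 ≤ m)
include h hm

theorem pow_lay (hi : 1 ≤ i) (hx : x ∈ lay G i) : x ^ p ∈ lay G (i + (p - 1)) := by
  have _ := hm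
  rw [lay_of_pos hi] at hx
  rw [lay_of_pos (by omega)]
  exact h.pow_mem' hi hx

theorem pow_wg (hx : Wg i x) (hi : i + (p - 1) ≤ m) (h0 : i = 0 → p ≤ m) :
    Wg (i + (p - 1)) (x ^ p) := by
  have p2 := hp.out.two_le
  rcases Nat.eq_zero_or_pos i with rfl | h1
  · have hne : NE m G := by_contra fun e => by
      have := (exc h hm e).2.2.2
      have := h0 rfl
      omega
    have hC : twoStep G (m - 1) = lay G 0 := hne
    obtain ⟨s, hs⟩ := exists_not_mem_zero h hm
    have k : ∀ t, t ∉ lay G 0 → t ^ p ∈ lay G p := fun t ht => lay_anti (h0 rfl)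
      ((center_eq h hm).le ((unif_of h hm ht (hC ▸ ht)).pow_mem_center (by omega)))
    have h2 := norm_formula_mod hp.out (s := s) (V := lay G) (lay G p) lay_anti
      (fun i j => le_sup_of_le_left (commutator_le.2 fun a ha b hb =>
        comm_lay2 h hm ha hb (.inr hne))) le_rfl
      (fun v hv => lay_anti (by omega) (pow_lay h hm le_rfl hv))
      (fun j v hv => dl_eq s v ▸ (comm_top h hm hv _).2) hx.1
      (mul_mem (inv_mem (k s hs)) (k _ fun e => hs ((mul_mem_cancel_right hx.1).1 e)))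
    have h3 : ∀ n, n ≤ m → Wg n ((dl s)^[n] x) := fun n hn => by
      induction n with
      | zero => exact hx
      | succ n ih =>
        have h4 : s⁻¹ ∉ lay G 0 := fun e => hs (inv_mem_iff.1 e)
        rw [Function.iterate_succ_apply', dl_eq]
        exact comm_wg h hm h4 (ih (by omega)) (.inr ⟨hC ▸ h4, hn⟩)
    have := ((h3 (p - 1) (by omega)).inv.mul (lay_anti (by omega) h2)).2
    rwa [mul_inv_cancel_right, ← zero_add (p - 1)] at this
  · obtain ⟨s, hs⟩ := h.exists_unif
    refine ⟨pow_lay h hm h1 hx.1, ?_⟩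
    have h2 := hx.1
    have h3 := hx.2
    rw [lay_of_pos h1] at h2
    rw [lay_succ] at h3 ⊢
    exact hs.pow_not_mem h1 hi h2 h3

theorem ord_p (hpm : p ≤ m) (hx : x ∈ lay G 0) (h1 : x ^ p = 1) : x ∈ lay G (m + 2 - p) := by
  by_contra e
  obtain ⟨i, -, h2, h3⟩ := exists_wt hx e
  have p2 := hp.out.two_le
  exact (pow_wg h hm h3 (by omega) fun _ => hpm).2 (h1 ▸ one_mem _)

theorem comm_of_small (h2 : p = 2 ∨ m = 2) : IsMulCommutative (lay G 0) := by
  rcases h2 with h2 | h2
  · obtain ⟨y, hy⟩ := exists_wg h hm (Nat.zero_le m)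
    have k : ∀ j, j ≤ m → Wg j (y ^ p ^ j) := fun j hj => by
      induction j with
      | zero => simpa using hy
      | succ j ih =>
        have := pow_wg h hm (ih (by omega)) (by omega) fun _ => by omega
        rwa [← pow_mul, ← pow_succ, show p - 1 = 1 by omega] at this
    have e : lay G 0 ≤ zpowers y :=
      le_of_weights h hm fun j _ hj => ⟨_, pow_mem (mem_zpowers y) _, k j hj⟩
    exact ⟨⟨fun a b => Subtype.ext (mul_comm_of inferInstance (e a.2) (e b.2))⟩⟩
  · refine ⟨⟨fun a b => Subtype.ext (comm_mem_bot.1 ?_)⟩⟩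
    exact lay_eq_bot h hm (i := 3) (by omega) ▸ comm_zero h hm a.2 b.2

theorem le_frattini (hn : ¬ IsMulCommutative (lay G 0)) :
    lay G (p - 1) ≤ (frattini (lay G 0)).map (lay G 0).subtype := by
  have := ConjAct.normal_of_characteristic_of_normal (H := lay G 0) (K := frattini (lay G 0))
  have hP := h.pg.to_subgroup (lay G 0)
  obtain ⟨i, hi, e⟩ := normal_eq h hm (map_subtype_le (frattini (lay G 0)))
  refine (lay_anti ?_).trans e.ge
  by_cases hpm : p ≤ m
  · obtain ⟨y, hy⟩ := exists_wg h hm (Nat.zero_le m)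
    simpa using (pow_wg h hm hy (by omega) fun _ => hpm).mem_iff.1
      (e.le (Ess.pow_mem_map_frattini hP hy.1))
  · by_contra h1
    refine hn ⟨⟨fun a b => Subtype.ext (comm_mem_bot.1 ?_)⟩⟩
    rw [← lay_eq_bot h hm (i := i) (by omega), ← e]
    exact ⟨⁅a, b⁆, commutator_le_frattini_of_isPGroup hP
      (commutator_mem_commutator trivial trivial), rfl⟩

end Cfsg.Lib.MCE
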