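import Cfsg.Agent.MCE.XB

/-! No extraspecial pearls over an exceptional group. -/

set_option autoImplicit false

namespace Cfsg.Lib.MCE

open Cfsg Cfsg.FusionSystem Subgroup Cfsg.Lib.Solv Cfsg.Lib.Fus Cfsg.Lib.Fus.Ess Cfsg.Lib.Grz
open scoped commutatorElement

universe u

variable {G : Type u} [Group G] [Finite G] {p m k : ℕ} [hp : Fact p.Prime]
  {F : FusionSystem (⊤ : Subgroup G)} {E T P : Subgroup G} {e x : G} {f : Equiv.Perm G}

variable (h : MC p m G) (hm : 2 ≤ m) (hF : F.IsSaturated p)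
include h hm hF

theorem not_cube (hne : ¬ NE m G) (hE : F.IsEssential p E) (hx : x ∈ E) (h1 : x ∉ lay G 0)
    (h2 : x ∉ twoStep G (m - 1)) : Nat.card E ≠ p ^ 3 := fun cE => by
  have hS : IsPGroup p (⊤ : Subgroup G) := h.pg.to_subgroup ⊤
  have hZ : lay G m ≤ E := fun y hy => cent_le_of hE.1 fun x _ =>
    mem_center_iff.1 ((center_eq h hm).ge hy) x
  obtain ⟨k, hk, ek⟩ := eq_lay_of_norm h hm (X := E ⊓ lay G 0)
    (le_inf hZ (lay_anti (by omega))) inf_le_right h1 fun y hy =>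
      ⟨E.mul_mem (E.mul_mem hx hy.1) (E.inv_mem hx), (lay_normal 0).conj_mem y hy.2 x⟩
  have gen : ∀ c ∈ E, c ∉ lay G 0 → E = lay G k ⊔ zpowers c := fun c hc hc' => by
    refine le_antisymm (fun g hg => ?_)
      (sup_le (ek.ge.trans inf_le_left) (zpowers_le_of_mem hc))
    obtain ⟨j, hj⟩ := exists_pow_top h hm hc' g
    have h7 : (c ^ j)⁻¹ * g ∈ lay G k := ek.le ⟨E.mul_mem (E.inv_mem (E.pow_mem hc j)) hg, hj⟩
    simpa using mul_mem (mem_sup_right (pow_mem (mem_zpowers c) j)) (mem_sup_left h7)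
  obtain rfl : k = m - 1 := by
    rw [gen x hx h1, PG.card_sup_zpowers hp.out (mem_norm_lay x k)
      (fun e => h1 (lay_anti (Nat.zero_le k) e)) (ek.le ⟨E.pow_mem hx p, pow_mem_zero h hm x⟩),
      card_lay h hm, ← pow_succ', Nat.pow_right_inj hp.out.one_lt] at cE
    omega
  have lE : lay G (m - 1) ≤ E := ek.ge.trans inf_le_left
  have zc : centralizerIn E E = lay G m := by
    refine le_antisymm (fun c hc => ?_) fun c hc => mem_centralizerIn.2 ⟨hZ hc, fun y _ =>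
      mem_center_iff.1 ((center_eq h hm).ge hc) y⟩
    obtain ⟨hc1, hc2⟩ := mem_centralizerIn.1 hc
    by_cases h0 : c ∈ lay G 0
    · by_contra h3
      refine (comm_wg h hm h1 (i := m - 1) ⟨ek.le ⟨hc1, h0⟩, by
        rwa [show m - 1 + 1 = m by omega]⟩ (Or.inr ⟨h2, by omega⟩)).2 ?_
      exact commutatorElement_eq_one_iff_mul_comm.2 (hc2 x hx) ▸ one_mem _
    · refine absurd (sup_le ?_ (zpowers_le_of_mem ((mem_C h hm).2 fun y hy =>
        (hc2 y (lE hy)).symm)) ((gen c hc1 h0).le hx)) h2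
      exact (lay_anti (by omega)).trans ((C_inf h hm hne).ge.trans inf_le_left)
  obtain ⟨g, g1, g2, g3⟩ := exists_inv_fix hS hF hE hZ
    (aInv_of_piso le_top fun f hf x _ hx => zc.le (PIso.map_cent_self hf (zc.ge hx)))
    (by rw [cE, card_lay h hm, ← pow_add]; congr 1; omega) fun s _ y hy => by
      rw [mem_center_iff.1 ((center_eq h hm).ge hy) s, mul_inv_cancel_right]
  have hlt := lt_normalizerIn hS (lt_of_isEssential hS hF hE)
  obtain ⟨τ, hτ⟩ := ext_of_Q h.pg hF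
    (fun R => p ^ 4 ≤ Nat.card R ∧ ∃ x ∈ R, x ∉ lay G 0 ∧ x ∉ twoStep G (m - 1))
    (fun P R hle hP => ⟨hP.1.trans (card_le_of_le hle), hP.2.imp fun _ e => ⟨hle e.1, e.2⟩⟩)
    (fun τ P ⟨h3, y, hy, h4, h5⟩ => ⟨by rw [card_map_of_injective τ.injective]; exact h3,
      τ y, mem_map_of_mem _ hy, fun e => h4 (XB.char_mem τ e),
      fun e => h5 (XB.char_mem (hX := twoStep_char _) τ e)⟩)
    (fun R hR ⟨h3, y, hy, h4, h5⟩ => by
      have := h3.trans (XB.pearl_card (pearl_of h hm hF hR hy h4 h5))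
      rw [Nat.pow_le_pow_iff_right hp.out.one_lt] at this
      omega) g1.mor
    ⟨by rw [pow_succ', ← cE]; exact prime_mul_card_le_of_lt' (h.pg.to_subgroup _) hlt,
      x, hlt.le hx, h1, h2⟩
  refine XB.not_fix h hm hne (τ := τ) (a := p - 1) h1
    (hτ x (hlt.le hx) ▸ lay_anti (Nat.zero_le _) (g2 x hx)) (fun v hv => ?_)
    (by rw [neg_one_cast]; simp) fun v hv => (hτ v (hlt.le (hZ hv))).trans (g3 v hv)
  rw [XB.inv_pred, hτ v (hlt.le (lE hv))]
  exact mul_mem (inv_mem (pow_mem_succ h hm hv)) (lay_anti (by omega) (g2 v (lE hv)))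

end Cfsg.Lib.MCE
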