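import Cfsg.Agent.MCE.L3

/-! The subgroups `lay G k ⊔ ⟨e⟩`. -/

set_option autoImplicit false
set_option linter.unusedSectionVars false

namespace Cfsg.Lib.MCE

open Cfsg Cfsg.FusionSystem Subgroup Cfsg.Lib.Solv Cfsg.Lib.Fus Cfsg.Lib.Fus.Ess Cfsg.Lib.Grz
open scoped commutatorElement

universe u

variable {G : Type u} [Group G] [Finite G] {p m k : ℕ} [hp : Fact p.Prime] {E : Subgroup G} {e x : G}

namespace XA

variable (h : MC p m G) (hm : 2 ≤ m)
include h hm

theorem fix (he : e ∉ lay G 0) (hx : x ∈ lay G 0) (c : ⁅e, x⁆ = 1) : x ∈ lay G (m - 1) := by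
  by_contra n
  obtain ⟨i, -, h1, h2⟩ := exists_wt hx n
  exact (comm_wg h hm he h2 (Or.inl (by omega))).2 (c ▸ one_mem _)

theorem pow_mem (he : e ∉ lay G 0) : e ^ p ∈ lay G (m - 1) :=
  fix h hm he (pow_mem_zero h hm e) ((Commute.refl e).pow_right p).commutator_eq

theorem mem_lay (X : XC m E k e) (hx : x ∈ E) (h0 : x ∈ lay G 0) : x ∈ lay G k := by
  obtain ⟨c, u, hu, rfl⟩ := exists_mul_pow (X.eq ▸ hx)
  obtain ⟨d, rfl⟩ := (pow_mem_zero_iff h hm X.not_mem c).1
    ((mul_mem_cancel_right (lay_anti (Nat.zero_le k) hu)).1 h0)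
  refine mul_mem ?_ hu
  rw [pow_mul]
  exact Subgroup.pow_mem _ (lay_anti (by have := X.lt; omega) (pow_mem h hm X.not_mem)) d

omit h hm [Finite G] hp in
theorem lay_le (X : XC m E k e) : lay G k ≤ E := X.eq ▸ le_sup_left

omit h hm [Finite G] hp in
theorem e_mem (X : XC m E k e) : e ∈ E := X.eq ▸ mem_sup_right (mem_zpowers e)

theorem card_eq (X : XC m E k e) : Nat.card E = p * Nat.card (lay G k) := by
  rw [X.eq]
  exact PG.card_sup_zpowers hp.out (mem_norm_lay e k) (fun n => X.not_mem (lay_anti (Nat.zero_le k) n))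
    (lay_anti (by have := X.lt; omega) (pow_mem h hm X.not_mem))

theorem step (X : XC m E k e) {n : ℕ} (h1 : k ≤ n) (h2 : n + 2 ≤ m) {v : E} (hv : Wg m (v : G)) :
    (lay G (n + 1)).subgroupOf E ≤ ⁅(⊤ : Subgroup E), (lay G n).subgroupOf E⁆ ⊔ zpowers v := by
  intro y hy
  refine (mem_map_iff_mem E.subtype_injective).1 (le_of_weights h hm (i := n + 1) (fun j h3 h4 => ?_) hy)
  rcases h4.eq_or_lt with rfl | h4
  · exact ⟨v, ⟨v, mem_sup_right (mem_zpowers v), rfl⟩, hv⟩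
  obtain ⟨j, rfl⟩ : ∃ i, j = i + 1 := ⟨j - 1, by omega⟩
  obtain ⟨w, hw⟩ := exists_wg h hm (i := j) (by omega)
  have h5 : w ∈ lay G n := lay_anti (by omega) hw.1
  exact ⟨_, ⟨⁅⟨e, e_mem X⟩, ⟨w, lay_le X (lay_anti h1 h5)⟩⁆,
    mem_sup_left (commutator_mem_commutator trivial h5), rfl⟩,
    comm_wg h hm X.not_mem hw (Or.inl (by omega))⟩

end XA

open XA

theorem XC.facts (h : MC p m G) (hm : 2 ≤ m) (hne : ¬ NE m G) (X : XC m E k e) :
    Nat.card E = p ^ (m + 2 - k) ∧ E ≤ twoStep G (m - 1) ∧ E ⊓ lay G 0 = lay G k ∧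
      (k = 1 → E = twoStep G (m - 1)) ∧
      (2 ≤ k → normalizerIn ⊤ E = lay G (k - 1) ⊔ zpowers e) ∧
      (k + 2 ≤ m → ∀ x ∈ E, (∀ y ∈ E, x * y = y * x) ↔ x ∈ lay G (m - 1)) := by
  have h1 := X.one_le
  have h2 := X.lt
  have hc : Nat.card E = p ^ (m + 2 - k) := by
    rw [card_eq h hm X, card_lay h hm, ← pow_succ']; congr 1; omega
  have hC : E ≤ twoStep G (m - 1) := X.eq ▸ sup_le
    ((lay_anti h1).trans ((C_inf h hm hne).ge.trans inf_le_left)) (zpowers_le.2 X.mem)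
  refine ⟨hc, hC, le_antisymm (fun x hx => mem_lay h hm X hx.1 hx.2)
    (le_inf (lay_le X) (lay_anti (Nat.zero_le k))), fun e1 => ?_, fun h3 => le_antisymm (fun g hg => ?_)
    (sup_le (fun y hy => mem_normalizerIn_of_finite trivial fun x hx => ?_)
      (zpowers_le.2 ⟨trivial, le_normalizer (e_mem X)⟩)), fun h3 x hx => ⟨fun c => ?_, fun c y hy => ?_⟩⟩
  · refine eq_of_le_of_card_ge hC ?_
    rw [hc, card_twoStep_eq h hm (by omega) (by omega), e1]
    exact le_of_eq (by congr 1)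
  · obtain ⟨c, hu⟩ := exists_pow_top h hm X.not_mem g
    have hn := mul_mem (inv_mem (le_normalizer (E.pow_mem (e_mem X) c))) hg.2
    rw [← mul_inv_cancel_left (e ^ c) g]
    refine mul_mem (mem_sup_right (npow_mem_zpowers e c)) (mem_sup_left ?_)
    generalize (e ^ c)⁻¹ * g = u at hu hn
    by_contra n
    obtain ⟨i, -, h4, h5⟩ := exists_wt hu n
    have h6 := comm_wg h hm X.not_mem h5 (Or.inl (by omega))
    have h7 : ⁅e, u⁆ ∈ E := by
      rw [commutatorElement_def, mul_assoc e, mul_assoc e]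
      exact mul_mem (e_mem X) ((mem_normalizer_iff.1 hn _).1 (inv_mem (e_mem X)))
    have := h6.mem_iff.1 (mem_lay h hm X h7 (lay_anti (Nat.zero_le _) h6.1))
    omega
  · have := (comm_top h hm hy x).1
    rw [show k - 1 + 1 = k by omega] at this
    rw [show y * x * y⁻¹ = ⁅y, x⁆ * x by group]
    exact mul_mem (lay_le X this) hx
  · refine fix h hm X.not_mem (by_contra fun n => ?_)
      (commutatorElement_eq_one_iff_mul_comm.2 (c e (e_mem X)).symm)
    obtain ⟨w, hw⟩ := exists_wg h hm (i := k) (by omega)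
    exact (comm_wg h hm n hw (Or.inl h3)).2
      (commutatorElement_eq_one_iff_mul_comm.2 (c w (lay_le X hw.1)) ▸ one_mem _)
  · exact ((mem_C h hm).1 (hC hy) x c).symm

theorem XC.not_rad (h : MC p m G) (hm : 2 ≤ m) (hne : ¬ NE m G) (X : XC m E k e) (hk : k + 3 ≤ m)
    (h4 : ¬ (k = 1 ∧ m = 4)) {A : Subgroup (MulAut E)} {t : MulAut E} : ¬ Rad p A t := fun R => by
  have h1 := X.one_le
  obtain ⟨-, -, -, -, -, hZ⟩ := X.facts h hm hne
  obtain ⟨v, hv⟩ := exists_wg h hm (i := m) le_rfl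
  have hvE : v ∈ E := lay_le X (lay_anti (by omega) hv.1)
  have cZ : center E = (lay G (m - 1)).subgroupOf E := by
    ext x
    rw [mem_center_iff, mem_subgroupOf, ← hZ (by omega) x x.2]
    exact ⟨fun c y hy => congrArg Subtype.val (c ⟨y, hy⟩).symm, fun c y => Subtype.ext (c y y.2).symm⟩
  have hvZ : zpowers (⟨v, hvE⟩ : E) ≤ center E :=
    zpowers_le.2 (cZ ▸ (lay_anti (by omega) hv.1 : v ∈ lay G (m - 1)))
  have st : ∀ n, k ≤ n → n + 2 ≤ m → AInv A ((lay G n).subgroupOf E) →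
      AInv A ((lay G (n + 1)).subgroupOf E) := fun n h2 h3 a => by
    rw [le_antisymm ((step h hm X h2 h3 (v := ⟨v, hvE⟩) hv).trans (sup_le_sup_left hvZ _))
      (sup_le (commutator_le.2 fun a _ b hb => (comm_top h hm hb a).2)
        (cZ.le.trans (comap_mono (lay_anti (by omega)))))]
    exact (aInv_top.commutator a).sup (.of_char _)
  have cE : commutator E ≤ (lay G (k + 1)).subgroupOf E := commutator_le.2 fun a _ b _ =>
    L1.comm_of_sup (Y := lay G k) (s := e) (fun c hc g _ => (comm_top h hm hc g).1) (X.eq ▸ a.2) (X.eq ▸ b.2)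
  have s1 : (lay G (k + 1)).subgroupOf E ≤ commutator E ⊔ zpowers ⟨v, hvE⟩ :=
    (step h hm X le_rfl (by omega) hv).trans (sup_le_sup_right (commutator_mono le_rfl le_top) _)
  have vk : center E ≤ (lay G (k + 1)).subgroupOf E := cZ.le.trans (comap_mono (lay_anti (by omega)))
  have a1 : AInv A ((lay G (k + 1)).subgroupOf E) := by
    rw [le_antisymm (s1.trans (sup_le_sup_left hvZ _)) (sup_le cE vk)]
    exact (AInv.of_char _).sup (.of_char _)
  obtain ⟨Y, aY, y1, y2⟩ : ∃ Y : Subgroup E, AInv A Y ∧ (lay G (2 * k + 2)).subgroupOf E ≤ Y ∧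
      Y ≤ (lay G (k + 3)).subgroupOf E := by
    rcases hk.eq_or_lt with h5 | h5
    · exact ⟨⊥, aInv_bot, by rw [lay_eq_bot h hm (by omega), bot_subgroupOf], bot_le⟩
    · exact ⟨_, st _ (by omega) (by omega) (st _ (by omega) (by omega) a1),
        comap_mono (lay_anti (by omega)), le_rfl⟩
  have a0 : AInv A ((lay G k).subgroupOf E) := fun a ha x hx => by
    refine mem_lay h hm X (a x).2 (by_contra fun n => ?_)
    obtain ⟨w, hw⟩ := exists_wg h hm (i := k + 1) (by omega)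
    have hw' : (⟨w, lay_le X (lay_anti (by omega) hw.1)⟩ : E) ∈ (lay G (k + 1)).subgroupOf E := hw.1
    have h5 := a1 _ (inv_mem ha) _ hw'
    have h6 := lay_anti (show 2 * k + 2 ≤ _ by omega) (comm_lay h hm (a := k) (b := k + 1) hx h5)
    have h7 := y2 (aY a ha ⁅x, a⁻¹ ⟨w, _⟩⁆ (y1 h6))
    rw [map_commutatorElement, MulAut.apply_inv_self] at h7
    exact (comm_wg h hm n hw (Or.inl (by omega))).2 h7
  have c0 : ∀ n, k ≤ n → Nat.card ((lay G n).subgroupOf E) = Nat.card (lay G n) := fun n hn =>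
    Nat.card_congr (subgroupOfEquivOfLe ((lay_anti hn).trans (lay_le X))).toEquiv
  refine R.not_ptr_frattini (PTr.mono (((R.step aInv_top a0 le_top ?_).trans R.pg
    (R.step a0 a1 (comap_mono (lay_anti (by omega))) ?_) a1).trans R.pg
    (ptr_of_cyclic R.pg R.mem R.pelt a1 (.of_char (commutator E)) (x := ⟨v, hvE⟩)
      (normalizer_eq_top (commutator E) ▸ mem_top _) (le_antisymm s1 (sup_le cE (hvZ.trans vk))))
    (.of_char _)) le_rfl (commutator_le_frattini_of_isPGroup R.pg))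
  · rw [card_top, card_eq h hm X, c0 k le_rfl]
  · rw [c0 k le_rfl, c0 _ (by omega)]
    exact L1.card_le h hm k

end Cfsg.Lib.MCE
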