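import Cfsg.Agent.MCE.XP
import Cfsg.Agent.MCE.FP
import Cfsg.Agent.MCE.FT
import Cfsg.Agent.MCE.ScB

/-! No essential subgroup inside the centralizer of the second centre when `m ≥ 6`. -/

set_option autoImplicit false

namespace Cfsg.Lib.MCE

open Cfsg Cfsg.FusionSystem Subgroup Cfsg.Lib.Solv Cfsg.Lib.Fus Cfsg.Lib.Fus.Ess Cfsg.Lib.Grz
open scoped commutatorElement

universe u

variable {G : Type u} [Group G] [Finite G] {p m k : ℕ} [hp : Fact p.Prime]
  {F : FusionSystem (⊤ : Subgroup G)} {E T P : Subgroup G} {e x : G} {f : Equiv.Perm G}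

namespace XB

omit [Finite G] in
theorem eq_one (h2 : p ≠ 2) (h1 : x = x⁻¹) (h3 : x ^ p = 1) : x = 1 := by
  have h4 : x ^ 2 = 1 := by rw [sq]; exact mul_eq_one_iff_eq_inv.2 h1
  have := Nat.dvd_gcd (orderOf_dvd_of_pow_eq_one h3) (orderOf_dvd_of_pow_eq_one h4)
  rwa [(Nat.coprime_primes hp.out Nat.prime_two).2 h2, Nat.dvd_one, orderOf_eq_one_iff] at this

omit [Finite G] in
theorem inv_pred (x y : G) : (x ^ (p - 1))⁻¹ * y = (x ^ p)⁻¹ * (x * y) := by
  conv_rhs => rw [← Nat.sub_add_cancel hp.out.one_le, pow_succ']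
  group

omit [Finite G] in
theorem pearl_card (h : Pearl p E) : Nat.card E ≤ p ^ 3 :=
  h.elim (fun e => e.1 ▸ Nat.pow_le_pow_right hp.out.pos (by omega)) fun e => e.1.le

omit [Finite G] hp in
theorem char_mem {X : Subgroup G} [hX : X.Characteristic] (τ : MulAut G) (hx : τ x ∈ X) : x ∈ X :=
  (characteristic_iff_comap_le.1 hX τ) hx

variable (h : MC p m G) (hm : 2 ≤ m) (hF : F.IsSaturated p)
include h hm hF

theorem ext (n : ℕ) (hn : 4 ≤ n)
    (hX : ∀ R k e, F.IsEssential p R → XC m R k e → k + n ≤ m + 2 → False) (hne : ¬ NE m G)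
    (hf : Mor F P f) (h1 : p ^ n ≤ Nat.card P) (h2 : ¬ P ≤ lay G 0) :
    ∃ τ : MulAut G, ∀ x ∈ P, τ x = f x := by
  refine ext_of_Q h.pg hF (fun R => p ^ n ≤ Nat.card R ∧ ¬ R ≤ lay G 0)
    (fun P R hle hP => ⟨hP.1.trans (card_le_of_le hle), fun e => hP.2 (hle.trans e)⟩)
    (fun τ P hP => ⟨by rw [card_map_of_injective τ.injective]; exact hP.1,
      fun e => hP.2 fun x hx => char_mem τ (e (mem_map_of_mem _ hx))⟩)
    (fun R hR hQ => ?_) hf ⟨h1, h2⟩
  rcases ess_split h hm hF hR with ⟨x, hx, h3, h4⟩ | h3 | ⟨-, k, e, X⟩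
  · have := hQ.1.trans (pearl_card (pearl_of h hm hF hR hx h3 h4))
    rw [Nat.pow_le_pow_iff_right hp.out.one_lt] at this
    omega
  · exact hQ.2 h3
  · have := hQ.1
    rw [(XC.facts h hm hne X).1, Nat.pow_le_pow_iff_right hp.out.one_lt] at this
    exact hX R k e hR X (by have := X.lt; omega)

omit hF in
theorem not_fix (hne : ¬ NE m G) {τ : MulAut G} {a : ℕ} (hs : x ∉ lay G 0)
    (h1 : x * τ x ∈ lay G 0) (h2 : Eg τ (m - 1) a) (ha : (a : ZMod p) ^ 2 = 1)
    (h3 : ∀ v ∈ lay G m, τ v = v) : False := by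
  have hl := la_of_aut h hm τ hs (l := p - 1)
    (by rw [inv_pred]; exact mul_mem (inv_mem (pow_mem_zero h hm x)) h1)
  obtain ⟨v, hv⟩ := exists_wg h hm le_rfl
  have h4 := pow_mem_succ h hm hv.1
  rw [lay_eq_bot h hm le_rfl, mem_bot] at h4
  have h5 := (exc h hm hne).1
  exact hv.2 (eq_one (by omega) ((h3 v hv.1).symm.trans (sign h hm hne hl h2 ha hv.1)) h4 ▸
    one_mem _)

theorem caseA (hne : ¬ NE m G) (h6 : 6 ≤ m) (hE : F.IsEssential p E) (X : XC m E k e)
    (hk : k + 3 ≤ m) : False := by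
  obtain ⟨t, ht⟩ := exists_rad_of_essential (h.pg.to_subgroup ⊤) hF hE
  exact XC.not_rad h hm hne X hk (by omega) ht

theorem caseB (hne : ¬ NE m G) (h6 : 6 ≤ m) (hE : F.IsEssential p E) (X : XC m E k e)
    (hk : k + 2 ≤ m) : False := by
  rcases hk.eq_or_lt with hk | hk
  swap
  · exact caseA h hm hF hne h6 hE X hk
  obtain ⟨cE, -, -, -, nE, zE⟩ := XC.facts h hm hne X
  have XN : XC m (normalizerIn ⊤ E) (k - 1) e :=
    ⟨by omega, by omega, X.mem, X.not_mem, nE (by omega)⟩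
  obtain ⟨cN, nC, -⟩ := XC.facts h hm hne XN
  have lE : lay G (m - 1) ≤ E := (lay_anti (by omega)).trans (XA.lay_le X)
  have zc : centralizerIn E E = lay G (m - 1) := by
    ext x
    rw [mem_centralizerIn]
    exact ⟨fun hx => (zE hk.le x hx.1).1 fun y hy => (hx.2 y hy).symm,
      fun hx => ⟨lE hx, fun y hy => ((zE hk.le x (lE hx)).2 hx y hy).symm⟩⟩
  obtain ⟨g, g1, g2, g3⟩ := exists_inv_fix (h.pg.to_subgroup ⊤) hF hE lE
    (aInv_of_piso le_top fun f hf x _ hx => zc.le (PIso.map_cent_self hf (zc.ge hx)))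
    (by rw [cE, card_lay h hm, ← pow_add]; congr 1; omega) fun s hs y hy => by
      rw [(mem_C h hm).1 (nC hs) y hy, mul_inv_cancel_right]
  obtain ⟨τ, hτ⟩ := ext h hm hF 5 (by omega)
    (fun R k e hR X hk => caseA h hm hF hne h6 hR X (by omega)) hne g1.mor
    (by rw [cN]; exact Nat.pow_le_pow_right hp.out.pos (by omega))
    fun e => X.not_mem (e (XA.e_mem XN))
  have h7 : ∀ v ∈ lay G (m - 1), τ v = v := fun v hv =>
    (hτ v (le_normalizerIn le_top (lE hv))).trans (g3 v hv)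
  exact not_fix h hm hne X.not_mem
    (hτ e (XA.e_mem XN) ▸ lay_anti (Nat.zero_le _) (g2 e (XA.e_mem X))) (a := 1)
    (fun v hv => by rw [h7 v hv]; simp) (by simp) fun v hv => h7 v (lay_anti (by omega) hv)

end XB

variable (h : MC p m G) (hm : 2 ≤ m) (hF : F.IsSaturated p)
include h hm hF

theorem xc_six (hne : ¬ NE m G) (h6 : 6 ≤ m) (hE : F.IsEssential p E) (X : XC m E k e) :
    False := by
  rcases (Nat.lt_or_ge (k + 1) m) with hk | hk
  · exact XB.caseB h hm hF hne h6 hE X hk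
  obtain rfl : k = m - 1 := by have := X.lt; omega
  have h5 := (exc h hm hne).1
  obtain ⟨g, y, z, n, g1, y1, y2, z1, n1, n2, -, e1, e2, e3⟩ := xc_plane h hm hF hne hE X rfl
  have XN : XC m (lay G (m - 2) ⊔ zpowers e) (m - 2) e :=
    ⟨by omega, by omega, X.mem, X.not_mem, rfl⟩
  have lN : lay G (m - 1) ≤ lay G (m - 2) ⊔ zpowers e := (lay_anti (by omega)).trans le_sup_left
  obtain ⟨τ, hτ⟩ := XB.ext h hm hF 4 le_rfl
    (fun R k e hR X hk => XB.caseB h hm hF hne h6 hR X (by omega)) hne g1.mor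
    (by rw [(XC.facts h hm hne XN).1]; exact Nat.pow_le_pow_right hp.out.pos (by omega))
    fun e => X.not_mem (e (XA.e_mem XN))
  rw [← hτ y (sup_le lN le_sup_right (X.eq.le y1))] at e1
  rw [← hτ z (lN z1.1)] at e2
  rw [← hτ n (lN n1)] at e3
  have hl := la_of_aut h hm τ y2 (l := p - 1) (by
    rw [XB.inv_pred, e1, mul_inv_cancel, mul_one]
    exact inv_mem (pow_mem_zero h hm y))
  have hg := hl.eg_of h hm z1 (a := p - 1) (by
    rw [XB.inv_pred, e2, mul_inv_cancel, mul_one]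
    exact inv_mem (pow_mem_succ h hm z1.1))
  obtain ⟨c, w, hw, hn⟩ := exists_mul_pow ((z1.sup h hm).ge n1)
  rw [show m - 1 + 1 = m by omega] at hw
  have h7 := sign h hm hne hl hg (by rw [neg_one_cast]; simp) hw
  have h8 : n = n⁻¹ := by
    refine e3.symm.trans ?_
    rw [hn, map_mul, map_pow, e2, h7, mul_inv_rev, inv_pow]
    exact mem_center_iff.1 (inv_mem ((center_eq h hm).ge hw)) _
  have h9 := pow_lay h hm (by omega) n1
  rw [lay_eq_bot h hm (by omega), mem_bot] at h9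
  exact n2 (XB.eq_one (by omega) h8 h9 ▸ one_mem _)

end Cfsg.Lib.MCE
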