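import Cfsg.Agent.MCE.XA
import Cfsg.Agent.MCE.FT

/-! Groups of order `p ^ 6`: the subgroup `lay G 2 ⊔ ⟨e⟩` is not essential. -/

set_option autoImplicit false
set_option linter.unusedSectionVars false

namespace Cfsg.Lib.MCE

open Cfsg Cfsg.FusionSystem Subgroup Cfsg.Lib.Solv Cfsg.Lib.Fus Cfsg.Lib.Fus.Ess Cfsg.Lib.Grz
open scoped commutatorElement

universe u

variable {G : Type u} [Group G] [Finite G] {p m k : ℕ} [hp : Fact p.Prime]
  {F : FusionSystem (⊤ : Subgroup G)} {E : Subgroup G} {e s s' u u' v w a b : G}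

namespace XC2

theorem comm_cent {H : Type*} [Group H] {a b z z' : H} (hz : ∀ x, Commute z x)
    (hz' : ∀ x, Commute z' x) : ⁅a * z, b * z'⁆ = ⁅a, b⁆ := by
  calc _ = a * (z * (b * z')) * z⁻¹ * a⁻¹ * (b * z')⁻¹ := by group
    _ = a * b * (z' * a⁻¹) * z'⁻¹ * b⁻¹ := by rw [(hz _).eq]; group
    _ = _ := by rw [(hz' _).eq]; group

variable (h : MC p 4 G)
include h

theorem cen (hu : u ∈ twoStep G (4 - 1)) (hv : v ∈ lay G 3) : Commute u v :=
  (mem_C h (by omega)).1 hu v hv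

theorem cong (hv : v ∈ lay G 2) (hw : w ∈ lay G 2) : ⁅a, b⁆⁻¹ * ⁅a * v, b * w⁆ ∈ lay G 3 := by
  have k : ∀ v ∈ lay G 2, ∀ x, Commute (QuotientGroup.mk' (lay G 3) v) x := fun v hv x => by
    obtain ⟨x, rfl⟩ := QuotientGroup.mk'_surjective _ x
    rw [← commutatorElement_eq_one_iff_commute, ← map_commutatorElement]
    exact (QuotientGroup.eq_one_iff _).2 (comm_top h (by omega) hv x).1
  rw [← QuotientGroup.eq]
  change QuotientGroup.mk' _ _ = QuotientGroup.mk' _ _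
  rw [map_commutatorElement, map_commutatorElement, map_mul, map_mul, comm_cent (k v hv) (k w hw)]

variable (hne : ¬ NE 4 G)
include hne

theorem one_le : lay G 1 ≤ twoStep G (4 - 1) := (C_inf h (by omega) hne).ge.trans inf_le_left

theorem two_le : lay G 2 ≤ twoStep G (4 - 1) := (lay_anti (by omega)).trans (one_le h hne)

theorem psi_mul (hu : u ∈ twoStep G (4 - 1)) (hs : s ∈ lay G 2) : ⁅u * u', s⁆ = ⁅u, s⁆ * ⁅u', s⁆ := by
  have h1 := (comm_top h (by omega) hs u').2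
  have h2 := (comm_top h (by omega) hs u).2
  rw [(cen h (two_le h hne (lay_anti (by omega) h2)) h1).eq,
    show ⁅u * u', s⁆ = u * ⁅u', s⁆ * u⁻¹ * ⁅u, s⁆ by group, (cen h hu h1).eq, mul_inv_cancel_right]

theorem psi_mul' (hs : s ∈ lay G 2) (hs' : s' ∈ lay G 2) : ⁅u, s * s'⁆ = ⁅u, s⁆ * ⁅u, s'⁆ := by
  rw [show ⁅u, s * s'⁆ = ⁅u, s⁆ * (s * ⁅u, s'⁆ * s⁻¹) by group,
    (cen h (two_le h hne hs) (comm_top h (by omega) hs' u).2).eq, mul_inv_cancel_right]

theorem psi_three (hu : u ∈ twoStep G (4 - 1)) (hs : s ∈ lay G 2) (hv : v ∈ lay G 3) :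
    ⁅u, s * v⁆ = ⁅u, s⁆ := by
  rw [psi_mul' h hne hs (lay_anti (by omega) hv), (cen h hu hv).commutator_eq, mul_one]

theorem wg_one (hu : u ∈ twoStep G (4 - 1)) (h0 : u ∈ lay G 0) (h2 : u ∉ lay G 2) : Wg 1 u :=
  ⟨(C_inf h (by omega) hne).le ⟨hu, h0⟩, h2⟩

theorem psi_one (hu : u ∈ twoStep G (4 - 1)) (hs : Wg 2 s) (c : ⁅u, s⁆ = 1) : u ∈ lay G 2 := by
  by_contra n
  by_cases h0 : u ∈ lay G 0
  · exact pair h (by omega) hne (by omega) (wg_one h hne hu h0 n) hs c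
  · exact (comm_wg h (by omega) h0 hs (Or.inl (by omega))).2 (c ▸ one_mem _)

theorem fin (hw : Wg 2 w) (h1 : w * v ∈ lay G 3) (h2 : w⁻¹ * v ∈ lay G 3) : False := by
  have h3 := mul_mem h1 (inv_mem h2)
  rw [show w * v * (w⁻¹ * v)⁻¹ = w ^ 2 by rw [sq]; group] at h3
  have := Nat.le_of_dvd two_pos ((hw.pow_mem_iff h (by omega) 2).1 h3)
  have := (exc h (by omega) hne).1
  omega

theorem norm_eq (X : XC 4 E 2 e) : normalizerIn ⊤ E = twoStep G (4 - 1) :=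
  ((X.facts h (by omega) hne).2.2.2.2.1 le_rfl).trans
    (((⟨le_rfl, by omega, X.mem, X.not_mem, rfl⟩ : XC 4 _ 1 e).facts h (by omega) hne).2.2.2.1 rfl)

end XC2

open XC2

variable (h : MC p m G) (hm : 2 ≤ m) (hF : F.IsSaturated p)
include h hm hF

theorem xc_two (hne : ¬ NE m G) (h4 : m = 4) (hE : F.IsEssential p E) (X : XC m E 2 e) :
    False := by
  subst h4
  obtain ⟨hc, hC, -, -, -, hZ⟩ := X.facts h hm hne
  have h3 : lay G 3 ≤ E := (lay_anti (by omega)).trans (XA.lay_le X)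
  have cZ : (lay G 3).subgroupOf E = center E := by
    ext x
    rw [mem_center_iff, mem_subgroupOf, ← hZ le_rfl x x.2]
    exact ⟨fun c y => Subtype.ext (c y y.2).symm, fun c y hy => congrArg Subtype.val (c ⟨y, hy⟩).symm⟩
  obtain ⟨g, hg, h1, h2⟩ := exists_inv_fix (h.pg.to_subgroup ⊤) hF hE h3 (cZ ▸ .of_char _)
    (by rw [hc, card_lay h hm, ← pow_add]) fun s hs y hy => by
      rw [(cen h (norm_eq h hne X ▸ hs) hy).eq, mul_inv_cancel_right]
  rw [norm_eq h hne X] at hg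
  obtain ⟨s, hs⟩ := exists_wg h hm (i := 2) (by omega)
  have k : ∀ u ∈ twoStep G (4 - 1), u * g u ∈ lay G 2 := fun u hu => by
    have e1 := hg.mor.mulOn.map_commutatorElement hu (two_le h hne hs.1)
    rw [h2 _ (comm_top h hm hs.1 u).2, ← inv_mul_cancel_left s (g s),
      psi_three h hne (hg.maps hu) (inv_mem hs.1) (h1 s (XA.lay_le X hs.1))] at e1
    refine psi_one h hne (mul_mem hu (hg.maps hu)) hs ?_
    rw [psi_mul h hne hu hs.1, e1, ← psi_mul' h hne (inv_mem hs.1) hs.1, inv_mul_cancel,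
      commutatorElement_one_right]
  obtain ⟨r, hr⟩ := exists_wg h hm (i := 1) (by omega)
  have hw := comm_wg h hm X.not_mem hr (Or.inl (by omega))
  refine fin h hne hw (h1 _ (XA.lay_le X hw.1)) ?_
  have e1 := cong h (a := e⁻¹) (b := r⁻¹) (k e X.mem) (k r (one_le h hne hr.1))
  rw [inv_mul_cancel_left, inv_mul_cancel_left,
    ← hg.mor.mulOn.map_commutatorElement X.mem (one_le h hne hr.1)] at e1
  have e2 := mul_mem (comm_top h hm (inv_mem hw.1) (r * e)⁻¹).1 e1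
  rwa [show ⁅⁅e, r⁆⁻¹, (r * e)⁻¹⁆ = ⁅e, r⁆⁻¹ * ⁅e⁻¹, r⁻¹⁆ by group, mul_assoc, mul_inv_cancel_left] at e2

end Cfsg.Lib.MCE
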