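import Cfsg.Agent.MCE.XA
import Cfsg.Agent.MCE.L4
import Cfsg.Agent.Grz.Five

/-! Plane data for an abelian essential subgroup of order `p ^ 3`. -/

set_option autoImplicit false

namespace Cfsg.Lib.MCE

open Cfsg Cfsg.FusionSystem Subgroup Cfsg.Lib.Solv Cfsg.Lib.Fus Cfsg.Lib.Fus.Ess Cfsg.Lib.Grz
open scoped commutatorElement

universe u

namespace XP

variable {G : Type*} [Group G]

theorem comm_left {Z : Subgroup G} {s : Set G} (hn : ∀ a ∈ closure s, ∀ x ∈ Z, a * x * a⁻¹ ∈ Z)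
    {b : G} (h : ∀ a ∈ s, ⁅a, b⁆ ∈ Z) : ∀ a ∈ closure s, ⁅a, b⁆ ∈ Z := by
  intro a ha
  induction ha using closure_induction with
  | mem a ha => exact h a ha
  | one => simp
  | mul a a' ha _ h1 h2 =>
    have : ⁅a * a', b⁆ = a * ⁅a', b⁆ * a⁻¹ * ⁅a, b⁆ := by simp only [commutatorElement_def]; group
    exact this ▸ mul_mem (hn a ha _ h2) h1
  | inv a ha h1 =>
    have : ⁅a⁻¹, b⁆ = a⁻¹ * ⁅a, b⁆⁻¹ * a⁻¹⁻¹ := by simp only [commutatorElement_def]; group
    exact this ▸ hn _ (inv_mem ha) _ (inv_mem h1)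

theorem comm_closure {Z : Subgroup G} {s : Set G} (hn : ∀ a ∈ closure s, ∀ x ∈ Z, a * x * a⁻¹ ∈ Z)
    (h : ∀ a ∈ s, ∀ b ∈ s, ⁅a, b⁆ ∈ Z) : ∀ a ∈ closure s, ∀ b ∈ closure s, ⁅a, b⁆ ∈ Z :=
  fun a ha b hb => comm_left hn (fun a ha => commutatorElement_inv b a ▸
    inv_mem (comm_left hn (fun b hb => h b hb a ha) b hb)) a ha

theorem pow_pred {p : ℕ} [hp : Fact p.Prime] {x : G} (h : x ^ p = 1) : x ^ (p - 1) = x⁻¹ :=
  eq_inv_of_mul_eq_one_left (by rw [← pow_succ, Nat.sub_add_cancel hp.out.one_le, h])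

end XP

variable {G : Type u} [Group G] [Finite G] {p m k : ℕ} [hp : Fact p.Prime]
  {F : FusionSystem (⊤ : Subgroup G)} {E T P : Subgroup G} {e x : G} {f : Equiv.Perm G}

variable (h : MC p m G) (hm : 2 ≤ m) (hF : F.IsSaturated p)
include h hm hF

theorem xc_plane (hne : ¬ NE m G) (hE : F.IsEssential p E) (X : XC m E (m - 1) e)
    {N : Subgroup G} (hN : N = lay G (m - 2) ⊔ zpowers e) :
    ∃ (g : Equiv.Perm G) (y z n : G), PIso F g N N ∧ y ∈ E ∧ y ∉ lay G 0 ∧ Wg (m - 1) z ∧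
      n ∈ lay G (m - 1) ∧ n ∉ zpowers z ∧ (∀ a ∈ N, ∀ b ∈ N, ⁅a, b⁆ ∈ zpowers z) ∧
      g y = y⁻¹ ∧ g z = z⁻¹ ∧ g n = n := by
  have hS : IsPGroup p (⊤ : Subgroup G) := h.pg.to_subgroup ⊤
  obtain ⟨h5, -, h4, -⟩ := exc h hm hne
  have XN : XC m N (m - 2) e := ⟨by omega, by omega, X.mem, X.not_mem, hN⟩
  obtain ⟨cE, eC, eI, -, nE, -⟩ := XC.facts h hm hne X
  obtain ⟨cN, -, -, -, -, zN⟩ := XC.facts h hm hne XN
  rw [show m + 2 - (m - 1) = 3 by omega] at cE
  rw [show m + 2 - (m - 2) = 4 by omega] at cN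
  replace nE : normalizerIn ⊤ E = N := (nE (by omega)).trans hN.symm
  have lN : lay G (m - 1) ≤ N := (lay_anti (by omega)).trans (XA.lay_le XN)
  have zc : centralizerIn N N = lay G (m - 1) := by
    ext x
    rw [mem_centralizerIn]
    exact ⟨fun hx => (zN (by omega) x hx.1).1 fun y hy => (hx.2 y hy).symm,
      fun hx => ⟨lN hx, fun y hy => ((zN (by omega) x (lN hx)).2 hx y hy).symm⟩⟩
  have cz : ∀ a ∈ N, ∀ v ∈ lay G (m - 1), a * v = v * a := fun a ha v hv =>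
    (mem_centralizerIn.1 (zc.ge hv)).2 a ha
  have hc : IsMulCommutative E := ⟨⟨fun a b => Subtype.ext
    (commutatorElement_eq_one_iff_mul_comm.1 (mem_bot.1 (L1.comm_of_sup (W := ⊥)
      (fun c hc g hg => mem_bot.2 (commutatorElement_eq_one_iff_mul_comm.2
        ((mem_C h hm).1 (eC (X.eq.ge hg)) c hc).symm)) (X.eq.le a.2) (X.eq.le b.2))))⟩⟩
  obtain ⟨y₀, hy₀⟩ := exists_wg h hm (i := m - 2) (by omega)
  have hz := comm_wg h hm X.not_mem hy₀ (Or.inl (by omega))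
  have hs := hy₀.sup h hm
  rw [show m - 2 + 1 = m - 1 by omega] at hz hs
  have hzp : ⁅e, y₀⁆ ^ p = 1 := by
    have := pow_lay h hm (by omega) hz.1
    rwa [lay_eq_bot h hm (by omega), mem_bot] at this
  have hcl : closure ((lay G (m - 1) : Set G) ∪ {y₀} ∪ {e}) = N := by
    rw [Subgroup.closure_union, Subgroup.closure_union, closure_eq, ← zpowers_eq_closure,
      ← zpowers_eq_closure, hs, hN]
  have hcomm : ∀ a ∈ N, ∀ b ∈ N, ⁅a, b⁆ ∈ zpowers ⁅e, y₀⁆ := by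
    rw [← hcl]
    refine XP.comm_closure (fun a ha x hx => ?_) fun a ha b hb => ?_
    · rw [cz a (hcl ▸ ha) x (zpowers_le_of_mem hz.1 hx), mul_inv_cancel_right]
      exact hx
    · have ha' : a ∈ N := hcl ▸ subset_closure ha
      have hb' : b ∈ N := hcl ▸ subset_closure hb
      rcases ha with (ha | rfl) | rfl
      · exact commutatorElement_eq_one_iff_mul_comm.2 (cz b hb' a ha).symm ▸ one_mem _
      · rcases hb with (hb | rfl) | rfl
        · exact commutatorElement_eq_one_iff_mul_comm.2 (cz a ha' b hb) ▸ one_mem _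
        · simp
        · exact commutatorElement_inv b a ▸ inv_mem (mem_zpowers _)
      · rcases hb with (hb | rfl) | rfl
        · exact commutatorElement_eq_one_iff_mul_comm.2 (cz a ha' b hb) ▸ one_mem _
        · exact mem_zpowers _
        · simp
  obtain ⟨y, n, k1, k2, k3, k4, -, k6⟩ := exists_plane_data hS hF hE hc nE
    (by rw [cN, cE, ← pow_succ']) (le_antisymm (zpowers_le_of_mem (commutator_mem_commutator
      (XA.e_mem XN) (XA.lay_le XN hy₀.1))) (commutator_le.2 hcomm)) hzp (zc.ge hz.1) fun e => by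
      have := card_le_of_le e
      rw [zc, card_lay h hm, Nat.card_zpowers, show m + 1 - (m - 1) = 2 by omega] at this
      have h1 := this.trans (orderOf_le_of_pow_eq_one hp.out.pos hzp)
      nlinarith
  obtain ⟨g, g1, -, g2, g3, g4⟩ := k6 _ _ neg_one_sq
  obtain ⟨t, ht⟩ := exists_rad_of_essential hS hF hE
  have hyp : y ^ p = 1 := congrArg Subtype.val
    (((ht.card_cube cE).resolve_right fun e => by omega).1 ⟨y, k1⟩)
  exact ⟨g, y, _, n, g1, k1, fun e => k2 (zc.ge (eI.le ⟨k1, e⟩)), hz, zc.le k3, k4, hcomm,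
    g3.trans (XP.pow_pred hyp), g2.trans (XP.pow_pred hzp), g4⟩

end Cfsg.Lib.MCE
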