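import Cfsg.Agent.MCE.XC2
import Cfsg.Agent.MCE.FP
import Cfsg.Agent.MCE.XP

/-! Groups of order `p ^ 6`: the subgroup `lay G 3 ⊔ ⟨e⟩` is not essential. -/

set_option autoImplicit false
set_option linter.unusedSectionVars false

namespace Cfsg.Lib.MCE

open Cfsg Cfsg.FusionSystem Subgroup Cfsg.Lib.Solv Cfsg.Lib.Fus Cfsg.Lib.Fus.Ess Cfsg.Lib.Grz
open scoped commutatorElement

universe u

variable {G : Type u} [Group G] [Finite G] {p m k : ℕ} [hp : Fact p.Prime]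
  {F : FusionSystem (⊤ : Subgroup G)} {E N : Subgroup G} {e y z n a b : G} {g : G → G}

open XC2

namespace XC3

variable (h : MC p 4 G) (hne : ¬ NE 4 G)
include h hne

theorem cc (X : XC 4 N 2 e) (ha : a ∈ twoStep G (4 - 1)) (hb : b ∈ twoStep G (4 - 1)) :
    ⁅a, b⁆ ∈ lay G 2 := by
  rw [← norm_eq h hne X, (X.facts h (by omega) hne).2.2.2.2.1 le_rfl] at ha hb
  exact L1.comm_of_sup (fun c hc g _ => (comm_top h (by omega) hc g).1) ha hb

theorem core (X : XC 4 N 2 e) (hg : MulOn (twoStep G (4 - 1)) g)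
    (hg' : ∀ x ∈ twoStep G (4 - 1), g x ∈ twoStep G (4 - 1)) (hy : y ∈ N) (h0 : y ∉ lay G 0)
    (hz : z ∈ lay G 3) (hn : n ∈ lay G 3) (hnz : n ∉ zpowers z)
    (hN : ∀ a ∈ N, ∀ b ∈ N, ⁅a, b⁆ ∈ zpowers z) (gy : g y = y⁻¹) (gz : g z = z⁻¹) (gn : g n = n) :
    False := by
  have hm : 2 ≤ 4 := by omega
  have hyC := (X.facts h hm hne).2.1 hy
  have k : ∀ a ∈ twoStep G (4 - 1), ∀ b ∈ twoStep G (4 - 1), ⁅a, b⁆⁻¹ * g ⁅a, b⁆ ∈ lay G 3 := by
    intro a ha b hb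
    have hs := cc h hne X ha hb
    have hs' : g ⁅a, b⁆ ∈ lay G 2 := by
      rw [hg.map_commutatorElement ha hb]
      exact cc h hne X (hg' a ha) (hg' b hb)
    generalize ⁅a, b⁆ = s at hs hs'
    obtain ⟨c, hc⟩ := mem_zpowers_iff.1 (hN y hy s (XA.lay_le X hs))
    have e1 := hg.map_commutatorElement hyC (two_le h hne hs)
    rw [← hc, hg.map_zpow (two_le h hne (lay_anti (by omega) hz)), gz, gy, inv_zpow, hc] at e1
    have e2 := psi_mul h hne (u' := y) (inv_mem hyC) hs'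
    rw [← e1, inv_mul_cancel, commutatorElement_one_left, eq_comm, inv_mul_eq_one] at e2
    by_contra c3
    refine (comm_wg h hm h0 ⟨mul_mem (inv_mem hs) hs', c3⟩ (Or.inl le_rfl)).2 ?_
    rw [psi_mul' h hne (inv_mem hs) hs', ← e2, ← psi_mul' h hne (inv_mem hs) hs, inv_mul_cancel,
      commutatorElement_one_right]
    exact one_mem _
  obtain ⟨r, hr⟩ := exists_wg h hm (i := 1) (by omega)
  have hs := comm_wg h hm h0 hr (Or.inl (by omega))
  have k1 := k y hyC r (one_le h hne hr.1)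
  generalize ⁅y, r⁆ = s at hs k1
  have hψ : MulOn (twoStep G (4 - 1)) fun u => ⁅u, s⁆ := fun u hu u' _ => psi_mul h hne hu hs.1
  have h3 : lay G 3 ≤ img (twoStep G (4 - 1)) fun u => ⁅u, s⁆ := le_of_weights h hm fun j h1 h2 => by
    obtain rfl | rfl : j = 3 ∨ j = 4 := by omega
    · exact ⟨⁅y, s⁆, mem_img_of_mem (fun u => ⁅u, s⁆) hyC, comm_wg h hm h0 hs (Or.inl le_rfl)⟩
    · refine ⟨⁅r, s⁆, mem_img_of_mem (fun u => ⁅u, s⁆) (one_le h hne hr.1),
        comm_lay h hm (a := 1) (b := 2) hr.1 hs.1, ?_⟩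
      rw [lay_eq_bot h hm le_rfl, mem_bot]
      exact pair h hm hne rfl hr hs
  obtain ⟨u, hu, rfl⟩ := hψ.mem_img.1 (h3 hn)
  rw [hg.map_commutatorElement hu (two_le h hne hs.1), ← mul_inv_cancel_left s (g s),
    psi_three h hne (hg' u hu) hs.1 k1] at gn
  have k2 : u⁻¹ * g u ∈ lay G 2 := psi_one h hne (mul_mem (inv_mem hu) (hg' u hu)) hs (by
    rw [psi_mul h hne (inv_mem hu) hs.1, gn, ← psi_mul h hne (inv_mem hu) hs.1, inv_mul_cancel,
      commutatorElement_one_left])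
  obtain ⟨c, hc⟩ := exists_pow_top h hm h0 u
  have h1 := wg_one h hne (mul_mem (inv_mem (pow_mem hyC c)) hu) hc fun e2 => hnz
    (hN u (by simpa using mul_mem (pow_mem hy c) (XA.lay_le X e2)) s (XA.lay_le X hs.1))
  have hw : Wg 2 ⁅y, u⁆ := ⟨cc h hne X hyC hu, fun e3 =>
    (comm_wg h hm h0 h1 (Or.inl (by omega))).2 (by
      rw [show ⁅y, (y ^ c)⁻¹ * u⁆ = (y ^ c)⁻¹ * ⁅y, u⁆ * (y ^ c)⁻¹⁻¹ by group]
      exact (lay_normal _).conj_mem _ e3 _)⟩
  refine fin h hne hw ?_ (k y hyC u hu)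
  have e1 := cong h (a := y⁻¹) (b := u) (one_mem _) k2
  rw [mul_one, mul_inv_cancel_left, ← congrArg (fun t => ⁅t, g u⁆) gy,
    ← hg.map_commutatorElement hyC hu] at e1
  have e2 := mul_mem (comm_top h hm hw.1 y⁻¹).1 e1
  rwa [show ⁅⁅y, u⁆, y⁻¹⁆ = ⁅y, u⁆ * ⁅y⁻¹, u⁆ by group, mul_assoc, mul_inv_cancel_left] at e2

end XC3

variable (h : MC p m G) (hm : 2 ≤ m) (hF : F.IsSaturated p)
include h hm hF

theorem xc_three (hne : ¬ NE m G) (h4 : m = 4) (hE : F.IsEssential p E) (X : XC m E 3 e) :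
    False := by
  subst h4
  have XN : XC 4 (lay G 2 ⊔ zpowers e) 2 e := ⟨by omega, by omega, X.mem, X.not_mem, rfl⟩
  obtain ⟨g, y, z, n, hg, hy, h0, hz, hn, hnz, hN, gy, gz, gn⟩ := xc_plane h hm hF hne hE X XN.eq
  have hEN : E ≤ lay G 2 ⊔ zpowers e := X.eq.le.trans (sup_le_sup_right (lay_anti (by omega)) _)
  have hNE := (X.facts h hm hne).2.2.2.2.1 (by omega)
  generalize lay G 2 ⊔ zpowers e = N at XN hg hN hEN hNE
  obtain ⟨hc, hC, -⟩ := XN.facts h hm hne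
  have c5 : Nat.card (normalizerIn ⊤ N) = p ^ (4 + 1) := by
    rw [norm_eq h hne XN, card_twoStep_eq h hm (by omega) le_rfl]
  have hfn : F.IsFullyNormalized N := isFullyNormalized_iff_piso.2 ⟨le_top, fun Q f hf => by
    by_contra lt
    have ht : normalizerIn ⊤ Q = ⊤ := by
      by_contra ne
      have := (Nat.mul_lt_mul_of_pos_left (not_le.1 lt) hp.out.pos).trans_le
        (prime_mul_card_le_card h.pg ne)
      rw [c5, h.card, ← pow_succ'] at this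
      exact lt_irrefl _ this
    have : Q.Normal := ⟨fun x hx t => conj_mem_of_mem_normalizerIn (ht.ge (mem_top t)) hx⟩
    obtain rfl := normal_card h hm (i := 1) le_rfl (hf.card_eq.trans hc)
    exact not_piso_one h hm rfl hE.1 hE.2.1 (by rw [hNE, hc]) hEN hf⟩
  obtain ⟨s, -, hs⟩ := exists_out h hm
  obtain ⟨g', hg', e'⟩ := ext_normalizer (h.pg.to_subgroup ⊤) hF hfn
    (lt_top_iff_ne_top.2 fun e => hs (hC (e.ge (mem_top s)))) (fun e => xc_two h hm hF hne rfl e XN)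
    (by rw [c5, hc, pow_succ']) hg
  rw [norm_eq h hne XN] at hg'
  have l3 : lay G 3 ≤ N := (lay_anti (by omega)).trans (XA.lay_le XN)
  exact XC3.core h hne XN hg'.mor.mulOn (fun x hx => hg'.maps hx) (hEN hy) h0 hz.1 hn hnz hN
    ((e' _ (hEN hy)).trans gy) ((e' _ (l3 hz.1)).trans gz) ((e' _ (l3 hn)).trans gn)

end Cfsg.Lib.MCE
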