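import Cfsg.Agent.MCE.NE2
import Cfsg.Agent.MCE.EX2
import Cfsg.Agent.MCE.D2b
import Cfsg.Agent.MCE.D4b
import Cfsg.Agent.MCE.D0
import Cfsg.Agent.MCE.XB
import Cfsg.Agent.MCE.XC2
import Cfsg.Agent.MCE.XC3
import Cfsg.Agent.MCE.P2
import Cfsg.Agent.MCE.F1
import Cfsg.Agent.MCE.F2
import Cfsg.Agent.MCE.F3
import Cfsg.Agent.MCE.FP
import Cfsg.Agent.MCE.XA
import Cfsg.Agent.MCE.ETop
import Cfsg.Agent.MCE.FT
import Cfsg.Agent.MCN.Main
import Cfsg.Agent.MCN.MaxA

/-! Essential subgroups of a saturated fusion system over a group of maximal class. -/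

set_option autoImplicit false

namespace Cfsg.Lib.MCE

open Cfsg Cfsg.FusionSystem Subgroup Cfsg.Lib.Solv Cfsg.Lib.Fus Cfsg.Lib.Fus.Ess Cfsg.Lib.Grz

universe u

variable {p : ℕ} [hp : Fact p.Prime]

theorem Dat.false (m : ℕ) : ∀ {G : Type u} [Group G] [Finite G] {E : Subgroup G}
    {A B : Subgroup (MulAut E)} {Γ : Subgroup (MulAut (lay G 0))}, Dat p m E A B Γ → False := by
  induction m with
  | zero => exact fun D => absurd D.two (by omega)
  | succ m ih =>
    intro G _ _ E A B Γ D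
    obtain ⟨A', B', D', h | h⟩ := D.exists_min
    · obtain ⟨_, _, _, _, D''⟩ := D'.quot h
      exact ih D''
    · obtain ⟨k, z, g, T, hd⟩ := D'.exists_tor h
      by_cases hne : NE (m + 1) G
      exacts [end_ne D' hne T hd, end_ex D' hne T hd]

variable {G : Type u} [Group G] [Finite G] {m k : ℕ} {F : FusionSystem (⊤ : Subgroup G)}
  {E : Subgroup G} {e : G} (h : MC p m G) (hm : 2 ≤ m) (hF : F.IsSaturated p)
include h hm hF

theorem xc_eq (hne : ¬ NE m G) (hE : F.IsEssential p E) (X : XC m E k e) : k = 1 ∧ m = 4 := by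
  obtain ⟨-, ⟨r, hr⟩, h4, -⟩ := exc h hm hne
  by_cases h6 : 6 ≤ m
  · exact (xc_six h hm hF hne h6 hE X).elim
  have e4 : m = 4 := by omega
  have := X.one_le
  have := X.lt
  obtain rfl | rfl | rfl : k = 1 ∨ k = 2 ∨ k = 3 := by omega
  exacts [⟨rfl, e4⟩, (xc_two h hm hF hne e4 hE X).elim, (xc_three h hm hF hne e4 hE X).elim]

omit hm hF hp [Finite G] in
theorem mc_top : MC p m (⊤ : Subgroup G) :=
  ⟨card_top.trans h.card, fun e => h.ne (by
    rw [← map_gam (topEquiv (G := G)).toMonoidHom topEquiv.surjective, e, Subgroup.map_bot])⟩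

theorem ess_zero (hE : F.IsEssential p E) (hle : E ≤ lay G 0) : E = lay G 0 := by
  by_contra hne
  have hG : IsPGroup p (⊤ : Subgroup G) := h.pg.to_subgroup ⊤
  obtain ⟨E, hE, hlt, hmax⟩ := exists_max_essential (Q := fun E => E < lay G 0) hE
    (lt_of_le_of_ne hle hne)
  by_cases h2 : p = 2 ∨ m = 2
  · exact hlt.not_ge fun x hx => cent_le_of hE.1 fun y hy =>
      mul_comm_of (comm_of_small h hm h2) (hlt.le hy) hx
  by_cases h3 : p = 3
  · exact hlt.ne (three_case h hm hF h3 (by omega) hE hlt.le)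
  have h5 : 5 ≤ p := hp.out.five_le_of_ne_two_of_ne_three (by omega) h3
  by_cases hn : E.Normal
  · have hi := MCN.index_eq h5 (mc_top h) hF hE (hn.subgroupOf ⊤)
    have e1 := (E.subgroupOf ⊤).index_mul_card
    rw [hi, card_top, h.card, Nat.card_congr (subgroupOfEquivOfLe le_top).toEquiv, pow_succ'] at e1
    have e2 := card_lt_card_of_lt hlt
    rw [card_lay h hm, Nat.eq_of_mul_eq_mul_left hp.out.pos e1] at e2
    exact lt_irrefl _ e2
  refine Dat.false m (dat_of_ext h hm hF h5 hE hlt.le hn fun f hf R hR hR' hm' => ?_)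
  by_cases h4 : ¬ NE m G ∧ m = 4
  · exact ext_four h hm hF h4.1 h4.2 hE hlt.le hn hmax hf hR hR' hm'
  have hN : R ≤ lay G 0 := fun s hs => by
    by_contra hs'
    obtain ⟨k, -, rfl⟩ := eq_lay_of_norm h hm
      ((center_eq h hm).ge.trans ((Subgroup.center_le_centralizer _).trans (cent_le_of hE.1))) hlt.le hs'
      fun x hx => conj_mem_of_mem_normalizerIn (hR' hs) hx
    exact hn inferInstance
  refine (ext_gen h hm hF (n := Nat.card E) (fun Q hQ => ?_) hN
    (card_lt_card_of_lt hR) hm').imp fun g hg => ⟨hg.1, fun x hx => hg.2 x (hR.le hx)⟩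
  rcases ess_split h hm hF hQ with ⟨x, hx, h6, h7⟩ | h6 | ⟨h6, k, e, X⟩
  · refine .inr (le_trans ?_ (cube_le_card h hm hE.1 hlt.le))
    rcases pearl_of h hm hF hQ hx h6 h7 with h8 | h8 <;> rw [h8.1]
    exact Nat.pow_le_pow_right hp.out.pos (by omega)
  · exact h6.eq_or_lt.imp_right (hmax Q hQ)
  · exact absurd ⟨h6, (xc_eq h hm hF h6 hQ X).2⟩ h4

theorem ess_cases (hE : F.IsEssential p E) :
    Pearl p E ∨ E = lay G 0 ∨ E = twoStep G (m - 1) := by
  rcases ess_split h hm hF hE with ⟨x, hx, h6, h7⟩ | h6 | ⟨h6, k, e, X⟩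
  exacts [.inl (pearl_of h hm hF hE hx h6 h7), .inr (.inl (ess_zero h hm hF hE h6)),
    .inr (.inr ((X.facts h hm h6).2.2.2.1 (xc_eq h hm hF h6 hE X).1))]

theorem ess_card_ne (hne : ¬ NE m G) (hE : F.IsEssential p E) : Nat.card E ≠ p ^ 3 := by
  have h4 := (exc h hm hne).2.2.1
  have k : ∀ n, 5 ≤ n → p ^ n ≠ p ^ 3 := fun n hn e => by
    have := Nat.pow_right_injective hp.out.two_le e; omega
  rcases ess_split h hm hF hE with ⟨x, hx, h6, h7⟩ | h6 | ⟨h6, j, e, X⟩
  · exact not_cube h hm hF hne hE hx h6 h7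
  · rw [ess_zero h hm hF hE h6, card_lay h hm]
    exact k _ (by omega)
  · rw [(X.facts h hm h6).1, (xc_eq h hm hF h6 hE X).1]
    exact k _ (by omega)

end Cfsg.Lib.MCE
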