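import Cfsg.Agent.MCE.Tel4
import Cfsg.Agent.MCE.R12
import Cfsg.Agent.MCE.D0

/-! The non-exceptional case with a large centre of the two-step centralizer. -/

set_option autoImplicit false
set_option maxHeartbeats 400000

namespace Cfsg.Lib.MCE

open Cfsg Cfsg.FusionSystem Subgroup Cfsg.Lib.Solv Cfsg.Lib.Fus Cfsg.Lib.Fus.Ess Cfsg.Lib.Grz
open Cfsg.Lib.MCN (Flag Ex Rs Kb SLb)
open scoped commutatorElement

universe u

section D
variable {G : Type u} [Group G] {p m k a b l : ℕ} [Finite G] [hp : Fact p.Prime] {E : Subgroup G}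
  {A B : Subgroup (MulAut E)} {Γ : Subgroup (MulAut (lay G 0))} {z : G} {g : MulAut E} {f : G → G}

theorem end_tel (D : Dat p m E A B Γ) (hne : NE m G) (T : Tor p m E k z g)
    (hd : AllDel p m E z g Γ) (h7 : 7 ≤ p) (h3 : lay G (m - 2) ≤ omz p (lay G 0)) : False := by
  have h := D.mc
  have hm := D.two
  have hΓ := D.sylΓ
  obtain ⟨i, hi, e⟩ := normal_eq h hm (X := omz p (lay G 0)) omz_le
  have him : i ≤ m - 2 := by
    obtain ⟨x, hx⟩ := exists_wg h hm (i := m - 2) (by omega)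
    exact hx.mem_iff.1 (e ▸ h3 hx.1)
  have hbot : lay G (i + (m + 1 - i)) = ⊥ := lay_eq_bot h hm (by omega)
  have hz : ∀ x, x ∈ lay G i ↔ x ∈ omz p (lay G 0) := fun x => by rw [e]
  have hle : lay G i ≤ lay G 0 := lay_anti (Nat.zero_le _)
  have hcm : ∀ x ∈ lay G i, ∀ y ∈ lay G 0, x * y = y * x := fun x hx y hy =>
    omz_comm ((hz x).1 hx) hy
  obtain ⟨V, _, _, _, π, S⟩ := exists_sec (p := p) (X := lay G i) (Y := lay G (i + (m + 1 - i)))
    (lay_anti (by omega)) (fun x hx y hy => by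
      rw [commutatorElement_eq_one_iff_mul_comm.2 (hcm x hx y (hle hy))]; exact one_mem _)
    fun x hx => by rw [((hz x).1 hx).2.1]; exact one_mem _
  have hmap : ∀ (a : MulAut (lay G 0)), ∀ x ∈ lay G i, pext (lay G 0) a x ∈ lay G i :=
    fun a x hx => (hz _).2 (pext_mem_omz a ((hz x).1 hx))
  obtain ⟨ρ, hρ⟩ := S.exists_rep (p := p) ((pext (lay G 0)).comp Γ.subtype)
    (fun a => (mulOn_pext a.1).mono hle) (fun a x hx => hmap a.1 x hx) fun a x hx => by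
      rw [hbot, mem_bot] at hx
      rw [hx]
      change pext (lay G 0) a.1 1 ∈ _
      rw [(mulOn_pext a.1).map_one]
      exact one_mem _
  have hρ' : ∀ a : Γ, ∀ x ∈ lay G i, ρ a (π x) = π (pext (lay G 0) a.1 x) := hρ
  let θ := QuotientGroup.mk' ρ.ker
  have hθ : Function.Surjective θ := QuotientGroup.mk'_surjective _
  have kθ : ∀ a : Γ, θ a = 1 ↔ ∀ v ∈ lay G i, pext (lay G 0) a.1 v = v := fun a => by
    refine (QuotientGroup.eq_one_iff _).trans ⟨fun e v hv => ?_, fun e => LinearMap.ext fun v => ?_⟩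
    · have := hρ' a v hv
      rw [MonoidHom.mem_ker.1 e] at this
      have h1 := (S.eq_iff hv (hmap a.1 v hv)).1 this
      rw [hbot, mem_bot, inv_mul_eq_one] at h1
      exact h1.symm
    · obtain ⟨x, hx, rfl⟩ := S.surj v
      exact (hρ' a x hx).trans (congrArg π (e x hx))
  let ρ1 : Γ ⧸ ρ.ker →* Module.End (ZMod p) V := QuotientGroup.lift _ ρ le_rfl
  have hρ1 : Function.Injective ρ1 := (injective_iff_map_eq_one _).2 fun x e => by
    obtain ⟨a, rfl⟩ := hθ x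
    exact (QuotientGroup.eq_one_iff _).2 e
  have hin : ∀ a : Γ, a.1 ∈ Inn (lay G 0) → θ a = 1 := fun a ha => by
    obtain ⟨c, hc, ec⟩ := mem_inn_pext.1 ha
    exact (kθ a).2 fun v hv => by rw [ec v (hle hv), ← hcm v hv c hc, mul_inv_cancel_right]
  obtain ⟨s, hs, hs'⟩ := exists_out h hm
  let t : Γ := ⟨c0 s, R12.c0_mem hΓ s⟩
  obtain ⟨-, F, hF, hN⟩ := Sec.flag h hm S (by omega)
  have hx : Ex F (ρ1 (θ t) - 1) 1 := by
    refine (hN _ s fun x hx => ?_).2 hs (Or.inl hs')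
    change ρ t (π x) - π x = _
    rw [hρ' t x hx, pext_conjAut _ (hle hx), commutatorElement_def,
      S.add _ ((lay_normal i).conj_mem x hx s) _ (inv_mem hx), S.inv hx, sub_eq_add_neg]
  have hsyl : SylIn p (zpowers (θ t)) ⊤ := by
    have h1 := hΓ.subgroupOf_top.map θ
    rw [map_top_of_surjective θ hθ] at h1
    have h2 : ((T0 G).subgroupOf Γ).map θ = zpowers (θ t) := by
      refine le_antisymm ?_ (zpowers_le.2 ⟨t, conjAut_mem_autInducedBy (mem_top s) _, rfl⟩)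
      rintro _ ⟨a, ha, rfl⟩
      obtain ⟨x, -, hx, e⟩ := mem_autInducedBy'.1 (mem_subgroupOf.1 ha)
      obtain ⟨c, hc⟩ := exists_pow_top h hm hs x
      have e1 : a = t ^ c * ⟨c0 ((s ^ c)⁻¹ * x), R12.c0_mem hΓ _⟩ := by
        refine Subtype.ext ?_
        change a.1 = c0 s ^ c * c0 _
        rw [conjAut_pow, ← conjAut_mul, e]
        congr 1
        group
      rw [e1, map_mul, hin ⟨_, R12.c0_mem hΓ _⟩ ((c0_mem_inn h hm).2 hc), mul_one, map_pow]
      exact pow_mem (mem_zpowers _) c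
    exact h2 ▸ h1
  obtain ⟨u, hu⟩ := IsCyclic.exists_generator (α := (ZMod p)ˣ)
  have ha : orderOf (u : ZMod p) = p - 1 := by
    rw [orderOf_units, orderOf_eq_card_of_forall_mem_zpowers hu, Nat.card_eq_fintype_card,
      ZMod.card_units]
  have ha1 : (((u : ZMod p).val : ℕ) : ZMod p) ≠ 1 := by
    rw [ZMod.natCast_zmod_val]
    intro e
    rw [e, orderOf_one] at ha
    omega
  obtain ⟨γ, hγ, hγo, d⟩ := hd (u : ZMod p).val ((u⁻¹ : (ZMod p)ˣ) : ZMod p).val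
    (by rw [ZMod.natCast_zmod_val, ZMod.natCast_zmod_val, Units.mul_inv])
  have hz0 : z ∈ lay G 0 := lay_anti (Nat.zero_le _) T.zmem
  have hδ : (ρ1 (θ ⟨γ, hγ⟩) - 1) * (ρ1 (θ ⟨γ, hγ⟩) - (u : ZMod p) • 1) = 0 := by
    have hc : Commute (ρ1 (θ ⟨γ, hγ⟩) - 1) (ρ1 (θ ⟨γ, hγ⟩) - (u : ZMod p) • 1) :=
      ((Commute.refl _).sub_left (Commute.one_left _)).sub_right
        ((Commute.one_right _).smul_right _)
    rw [hc.eq]
    ext v
    obtain ⟨x, hx, rfl⟩ := S.surj v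
    have hxW : x ∈ omz p E := ⟨D.cent fun y hy => (hcm x hx y (D.le hy)).symm,
      ((hz x).1 hx).2.1, fun y hy => hcm x hx y (D.le hy)⟩
    obtain ⟨w, hw, ew⟩ := d.hK x hxW
      (commutatorElement_eq_one_iff_mul_comm.2 (hcm x hx z hz0).symm)
    have hw' : ⁅z, w⁆ ∈ lay G i := ew ▸ mul_mem (inv_mem hx) (hmap γ x hx)
    have e1 : ρ ⟨γ, hγ⟩ (π x) - π x = π ⁅z, w⁆ := by
      rw [hρ' _ x hx, ← ew, S.add _ (inv_mem hx) _ (hmap γ x hx), S.inv hx, neg_add_eq_sub]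
    change ρ ⟨γ, hγ⟩ (ρ ⟨γ, hγ⟩ (π x) - π x) - (u : ZMod p) • (ρ ⟨γ, hγ⟩ (π x) - π x) = 0
    rw [e1, hρ' _ _ hw', d.hA w hw, S.pow (p := p) hw', ZMod.natCast_zmod_val, sub_self]
  obtain ⟨N, hN1, hN2, hN3⟩ := tel h7 hρ1 hF (by omega) hx (R12.pow_eq h hm hΓ θ hin s) hsyl ha hδ
  have hX : AInv Γ (lay0 G i) := fun a _ x hx => by
    have := hmap a x hx
    rwa [pext_coe] at this
  have hY : AInv Γ (lay0 G (i + (m + 1 - i))) := by
    rw [lay0, hbot, bot_subgroupOf]; exact aInv_bot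
  have hK : NI p Γ (trivSub hX (lay0 G (i + (m + 1 - i)))) := by
    refine ni_triv h hm hΓ hX hY fun s hs => ?_
    obtain ⟨y, hy⟩ := exists_wg h hm (i := i) (by omega)
    exact ⟨y, hy.1, fun e => (comm_wg h hm hs hy (Or.inl (by omega))).2 (lay_anti (by omega) e)⟩
  have hNI : NI p Γ ((N.comap θ).map Γ.subtype) := by
    refine ⟨map_subtype_le _, ?_, ?_⟩
    · rintro c hc _ ⟨a, ha, rfl⟩
      refine mem_map.2 ⟨⟨c, hc⟩ * a * ⟨c, hc⟩⁻¹, mem_comap.2 ?_, rfl⟩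
      rw [map_mul, map_mul, map_inv]
      exact hN1.conj_mem _ (mem_comap.1 ha) _
    · rintro _ ⟨a, ha, rfl⟩ l hl
      have h1 := (kθ a).1 (hN3 (θ a) (mem_comap.1 ha) l (by
        rw [← map_pow, show a ^ p ^ l = 1 from Subtype.ext hl, map_one]))
      refine hK.inn _ (mem_trivSub.2 ⟨a.2, triv_subgroupOf_iff.2 fun x _ hx => ?_⟩) l hl
      change x⁻¹ * pext _ a.1 x ∈ _
      rw [h1 x hx, inv_mul_cancel]
      exact one_mem _
  have h1 : γ = 1 := r_two h hm hΓ hNI hne D.not_comm ⟨⟨γ, hγ⟩, hN2, rfl⟩ hγo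
  obtain ⟨v, hv⟩ := exists_wg h hm (i := m) le_rfl
  refine d.hZ ha1 v hv.1 (fun e => hv.2 (e ▸ one_mem _)) ?_
  rw [h1, map_one]
  rfl
end D

end Cfsg.Lib.MCE
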