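import Cfsg.Agent.MCE.R12
import Cfsg.Agent.Grz.Pearl

/-! An invariant section of order `p ^ 2`. -/

set_option autoImplicit false
set_option maxHeartbeats 400000

namespace Cfsg.Lib.MCE

open Cfsg Cfsg.FusionSystem Subgroup Cfsg.Lib.Solv Cfsg.Lib.Fus Cfsg.Lib.Fus.Ess Cfsg.Lib.Grz
open scoped commutatorElement

universe u

namespace Two

theorem inv_of_gen {V : Type*} [Group V] (hc : ∀ a b : V, a * b = b * a) {φ : MulAut V} {z y : V}
    (hz : φ z = z⁻¹) (hy : φ y = y⁻¹) (h : zpowers z ⊔ zpowers y = ⊤) (v : V) : φ v = v⁻¹ := by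
  let K : Subgroup V :=
    { carrier := {v | φ v = v⁻¹}
      one_mem' := by simp
      mul_mem' := fun {a b} ha hb => by
        change φ (a * b) = (a * b)⁻¹
        rw [map_mul, show φ a = _ from ha, show φ b = _ from hb, hc, mul_inv_rev]
      inv_mem' := fun {a} ha => by
        change φ a⁻¹ = a⁻¹⁻¹
        rw [map_inv, show φ a = _ from ha] }
  have : ⊤ ≤ K := h ▸ sup_le (zpowers_le.2 hz) (zpowers_le.2 hy)
  exact this (mem_top v)

theorem eq_one {M : Type*} [Group M] {p k : ℕ} [hp : Fact p.Prime] (h2 : p ≠ 2) {x : M}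
    (h : x ^ p ^ k = 1) (h' : x ^ 2 = 1) : x = 1 :=
  orderOf_eq_one_iff.1 (Nat.eq_one_of_dvd_coprimes
    (((Nat.coprime_primes hp.out Nat.prime_two).2 h2).pow_left k)
    (orderOf_dvd_of_pow_eq_one h) (orderOf_dvd_of_pow_eq_one h'))

end Two

section R
variable {G : Type u} [Group G] {p m i j : ℕ} [Finite G] [hp : Fact p.Prime]
  {Γ N : Subgroup (MulAut (lay G 0))} {n : MulAut (lay G 0)}
  (h : MC p m G) (hm : 2 ≤ m) (hΓ : SylIn p (T0 G) Γ)
include h hm hΓ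

theorem two_normal (h2 : p ≠ 2) (hne : NE m G) (hab : ¬ IsMulCommutative (lay G 0))
    (hi : i + 1 ≤ m) (hX : AInv Γ (lay0 G i)) (hY : AInv Γ (lay0 G (i + 2)))
    (he : ∀ y ∈ lay G i, y ^ p ∈ lay G (i + 2)) :
    ∀ g ∈ Γ, ∀ t ∈ T0 G, g * t * g⁻¹ ∈ T0 G := by
  have hcard : ∀ j, Nat.card (lay0 G j) = p ^ (m + 1 - j) := fun j =>
    (Nat.card_congr (subgroupOfEquivOfLe (lay_anti (Nat.zero_le j))).toEquiv).trans
      (card_lay h hm j)
  have hc : Nat.card (lay0 G i ⧸ (lay0 G (i + 2)).subgroupOf (lay0 G i)) = p ^ 2 :=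
    index_eq_of_card (comap_mono (lay_anti (by omega))) (by
      rw [hcard, hcard, ← pow_add]; congr 1; omega)
  have hexp : ∀ v : lay0 G i ⧸ (lay0 G (i + 2)).subgroupOf (lay0 G i), v ^ p = 1 := by
    intro v
    obtain ⟨x, rfl⟩ := QuotientGroup.mk_surjective v
    rw [← QuotientGroup.mk_pow, QuotientGroup.eq_one_iff]
    exact he _ x.2
  obtain ⟨s, hs⟩ := exists_not_mem_zero h hm
  have hK : NI p Γ (trivSub hX (lay0 G (i + 2))) := by
    refine ni_triv h hm hΓ hX hY fun s hs => ?_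
    obtain ⟨y, hy⟩ := exists_wg h hm (i := i) (by omega)
    exact ⟨y, hy.1, (comm_wg h hm hs hy (Or.inr ⟨fun e => hs (hne ▸ e), hi⟩)).2⟩
  let θ := secHom hX hY
  have hθ : ∀ a : Γ, θ a = 1 → a.1 ∈ trivSub hX (lay0 G (i + 2)) := fun a e =>
    mem_trivSub.2 ⟨a.2, (secHom_eq_one_iff hX hY a).1 e⟩
  let t : Γ := ⟨c0 s, R12.c0_mem hΓ s⟩
  have hO : θ t ∈ pCoreIn p θ.range := by
    by_contra hO
    have hR : Rad p θ.range (θ t) := by
      refine ⟨IsPGroup.of_card hc, ⟨t, rfl⟩, ?_, hO⟩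
      obtain ⟨k, hk⟩ := conjAut_pelt (h.pg.to_subgroup ⊤) (mem_top s) (mem_norm_lay s 0)
      exact ⟨k, by rw [← map_pow, show t ^ p ^ k = 1 from Subtype.ext hk, map_one]⟩
    obtain ⟨d, z, y, -, h3, h4, h5, h6, -⟩ := hR.exists_torus θ hΓ
      (conjAut_mem_autInducedBy (mem_top s) _) hc hexp (neg_one_sq (p := p))
    have hinv : ∀ v : lay0 G i ⧸ (lay0 G (i + 2)).subgroupOf (lay0 G i), v ^ (p - 1) = v⁻¹ :=
      fun v => eq_inv_of_mul_eq_one_left (by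
        rw [← pow_succ, Nat.sub_add_cancel hp.out.one_le, hexp])
    have h7 := Two.inv_of_gen (IsPGroup.isMulCommutative_of_card_eq_prime_sq hc).1.1
      (h4.trans (hinv z)) (h5.trans (hinv y)) h6
    have h8 : ∀ φ, Commute φ (θ d) := fun φ => MulEquiv.ext fun v => by
      rw [MulAut.mul_apply, MulAut.mul_apply, h7, h7, map_inv]
    have h9 : θ d ^ 2 = 1 := MulEquiv.ext fun v => by
      rw [sq, MulAut.mul_apply, h7, h7, inv_inv, MulAut.one_apply]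
    have hN : NI p Γ (((zpowers (θ d)).comap θ).map Γ.subtype) := by
      refine ⟨map_subtype_le _, ?_, ?_⟩
      · rintro g hg _ ⟨a, ⟨k, hk⟩, rfl⟩
        refine ⟨⟨g, hg⟩ * a * ⟨g, hg⟩⁻¹, ⟨k, ?_⟩, rfl⟩
        rw [map_mul, map_mul, map_inv, ← hk, ((h8 _).zpow_right k).eq, mul_inv_cancel_right]
      · rintro _ ⟨a, ⟨k, hk⟩, rfl⟩ l hl
        refine hK.inn _ (hθ a (Two.eq_one h2 (k := l) ?_ ?_)) l hl
        · rw [← map_pow, show a ^ p ^ l = 1 from Subtype.ext hl, map_one]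
        · rw [← hk, ← zpow_natCast, ← zpow_mul, mul_comm, zpow_mul, zpow_natCast, h9, one_zpow]
    have h10 : d = 1 := Subtype.ext (r_two h hm hΓ hN hne hab ⟨d, mem_zpowers _, rfl⟩ h3)
    have : Nontrivial (lay0 G i ⧸ (lay0 G (i + 2)).subgroupOf (lay0 G i)) :=
      Finite.one_lt_card_iff_nontrivial.1 (hc ▸ Nat.one_lt_pow two_ne_zero hp.out.one_lt)
    obtain ⟨v, hv⟩ := exists_ne (1 : lay0 G i ⧸ (lay0 G (i + 2)).subgroupOf (lay0 G i))
    refine hv (Two.eq_one h2 (k := 1) (by rw [pow_one, hexp]) ?_)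
    have := h7 v
    rw [h10, map_one, MulAut.one_apply] at this
    rw [sq, mul_eq_one_iff_eq_inv]
    exact this
  have hT : ∀ a : Γ, a.1 ∈ T0 G → θ a ∈ pCoreIn p θ.range := by
    intro a ha
    obtain ⟨x, -, hx, e⟩ := mem_autInducedBy'.1 ha
    obtain ⟨c, hc⟩ := exists_pow_top h hm hs x
    have e1 : a = t ^ c * ⟨c0 ((s ^ c)⁻¹ * x), R12.c0_mem hΓ _⟩ := by
      refine Subtype.ext ?_
      change a.1 = c0 s ^ c * c0 _
      rw [conjAut_pow, ← conjAut_mul, e]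
      congr 1
      group
    have e2 : θ ⟨c0 ((s ^ c)⁻¹ * x), R12.c0_mem hΓ _⟩ = 1 := by
      refine (secHom_eq_one_iff hX hY _).2 (triv_conjAut_iff.2 fun y _ hy => ?_)
      rw [inv_mul_conj_eq]
      exact comm_lay2 h hm (a := i) (b := 0) (inv_mem hy) hc (Or.inr hne)
    rw [e1, map_mul, e2, mul_one, map_pow]
    exact pow_mem hO c
  intro g hg u hu
  have h3 := conj_mem_pCoreIn (A := θ.range) ⟨⟨g, hg⟩, rfl⟩ (hT ⟨u, hΓ.le hu⟩ hu)
  have h4 := hΓ.subgroupOf_top.map θ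
  rw [← MonoidHom.range_eq_map] at h4
  obtain ⟨u', hu', e⟩ := h4.pCoreIn_le h3
  have h5 := hθ (u'⁻¹ * (⟨g, hg⟩ * ⟨u, hΓ.le hu⟩ * ⟨g, hg⟩⁻¹))
    (by rw [map_mul, map_inv, e, map_mul, map_mul, map_inv, inv_mul_cancel])
  obtain ⟨l, hl⟩ := exists_pow_coprime (p := p) h5
  have h6 := inn_le_autInducedBy le_top
    (hK.inn _ h5 l (r_two h hm hΓ hK hne hab (pow_mem h5 _) hl))
  exact (mul_mem_cancel_left (inv_mem (mem_subgroupOf.1 hu'))).1 h6
end R

end Cfsg.Lib.MCE
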