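import Cfsg.Agent.MCE.TB
import Cfsg.Agent.MCE.Two
import Cfsg.Agent.MCE.NE1

/-! The non-exceptional case: endgame. -/

set_option autoImplicit false

namespace Cfsg.Lib.MCE

open Cfsg Cfsg.FusionSystem Subgroup Cfsg.Lib.Solv Cfsg.Lib.Fus Cfsg.Lib.Fus.Ess Cfsg.Lib.Grz
open scoped commutatorElement

universe u

variable {G : Type u} [Group G] {p m k a b l : ℕ} [Finite G] [hp : Fact p.Prime] {E : Subgroup G}
  {A B : Subgroup (MulAut E)} {Γ : Subgroup (MulAut (lay G 0))} {z : G} {g : MulAut E} {f : G → G}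

theorem end_ne (D : Dat p m E A B Γ) (hne : NE m G) (T : Tor p m E k z g)
    (hd : AllDel p m E z g Γ) : False := by
  have h := D.mc
  have hm := D.two
  have h5 := D.five
  have m3 := D.three
  have fin : (∀ g ∈ Γ, ∀ t ∈ T0 G, g * t * g⁻¹ ∈ T0 G) → False := fun hn => by
    obtain ⟨c, hc⟩ := IsCyclic.exists_ofOrder_eq_natCard (α := (ZMod p)ˣ)
    obtain ⟨γ, hγ, -, d⟩ := hd (c : ZMod p).val ((c⁻¹ : (ZMod p)ˣ) : ZMod p).val
      (by rw [ZMod.natCast_zmod_val, ZMod.natCast_zmod_val, Units.mul_inv])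
    obtain ⟨s, hs⟩ := exists_not_mem_zero h hm
    obtain ⟨l, hl⟩ := la_of_conj h hm hs (hn γ hγ _ (conjAut_mem_autInducedBy (mem_top s) _))
    exact case_a D hne T d hl (by
      rw [ZMod.natCast_zmod_val, orderOf_units, hc, Nat.card_eq_fintype_card, ZMod.card_units])
  obtain ⟨i, -, hi⟩ := normal_eq h hm (X := omz p (lay G 0)) omz_le
  have aI : AInv Γ (lay0 G i) := fun α _ x hx => by
    have := hi.le (pext_mem_omz α (v := x) (hi.ge hx))
    rwa [pext_coe] at this
  have im : i ≤ m - 1 := by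
    obtain ⟨v, wv⟩ := exists_wg h hm (i := m - 1) (by omega)
    exact wv.mem_iff.1 (hi.le ⟨lay_anti (Nat.zero_le _) wv.1,
      mem_bot.1 ((lay_eq_bot h hm (by omega)).le (pow_lay h hm (i := m - 1) (by omega) wv.1)),
      fun y hy => ((mem_C h hm).1 ((show twoStep G (m - 1) = _ from hne).ge hy) v wv.1).symm⟩)
  have cy : ∀ (y : G), y ∈ lay G 0 → lay G 0 ≤ lay G i ⊔ zpowers y → False := fun y hy e =>
    D.not_comm ⟨⟨fun u v => Subtype.ext (comm_mem_bot.1 (L1.comm_of_sup (W := ⊥)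
      (fun c hc x hx => comm_mem_of_comm (omz_comm (hi.ge hc)
        (sup_le (lay_anti (Nat.zero_le _)) (zpowers_le.2 hy) hx))) (e u.2) (e v.2)))⟩⟩
  have i2 : 2 ≤ i := by
    by_contra n
    obtain ⟨y, wy⟩ := exists_wg h hm (Nat.zero_le m)
    exact cy y wy.1 ((wy.sup h hm).ge.trans (sup_le_sup_right (lay_anti (by omega)) _))
  by_cases h1 : i + 1 = m
  · refine fin (two_normal h hm D.sylΓ (by omega) hne D.not_comm h1.le aI ?_ fun y hy => ?_)
    · rw [lay0, lay_eq_bot h hm (i := i + 2) (by omega), bot_subgroupOf]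
      exact aInv_bot
    · rw [(hi.ge hy).2.1]
      exact one_mem _
  have h2 : lay G (m - 2) ≤ omz p (lay G 0) := hi ▸ lay_anti (by omega)
  by_cases h7 : 7 ≤ p
  · exact end_tel D hne T hd h7 h2
  obtain rfl : p = 5 := by
    have : p ≠ 6 := fun e => absurd (e ▸ hp.out) (by norm_num)
    omega
  by_cases m5 : 5 ≤ m
  · obtain ⟨w, hw, wn⟩ := T.exists_ne
    have hW : omz 5 E ≤ lay G (m - 3) := fun v hv =>
      lay_anti (by omega) (ord_p h hm m5 (D.le (omz_le hv)) hv.2.1)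
    have ww : Wg (m - 3) w := ⟨hW hw, fun e => wn (commutatorElement_eq_one_iff_mul_comm.2
      (omz_comm (h2 (lay_anti (by omega) e)) (lay_anti (Nat.zero_le _) T.zmem)).symm)⟩
    have hW' : lay G (m - 3) ≤ omz 5 E := (ww.sup h hm).ge.trans (sup_le (fun v hv =>
      have := h2 (lay_anti (by omega) hv)
      ⟨D.cent (mem_centralizer_iff.2 fun y hy => (omz_comm this (D.le hy)).symm), this.2.1,
        fun y hy => omz_comm this (D.le hy)⟩) (zpowers_le.2 hw))
    refine D.nn ⟨fun x hx c => T.cW _ fun v hv => ?_⟩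
    have := omz_comm (hW' ((lay_normal _).conj_mem' v (hW hv) c)) hx
    calc c * x * c⁻¹ * v = c * (x * (c⁻¹ * v * c)) * c⁻¹ := by group
      _ = v * (c * x * c⁻¹) := by rw [← this]; group
  obtain rfl : i = 2 := by omega
  refine fin (two_normal h hm D.sylΓ (i := 0) (by omega) hne D.not_comm (by omega)
    (fun α _ x _ => (α x).2) aI fun y hy => by_contra fun n => cy y hy ?_)
  have w0 : Wg 0 y := ⟨hy, fun e => n (pow_mem_succ h hm e)⟩
  have w1 : Wg 1 (y ^ 5) := ⟨pow_mem_succ h hm hy, n⟩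
  exact (w0.sup h hm).ge.trans (sup_le ((w1.sup h hm).ge.trans
    (sup_le_sup_left (zpowers_le.2 (pow_mem (mem_zpowers y) 5)) _)) le_sup_right)

end Cfsg.Lib.MCE
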