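import Cfsg.Agent.MCE.Defs
import Cfsg.Agent.MCN.QB

/-! A root element in standard position with respect to the opposite transvection. -/

set_option autoImplicit false

namespace Cfsg.Lib.MCE

open Subgroup Matrix Cfsg.Lib.MCN
open scoped commutatorElement IntermediateField

variable {p : ℕ} [hp : Fact p.Prime]

theorem QT1.mem (h5 : 5 ≤ p) {l : Kb p} (hl : l ≠ 0) {u v : SLb p}
    (hu : (u : Matrix (Fin 2) (Fin 2) (Kb p)) = !![1, l; 0, 1])
    (hv : (v : Matrix (Fin 2) (Fin 2) (Kb p)) = !![1, 0; 1, 1]) {Γ : Subgroup (SLb p)}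
    (hΓ : Γ = closure {u, v}) : Class.slU 1 ∈ Γ := by
  let L := Subfield.closure ({l} : Set (Kb p))
  have fd : FiniteDimensional (ZMod p) (ZMod p)⟮l⟯ :=
    IntermediateField.adjoin.finiteDimensional (Algebra.IsIntegral.isIntegral l)
  have : Finite (ZMod p)⟮l⟯ := Module.finite_of_finite (ZMod p)
  have hL : L ≤ (ZMod p)⟮l⟯.toSubfield := Subfield.closure_le.2 (by
    rintro _ rfl; exact IntermediateField.mem_adjoin_simple_self _ _)
  have : Finite L := Finite.of_injective _ (Subfield.inclusion hL).injective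
  have := Fintype.ofFinite L
  let l' : L := ⟨l, Subfield.subset_closure rfl⟩
  have hgen : Subfield.closure {l'} = ⊤ := eq_top_iff.2 fun x _ => by
    have : x.1 ∈ (Subfield.closure {l'}).map L.subtype := by
      rw [RingHom.map_field_closure, Set.image_singleton]; exact x.2
    obtain ⟨y, hy, e⟩ := this
    exact (Subtype.ext e : y = x) ▸ hy
  obtain ⟨k2, k3⟩ := qs_ne h5 (F := L)
  have top := ((Cfsg.Agent.S0801.result k2 l' (fun e => hl (congrArg Subtype.val e)) hgen).resolve_right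
    fun e => k3 (by
      have := FiniteField.cast_card_eq_zero L
      rw [e.1] at this
      exact pow_eq_zero_iff two_ne_zero |>.1 (by push_cast at this; linear_combination this))).1
  let f : SpecialLinearGroup (Fin 2) L →* SLb p := SpecialLinearGroup.map L.subtype
  have hf : ∀ g i j, f g i j = (g i j : L) := fun g i j => rfl
  have rg : f.range = Γ := by
    rw [MonoidHom.range_eq_map, ← top, MonoidHom.map_closure, hΓ]
    congr 1
    ext x
    constructor
    · rintro ⟨g, hg | hg, rfl⟩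
      · exact .inr (qs_ext (by simp [hf, hg, hv]) (by simp [hf, hg, hv]) (by simp [hf, hg, hv])
          (by simp [hf, hg, hv]))
      · exact .inl (qs_ext (by simp [hf, hg, hu]) (by simp [hf, hg, hu, l']) (by simp [hf, hg, hu])
          (by simp [hf, hg, hu]))
    · rintro (rfl | rfl)
      · exact ⟨Class.slU l', .inr rfl, qs_ext (by simp [hf, hu]) (by simp [hf, hu, l'])
          (by simp [hf, hu]) (by simp [hf, hu])⟩
      · exact ⟨Class.slV 1, .inl rfl, qs_ext (by simp [hf, hv]) (by simp [hf, hv])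
          (by simp [hf, hv]) (by simp [hf, hv])⟩
  exact rg ▸ ⟨Class.slU 1, qs_ext (by simp [hf]) (by simp [hf]) (by simp [hf]) (by simp [hf])⟩

theorem qt_elt (h5 : 5 ≤ p) {K ι : Type*} [Group K] [Finite K] {z w : K}
    (hK : closure {z, w} = ⊤) (hz1 : z ≠ 1) (π : ι → (K →* SLb p)) (l : ι → Kb p)
    (hπ : ∀ i, l i ≠ 0 ∧ (π i z : Matrix (Fin 2) (Fin 2) (Kb p)) = !![1, l i; 0, 1] ∧
      (π i w : Matrix (Fin 2) (Fin 2) (Kb p)) = !![1, 0; 1, 1])
    (hker : ∀ x, (∀ i, π i x = 1) → ∃ n, x ^ p ^ n = 1)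
    (h1 : ∀ R : Subgroup K, R.Normal → IsPGroup p R → R = ⊥)
    (h2 : ∀ M C : Subgroup K, M.Normal → C.Normal → (∀ x ∈ M, ∀ y ∈ C, x * y = y * x) →
      p ∣ Nat.card M → p ∣ Nat.card C → False) :
    ∃ z₁ : K, z₁ * z = z * z₁ ∧ z₁ ^ p = 1 ∧
      ∀ i, π i (z₁ * w⁻¹ * z₁ * (z₁ * w⁻¹ * z₁)) = -1 := by
  have hp : p.Prime := Fact.out
  have od : Odd p := hp.odd_of_ne_two (by omega)
  have a : ∀ x, (∀ i, π i x = 1) → x = 1 := fun x hx =>
    (h1 (⨅ i, (π i).ker) (normal_iInf_normal fun i => inferInstance) fun y =>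
      (hker y fun i => mem_iInf.1 y.2 i).imp fun n e => Subtype.ext e).le (mem_iInf.2 hx)
  have F := fun i => sl2_facts h5 (hπ i).1 (hπ i).2.1 (hπ i).2.2 (Γ := (π i).range) (by
    rw [MonoidHom.range_eq_map, ← hK, MonoidHom.map_closure, Set.image_pair])
  let Z : ι → Subgroup K := fun i => (pmOne p).comap (π i)
  have nZ : ∀ i, (Z i).Normal := fun i => pmOne_normal.comap _
  have zZ : ∀ i, z ∉ Z i := fun i e => e.elim (F i).2.2.2.2.2.2.1 (F i).2.2.2.2.2.2.2.1
  have dich : ∀ M : Subgroup K, M.Normal → ∀ i, M.map (π i) = (π i).range ∨ M ≤ Z i := fun M hM i =>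
    ((F i).1 _ (map_le_range _ M) (by
      rintro _ ⟨g, rfl⟩ _ ⟨x, hx, rfl⟩
      exact ⟨_, hM.conj_mem x hx g, by simp⟩)).imp_right fun e x hx => e _ ⟨x, hx, rfl⟩
  have pd : ∀ (N : Subgroup K) i, N.map (π i) = (π i).range → p ∣ Nat.card N := fun N i e => by
    obtain ⟨y, hy, e'⟩ := e.ge ⟨z, rfl⟩
    rw [← orderOf_eq_prime (F i).2.2.2.2.2.1 (F i).2.2.2.2.2.2.1, ← e']
    exact (orderOf_map_dvd _ y).trans (N.orderOf_dvd_natCard hy)
  have key : ∀ M : Subgroup K, M.Normal → ∀ j, M.map (π j) = (π j).range → M = ⊤ := fun M => by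
    induction M using WellFoundedLT.induction with
    | ind M ih =>
    intro hM j hj
    have ih' : ∀ N < M, N.Normal → ∀ i, N ≤ Z i := fun N h hN i =>
      (dich N hN i).resolve_left fun e => h.ne_top (ih N h hN i e)
    let C := ⨅ i : {i // M.map (π i) = (π i).range}, Z i.1
    have nC : C.Normal := normal_iInf_normal fun i => nZ i.1
    have cm : ∀ x ∈ M, ∀ y ∈ C, x * y = y * x := fun x hx y hy =>
      commutatorElement_eq_one_iff_mul_comm.1 (a _ fun i => by
        rw [map_commutatorElement, commutatorElement_eq_one_iff_mul_comm]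
        rcases dich M hM i with e | e
        · exact (pmOne_comm (mem_iInf.1 hy ⟨i, e⟩) _).symm
        · exact pmOne_comm (e hx) _)
    have lt : M ⊓ Z j < M := inf_lt_left.2 fun e => by
      obtain ⟨y, hy, e'⟩ := hj.ge ⟨z, rfl⟩
      exact zZ j (show π j z ∈ pmOne p from e' ▸ e hy)
    have := nZ j
    have dec : ∀ x, ∃ y ∈ M, x * y⁻¹ ∈ C := fun x => by
      obtain ⟨y, hy, e⟩ := hj.ge ⟨x, rfl⟩
      refine ⟨y, hy, mem_iInf.2 fun i => (F i.1).2.2.1 _ ⟨_, rfl⟩ fun g hg => ?_⟩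
      obtain ⟨m, hm, rfl⟩ := i.2.ge hg
      rw [← map_commutatorElement]
      refine ih' _ lt inferInstance i.1 ⟨M.mul_mem (hM.conj_mem m hm _) (M.inv_mem hm), .inl ?_⟩
      rw [map_commutatorElement, map_mul, map_inv, e, mul_inv_cancel, commutatorElement_one_left]
    have CZ : ∀ i, C ≤ Z i := fun i =>
      (dich C nC i).resolve_left fun e => h2 M C hM nC cm (pd M j hj) (pd C i e)
    have mem : ∀ x : K, x ^ p = 1 → x ∈ M := fun x hx => by
      obtain ⟨y, hy, hd⟩ := dec x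
      have e1 : x * y⁻¹ * (x * y⁻¹) = 1 := a _ fun i => by rw [map_mul]; exact pmOne_sq (CZ i hd)
      have e2 : x * x = y * y := by
        calc x * x = x * y⁻¹ * (y * (x * y⁻¹)) * y := by group
          _ = y * y := by rw [cm y hy _ hd, ← mul_assoc, e1, one_mul]
      obtain ⟨k, hk⟩ := od
      have : x = (x * x) ^ (k + 1) := by
        rw [← sq, ← pow_mul, show 2 * (k + 1) = p + 1 by omega, pow_succ, hx, one_mul]
      rw [this, e2]
      exact pow_mem (mul_mem hy hy) _
    refine top_le_iff.1 (hK ▸ (closure_le _).2 ?_)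
    rintro _ (rfl | rfl)
    · exact mem _ (a _ fun i => by rw [map_pow]; exact (F i).2.2.2.2.2.1)
    · exact mem _ (a _ fun i => by rw [map_pow]; exact (F i).2.2.2.2.2.2.2.2)
  have pr : ∀ M : Subgroup K, M.Normal → M ≠ ⊤ → ∀ i, M ≤ Z i := fun M hM h i =>
    (dich M hM i).resolve_left fun e => h (key M hM i e)
  have ZZ : ∀ i j, Z i ≤ Z j := fun i => pr _ (nZ i) fun e => zZ i (e.ge (mem_top z))
  obtain ⟨i0⟩ : Nonempty ι := by
    by_contra e
    exact hz1 (a z fun i => (e ⟨i⟩).elim)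
  obtain ⟨y, hy⟩ := QT1.mem h5 (hπ i0).1 (hπ i0).2.1 (hπ i0).2.2 (Γ := (π i0).range) (by
    rw [MonoidHom.range_eq_map, ← hK, MonoidHom.map_closure, Set.image_pair])
  have sq : ∀ x, π i0 x = 1 → x * x = 1 := fun x hx => a _ fun i => by
    rw [map_mul]; exact pmOne_sq (ZZ i0 i (.inl hx))
  have up : (Class.slU (1 : Kb p)) ^ p = 1 := Class.slU_pow_char p 1
  have e1 : π i0 (y ^ (p + 1)) = Class.slU 1 := by rw [map_pow, hy, pow_succ, up, one_mul]
  obtain ⟨k, hk⟩ := od
  have zp : z ^ p = 1 := a _ fun i => by rw [map_pow]; exact (F i).2.2.2.2.2.1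
  have ew : π i0 w = Class.slV 1 := Subtype.ext (hπ i0).2.2
  have en : (π i0 (y ^ (p + 1) * w⁻¹ * y ^ (p + 1)) : Matrix (Fin 2) (Fin 2) (Kb p)) =
      !![0, 1; -1, 0] := by
    rw [map_mul, map_mul, map_inv, e1, ew, ← Class.slV_neg]
    simp
  generalize hz₁ : y ^ (p + 1) = z₁ at e1 en
  refine ⟨z₁, ?_, ?_, fun i => ?_⟩
  · have e2 : π i0 ⁅z₁, z⁆ = 1 := by
      rw [map_commutatorElement, commutatorElement_eq_one_iff_mul_comm, e1,
        show π i0 z = Class.slU (l i0) from Subtype.ext (hπ i0).2.1, ← Class.slU_add,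
        ← Class.slU_add, add_comm]
    have e3 : Commute ⁅z₁, z⁆ z := commutatorElement_eq_one_iff_mul_comm.1 (a _ fun i => by
      rw [map_commutatorElement, commutatorElement_eq_one_iff_mul_comm]
      exact pmOne_comm (ZZ i0 i (.inl e2)) _)
    have e4 : ⁅z₁, z⁆ ^ p = 1 := by
      have : (⁅z₁, z⁆ * z) ^ p = 1 := by
        rw [commutatorElement_def, inv_mul_cancel_right, conj_pow, zp, mul_one, mul_inv_cancel]
      rwa [e3.mul_pow, zp, mul_one] at this
    rw [hk, pow_succ, pow_mul, _root_.sq, sq _ e2, one_pow, one_mul] at e4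
    exact commutatorElement_eq_one_iff_mul_comm.1 e4
  · rw [← hz₁, ← pow_mul, mul_comm, pow_mul, show p + 1 = 2 * (k + 1) by omega, pow_mul, _root_.sq,
      sq _ (by rw [map_pow, hy, up]), one_pow]
  · generalize z₁ * w⁻¹ * z₁ = n at en
    have e2 : π i0 (n * n) = -1 := by
      rw [map_mul]
      refine qs_ext ?_ ?_ ?_ ?_ <;> rw [qs_mul] <;> simp [en]
    refine (ZZ i0 i (.inr e2)).resolve_left fun e => ?_
    rw [map_mul] at e
    rcases ZZ i i0 ((F i).2.2.2.1 _ e) with e3 | e3 <;> rw [e3] at en <;>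
      simpa using congrFun₂ en 0 1

end Cfsg.Lib.MCE
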