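import Cfsg.Agent.MCE.L2

/-! Eigenvalues on the layers, I. -/

set_option autoImplicit false

namespace Cfsg.Lib.MCE

open Cfsg Cfsg.FusionSystem Subgroup Cfsg.Lib.Solv Cfsg.Lib.Fus Cfsg.Lib.Fus.Ess Cfsg.Lib.Grz
open scoped commutatorElement

variable {G : Type*} [Group G] {p m i j a b l : ℕ} {x y s : G} {f : G → G}

theorem ScA.la_pext {γ : MulAut (lay G 0)} {x' : G} (hs : s ∉ lay G 0) (h1 : x' ∉ lay G 0)
    (h2 : (s ^ l)⁻¹ * x' ∈ lay G 0)
    (e : ∀ y ∈ lay G 0, pext (lay G 0) (γ * c0 s * γ⁻¹) y = x' * y * x'⁻¹) :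
    LA (pext (lay G 0) γ) l :=
  ⟨mulOn_pext γ, fun x _ e => (pext _ γ).injective (e.trans (mulOn_pext γ).map_one.symm),
    fun _ hx => pext_mem γ hx, s, x', hs, h1, h2, fun y hy => by
      rw [← e _ (pext_mem γ hy), pext_conj_apply, pext_conjAut _ hy]⟩

variable [Finite G] [hp : Fact p.Prime] (h : MC p m G) (hm : 2 ≤ m)
include h hm

omit [Finite G] hp in
theorem la_of_aut (τ : MulAut G) (hs : s ∉ lay G 0) (e : (s ^ l)⁻¹ * τ s ∈ lay G 0) :
    LA τ l :=
  have _ := h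
  have _ := hm
  ⟨fun x _ y _ => map_mul τ x y, fun x _ e => (map_eq_one_iff τ τ.injective).1 e,
    char_mem _ τ, s, τ s, hs, fun e => hs ((char_mem_iff _ τ).1 e), e, fun y _ => by simp⟩

theorem la_of_conj {γ : MulAut (lay G 0)} (hs : s ∉ lay G 0) (e : γ * c0 s * γ⁻¹ ∈ T0 G) :
    ∃ l, LA (pext (lay G 0) γ) l := by
  obtain ⟨x', -, e⟩ := mem_autInducedBy_pext.1 e
  obtain ⟨l, hl⟩ := exists_pow_top h hm hs x'
  refine ⟨l, ScA.la_pext hs (fun hx => hs ((c0_mem_inn h hm).1 ?_)) hl e⟩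
  simpa [mul_assoc] using (innNormal _).conj_mem _ (mem_inn_pext.2 ⟨x', hx, e⟩) γ⁻¹

omit [Finite G] hp in
theorem la_of_comm {γ : MulAut (lay G 0)} (hs : s ∉ lay G 0)
    (e : γ * c0 s * γ⁻¹ * (c0 s)⁻¹ ∈ Inn (lay G 0)) : LA (pext (lay G 0) γ) 1 := by
  have _ := h
  have _ := hm
  obtain ⟨u, hu, e⟩ := mem_inn_pext.1 e
  refine ScA.la_pext (x' := u * s) hs (fun hx => hs ((mul_mem_cancel_left hu).1 hx))
    (by simpa [mul_assoc] using (lay_normal 0).conj_mem u hu s⁻¹) fun y hy => ?_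
  have := e _ (pext_mem (c0 s) hy)
  rw [← pext_mul, inv_mul_cancel_right, pext_conjAut _ hy] at this
  rw [this]; group

theorem LA.exists_conj (hf : LA f l) (g : G) :
    ∃ g', ∀ y ∈ lay G 0, f (g * y * g⁻¹) = g' * f y * g'⁻¹ := by
  obtain ⟨x, x', hx, -, -, e⟩ := hf.nrm
  obtain ⟨c, u, hu, rfl⟩ := exists_mul_pow ((sup_top h hm hx).ge (mem_top g))
  induction c with
  | zero => exact ⟨f u, fun y hy => by simpa using hf.mul.map_conj hu hy⟩
  | succ c ih =>
    obtain ⟨g', k⟩ := ih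
    refine ⟨x' * g', fun y hy => ?_⟩
    have := e _ ((lay_normal 0).conj_mem y hy (x ^ c * u))
    rw [k y hy] at this
    convert this using 1
    · congr 1; rw [pow_succ']; group
    · group

theorem LA.maps_lay (hf : LA f l) (hx : x ∈ lay G i) : f x ∈ lay G i := by
  induction i generalizing x with
  | zero => exact hf.maps x hx
  | succ i ih =>
    have k : ⁅(⊤ : Subgroup G), lay G i⁆ ≤
        ((lay G (i + 1)).comap hf.mul.toHom).map (lay G 0).subtype :=
      commutator_le.2 fun g _ y hy => by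
        have hy0 := lay_anti (Nat.zero_le i) hy
        obtain ⟨g', e⟩ := hf.exists_conj h hm g
        refine ⟨⟨_, lay_anti (Nat.zero_le _) (comm_top h hm hy g).2⟩, ?_, rfl⟩
        change f ⁅g, y⁆ ∈ lay G (i + 1)
        rw [commutatorElement_def, hf.mul.map_mul ((lay_normal 0).conj_mem y hy0 g) (inv_mem hy0),
          e y hy0, hf.mul.map_inv hy0]
        exact (comm_top h hm (ih hy) g').2
    rw [lay_succ_eq h hm, commutator_comm] at hx
    obtain ⟨z, hz, rfl⟩ := k hx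
    exact hz

theorem LA.eg_of (hf : LA f l) (hx : Wg i x) (e : (x ^ a)⁻¹ * f x ∈ lay G (i + 1)) :
    Eg f i a := fun y hy => by
  obtain ⟨c, u, hu, rfl⟩ := exists_mul_pow ((hx.sup h hm).ge hy)
  have hx0 := lay_anti (Nat.zero_le i) hx.1
  rw [← QuotientGroup.eq] at e ⊢
  rw [hf.mul.map_mul (pow_mem hx0 c) (lay_anti (Nat.zero_le _) hu), hf.mul.map_pow hx0]
  simp only [QuotientGroup.mk_mul, QuotientGroup.mk_pow] at e ⊢
  rw [← e, (QuotientGroup.eq_one_iff _).2 hu, (QuotientGroup.eq_one_iff _).2 (hf.maps_lay h hm hu),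
    mul_one, mul_one, ← pow_mul, ← pow_mul, mul_comm]

theorem LA.exists_eg (hf : LA f l) (i : ℕ) : ∃ a, Eg f i a := by
  by_cases hi : i ≤ m
  · obtain ⟨x, hx⟩ := exists_wg h hm hi
    obtain ⟨c, hc⟩ := hx.exists_pow h hm (hf.maps_lay h hm hx.1)
    exact ⟨c, hf.eg_of h hm hx hc⟩
  · refine ⟨0, fun x hx => ?_⟩
    rw [lay_eq_bot h hm (by omega), mem_bot] at hx
    simp [hx, hf.mul.map_one]

theorem Eg.cast (h1 : Eg f i a) (h2 : Eg f i b) (hi : i ≤ m) : (a : ZMod p) = b := by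
  obtain ⟨x, hx⟩ := exists_wg h hm hi
  rw [ZMod.natCast_eq_natCast_iff]
  by_contra e
  refine hx.2 (mem_of_pow_of_pow (pow_mem_succ h hm hx.1) ?_ e)
  simpa [mul_assoc] using mul_mem (h1 x hx.1) (inv_mem (h2 x hx.1))

theorem Eg.congr (h1 : Eg f i a) (e : (a : ZMod p) = b) : Eg f i b := fun x hx => by
  have := h1 x hx
  rw [← QuotientGroup.eq, QuotientGroup.mk_pow] at this ⊢
  rw [← this]
  exact pow_eq_pow_of_modEq' (by
    rw [← QuotientGroup.mk_pow, (QuotientGroup.eq_one_iff _).2 (pow_mem_succ h hm hx)])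
    ((ZMod.natCast_eq_natCast_iff _ _ _).1 e.symm)

theorem LA.ne_zero (hf : LA f l) (h1 : Eg f i a) (hi : i ≤ m) : (a : ZMod p) ≠ 0 := fun e => by
  have h2 := h1.congr h hm (b := 0) (by simpa using e)
  have k := lay_anti (G := G) (Nat.zero_le i)
  have := Nat.card_le_card_of_injective
    (fun x : lay G i => (⟨f x, by simpa using h2 x x.2⟩ : lay G (i + 1))) fun x y e =>
      Subtype.ext (inv_mul_eq_one.1 (hf.inj _ (mul_mem (inv_mem (k x.2)) (k y.2)) (by
        rw [hf.mul.map_mul (inv_mem (k x.2)) (k y.2), hf.mul.map_inv (k x.2),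
          show f x = f y from congrArg Subtype.val e, inv_mul_cancel])))
  rw [card_lay h hm, card_lay h hm, Nat.pow_le_pow_iff_right hp.out.one_lt] at this
  omega

end Cfsg.Lib.MCE
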