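import Cfsg.Agent.MCE.D0
import Cfsg.Agent.MCE.ScB

/-! Torus basics and case A. -/

set_option autoImplicit false

namespace Cfsg.Lib.MCE

open Cfsg Cfsg.FusionSystem Subgroup Cfsg.Lib.Solv Cfsg.Lib.Fus Cfsg.Lib.Fus.Ess Cfsg.Lib.Grz
open scoped commutatorElement

universe u

variable {G : Type u} [Group G] {p m k a b l : ℕ} [Finite G] [hp : Fact p.Prime] {E : Subgroup G}
  {A B : Subgroup (MulAut E)} {Γ : Subgroup (MulAut (lay G 0))} {z : G} {g : MulAut E} {f : G → G}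

set_option linter.unusedSectionVars false in
theorem Tor.norm (D : Dat p m E A B Γ) (T : Tor p m E k z g) : z ∈ normalizer (E : Set G) :=
  mem_normalizer_of_finite fun e he => by
    have := mul_mem (T.sub (comm_top D.mc D.two T.zmem e).1) he
    simpa [commutatorElement_def] using this

theorem Tor.wg (D : Dat p m E A B Γ) (T : Tor p m E k z g) : Wg k z ∧ k + 1 ≤ m := by
  have w : Wg k z := ⟨T.zmem, fun e => T.znot (T.sub e)⟩
  refine ⟨w, lt_of_le_of_ne (w.le D.mc D.two) ?_⟩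
  rintro rfl
  exact T.znot (omz_le (D.center_le T.zmem))

theorem Tor.mem_of (D : Dat p m E A B Γ) (T : Tor p m E k z g) {y : G} (hy : y ∈ lay G k)
    (hE : y ∈ E) : y ∈ lay G (k + 1) := by_contra fun n =>
  T.znot (sup_le T.sub (zpowers_le.2 hE) ((Wg.sup D.mc D.two ⟨hy, n⟩).ge T.zmem))

omit [Finite G] hp in
theorem Tor.exists_ne (T : Tor p m E k z g) : ∃ v ∈ omz p E, ⁅z, v⁆ ≠ 1 := by
  by_contra! h
  exact T.znot (T.cW z fun v hv => commutatorElement_eq_one_iff_mul_comm.1 (h v hv))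

theorem Del.onZ (D : Dat p m E A B Γ) (T : Tor p m E k z g) (d : Del p m E z g f a b)
    (ha : (a : ZMod p) ≠ 1) (hZ : ∀ v ∈ lay G m, f v ∈ lay G m) :
    ∀ v ∈ lay G m, f v = v ^ a ∧ ∃ u ∈ omz p E, ⁅z, u⁆ = v := by
  have hb := lay_eq_bot D.mc D.two (le_refl (m + 1))
  obtain ⟨v0, h0⟩ := exists_wg D.mc D.two (le_refl m)
  obtain ⟨u, hu, e⟩ := d.hK v0 (D.center_le h0.1)
    (commutatorElement_eq_one_iff_mul_comm.2 (D0.cen D h0.1 z))
  have hw : Wg m ⁅z, u⁆ := by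
    rw [← e]
    refine ⟨mul_mem (inv_mem h0.1) (hZ v0 h0.1), fun n => ?_⟩
    rw [hb, mem_bot, inv_mul_eq_one] at n
    exact d.hZ ha v0 h0.1 (fun e => h0.2 (e ▸ one_mem _)) n.symm
  intro v hv
  obtain ⟨c, hc⟩ := hw.exists_pow D.mc D.two hv
  rw [hb, mem_bot, inv_mul_eq_one, ← comm_omz_pow (T.norm D) hu] at hc
  exact ⟨hc ▸ d.hA _ (pow_mem hu c), _, pow_mem hu c, hc⟩

theorem TB.exists_max (D : Dat p m E A B Γ) (T : Tor p m E k z g) : ∃ i, (∃ w ∈ omz p E, w ∈ lay G i ∧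
    ⁅z, w⁆ ≠ 1) ∧ ∀ w ∈ omz p E, w ∈ lay G (i + 1) → ⁅z, w⁆ = 1 := by
  by_contra! h
  have : ∀ i, ∃ w ∈ omz p E, w ∈ lay G i ∧ ⁅z, w⁆ ≠ 1 := fun i => by
    induction i with
    | zero =>
      obtain ⟨v, hv, n⟩ := T.exists_ne
      exact ⟨v, hv, D.le (omz_le hv), n⟩
    | succ i ih => exact h i ih
  obtain ⟨w, -, h1, h2⟩ := this (m + 1)
  rw [lay_eq_bot D.mc D.two le_rfl, mem_bot] at h1
  exact h2 (by simp [h1])

theorem case_a (D : Dat p m E A B Γ) (hne : NE m G) (T : Tor p m E k z g)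
    (d : Del p m E z g f a b) (hf : LA f l) (ha : orderOf (a : ZMod p) = p - 1) : False := by
  have h := D.mc
  have hm := D.two
  have h5 := D.five
  have a1 : (a : ZMod p) ≠ 1 := fun e => by
    rw [e, orderOf_one] at ha
    omega
  have a0 : (a : ZMod p) ≠ 0 := left_ne_zero_of_mul_eq_one d.ab
  obtain ⟨μ, h0⟩ := hf.exists_eg h hm 0
  have it : ∀ i c, i ≤ m → Eg f i c → (l : ZMod p) ^ i * μ = c := fun i c hi hc => by
    have := (hf.iter h hm h0 (.inr ⟨hne, hi⟩)).cast h hm hc hi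
    push_cast at this
    exact this
  have em := it m a le_rfl fun x hx => by
    rw [(d.onZ D T a1 (fun v hv => hf.maps_lay h hm hv) x hx).1, inv_mul_cancel]
    exact one_mem _
  obtain ⟨wz, hk⟩ := T.wg D
  have z0 : z ∈ lay G 0 := lay_anti (Nat.zero_le _) T.zmem
  obtain ⟨n, rfl⟩ : ∃ n, m = n + 1 := ⟨m - 1, by omega⟩
  have cm : ∀ y ∈ lay G 0, ∀ x ∈ lay G n, y * x = x * y := fun y hy =>
    (mem_C h hm).1 ((show twoStep G (n + 1 - 1) = _ from hne).ge hy)
  obtain ⟨v, hv⟩ := exists_wg h hm (i := n) (by omega)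
  have vW : v ∈ omz p E := ⟨D.cent (mem_centralizer_iff.2 fun y hy => cm y (D.le hy) v hv.1),
    mem_bot.1 ((lay_eq_bot h hm (by omega)).le (pow_lay h hm (by omega) hv.1)),
    fun y hy => (cm y (D.le hy) v hv.1).symm⟩
  obtain ⟨u, hu, e⟩ := d.hK v vW (commutatorElement_eq_one_iff_mul_comm.2 (cm z z0 v hv.1))
  by_cases hw : ⁅z, u⁆ ∈ lay G (n + 1)
  · have e1 := it n 1 (by omega) (hf.eg_of h hm hv (by rwa [pow_one, e]))
    have la : (l : ZMod p) = a := by
      rw [pow_succ', mul_assoc, e1] at em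
      simpa using em
    obtain ⟨i, ⟨w, wW, wi, wn⟩, mx⟩ := TB.exists_max D T
    have ik : k + i + 2 ≤ n + 1 := by
      by_contra c
      exact wn (mem_bot.1 ((lay_eq_bot h hm (by omega)).le (comm_lay2 h hm T.zmem wi (.inr hne))))
    have r1 := hf.iter h hm h0 (i := i) (.inr ⟨hne, by omega⟩) w wi
    have rW := mul_mem (inv_mem (pow_mem wW (l ^ i * μ))) (d.mapsW w wW)
    have e2 := comm_omz (T.norm D) (pow_mem wW (l ^ i * μ)) rW
    rw [mx _ rW r1, mul_one, mul_inv_cancel_left, d.hA' w wW, comm_omz_pow (T.norm D) wW,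
      pow_eq_pow_iff_modEq, orderOf_eq_prime (conj_mem_omz (T.norm D) wW).2.2.1 wn,
      ← ZMod.natCast_eq_natCast_iff] at e2
    push_cast at e1 e2
    have e3 : (a : ZMod p) ^ (n - 1 - i) = 1 := by
      have := d.ab
      rw [la] at e1 e2
      rw [show n = n - 1 - i + 1 + i by omega, pow_add, pow_succ] at e1
      rw [e2] at this
      calc (a : ZMod p) ^ (n - 1 - i) = a ^ (n - 1 - i) * (a * (a ^ i * μ)) := by rw [this, mul_one]
        _ = 1 := by rw [← e1]; ring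
    have e4 := Nat.le_of_dvd (by have := T.one_le; omega) (ha ▸ orderOf_dvd_of_pow_eq_one e3)
    exact wn (mx w wW (lay_anti (by omega)
      (ord_p h hm (by omega) (lay_anti (Nat.zero_le _) wi) wW.2.1)))
  · have ww : Wg n ⁅z, u⁆ := ⟨e ▸ mul_mem (inv_mem hv.1) (hf.maps_lay h hm hv.1), hw⟩
    have e1 := it n a (by omega) (hf.eg_of h hm ww (by
      rw [d.hA u hu, inv_mul_cancel]; exact one_mem _))
    have l1 : (l : ZMod p) = 1 := by
      rw [pow_succ', mul_assoc, e1] at em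
      exact mul_right_cancel₀ a0 (em.trans (one_mul _).symm)
    have e2 := it k (a * a) (by omega) (hf.eg_of h hm wz (T.mem_of D
      (mul_mem (inv_mem (pow_mem T.zmem _)) (hf.maps_lay h hm T.zmem)) d.hz))
    rw [l1, one_pow, one_mul] at e1 e2
    rw [e1, Nat.cast_mul] at e2
    exact a1 (mul_right_cancel₀ a0 (e2.symm.trans (one_mul _).symm))

end Cfsg.Lib.MCE
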