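import Cfsg.Agent.MCE.Defs
import Cfsg.Agent.MCN.Lin
import Cfsg.Agent.MCN.T1
import Cfsg.Agent.Fus.Res

/-! A torus element inverts no `p`-element. -/

set_option autoImplicit false

namespace Cfsg.Lib.MCE

open Cfsg Cfsg.FusionSystem Subgroup Cfsg.Lib.Solv Cfsg.Lib.Fus Cfsg.Lib.Fus.Ess Cfsg.Lib.Grz
open Cfsg.Lib.MCN (Flag Ex Rs Kb SLb)
open scoped commutatorElement

variable {p : ℕ} [hp : Fact p.Prime] {V : Type*} [AddCommGroup V] [Module (ZMod p) V] [Finite V]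
  {M : Type*} [Group M] [Finite M] {ρ : M →* Module.End (ZMod p) V} {x δ δ' t t' : M}
  {F : ℕ → Submodule (ZMod p) V} {d : ℕ} {a α β : ZMod p}

namespace Tel1

omit [Finite V] in
theorem conj_to (hxp : x ^ p = 1) (hs : SylIn p (zpowers x) ⊤) {u : M} {k : ℕ} (hu : u ^ p ^ k = 1)
    (h1 : u ≠ 1) : ∃ (c : M) (j : ℕ), ¬ p ∣ j ∧ c * u * c⁻¹ = x ^ j := by
  obtain ⟨c, -, hc⟩ := hs.exists_conj le_top (isPGroup_zpowers_of_pow hu)
  obtain ⟨j, hj⟩ := mem_powers_iff_mem_zpowers.2 (hc u (mem_zpowers u))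
  refine ⟨c, j, ?_, hj.symm⟩
  rintro ⟨i, rfl⟩
  simp only [pow_mul, hxp, one_pow] at hj
  exact h1 (conj_eq_one_iff.1 hj.symm)

omit [Finite V] [Finite M] in
theorem split (hF : Flag F d) (hx : Ex F (ρ x - 1) 1) (l : ℕ) :
    ∃ R, Rs F R (1 + 1) ∧ ρ (x ^ l) - 1 = (l : ZMod p) • (ρ x - 1) + R :=
  ⟨_, hx.rs.pow_sub_one hF.anti l, by rw [map_pow]; abel⟩

omit [Finite V] [Finite M] in
theorem rs0 (hF : Flag F d) (hx : Ex F (ρ x - 1) 1) {g : M} {l : ℕ} (e : g * x * g⁻¹ = x ^ l) :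
    Rs F (ρ g) 0 := fun n v hv => by
  have h1 : SemiconjBy (ρ g) (ρ x - 1) (ρ (x ^ l) - 1) :=
    LinearMap.ext fun v => (MCN.rho_conj ρ g x v).trans (by rw [e]; rfl)
  have h2 := hx.pow n 0
  rw [zero_add, mul_one] at h2
  obtain ⟨w, -, rfl⟩ := h2.ge hv
  have h3 := (hx.rs.pow_sub_one' hF.anti l).pow n 0 _ (hF.mem_zero (ρ g w))
  rw [zero_add, mul_one, ← map_pow] at h3
  exact (LinearMap.congr_fun (h1.pow_right n).eq w).symm ▸ h3

omit [Finite V] [Finite M] in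
theorem step (hF : Flag F d) (hx : Ex F (ρ x - 1) 1) {g : M} {l n : ℕ} (e : g * x * g⁻¹ = x ^ l)
    {v : V} {c : ZMod p} (hv : v ∈ F n) (h : ρ g v - c • v ∈ F (n + 1)) :
    ρ g ((ρ x - 1) v) - ((l : ZMod p) * c) • (ρ x - 1) v ∈ F (n + 1 + 1) := by
  obtain ⟨R, hR, eR⟩ := split hF hx l
  rw [MCN.rho_conj, e, eR]
  have h1 := hR n _ (rs0 hF hx e n v hv)
  have h2 := (F _).smul_mem (l : ZMod p) (hx.rs _ _ h)
  convert (F _).add_mem h1 h2 using 1
  generalize ρ x - 1 = N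
  simp only [LinearMap.add_apply, LinearMap.smul_apply, map_sub, map_smul, smul_sub, mul_smul]
  abel

omit [Finite V] [Finite M] in
theorem uniq {U : Submodule (ZMod p) V} {v w : V} {c c' : ZMod p} (hv : v ∉ U) (h : w - c • v ∈ U)
    (h' : w - c' • v ∈ U) : c = c' := by_contra fun n => hv (by
  have := U.sub_mem h' h
  rw [sub_sub_sub_cancel_left, ← sub_smul] at this
  exact (U.smul_mem_iff (sub_ne_zero.2 n)).1 this)

omit [Finite V] in
theorem core (hρ : Function.Injective ρ) (hF : Flag F d) (hd : 3 ≤ d) (hx : Ex F (ρ x - 1) 1)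
    (hs : SylIn p (zpowers x) ⊤) (ht : t * t = 1) (h1 : α + β = 1) (h2 : α - β = a)
    (hδ : ρ δ = α • 1 + β • ρ t) (e : t * x * t⁻¹ = x ^ (p - 1)) : a ^ 2 = 1 := by
  have rt := rs0 hF hx e
  have rδ : Rs F (ρ δ) 0 := hδ ▸ (MCN.rs_one.smul α).add (rt.smul β)
  obtain ⟨M0, -, pM, nM, mM⟩ := MCN.exists_chain_sub (p := p) hρ
    (subgroupOfFinite {g | Rs F (ρ g) 0} (by simpa using MCN.rs_one)
      fun a b ha hb => by simpa using MCN.Rs.mul ha hb) F d hF.zero hF.bot fun g hg => hg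
  have xM : x ∈ M0 := mM x (hx.rs.of_sub_one hF.anti) hx.rs
  have := nM δ rδ x xM
  rw [hs.max M0 (zpowers_le.2 xM) le_top pM] at this
  obtain ⟨l, hl⟩ := mem_powers_iff_mem_zpowers.2 this
  obtain ⟨v, hv, nv⟩ := SetLike.not_le_iff_exists.1 (hF.ne 0 (by omega))
  have m1 := hx.rs 0 v hv
  have n1 := hx.not_mem hF hv nv (by omega)
  have n2 := hx.not_mem hF m1 n1 (by omega)
  obtain ⟨η, t0⟩ := hF.step 0 v hv nv _ (hF.mem_zero (ρ t v))
  have t1 := step hF hx e hv t0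
  have t2 := step hF hx e m1 t1
  have k : ∀ (U : Submodule (ZMod p) V) (w : V) (c : ZMod p), ρ t w - c • w ∈ U →
      ρ δ w - (α + β * c) • w ∈ U := fun U w c h => by
    convert U.smul_mem β h using 1
    simp only [hδ, LinearMap.add_apply, LinearMap.smul_apply, Module.End.one_apply, smul_sub,
      add_smul, mul_smul]
    abel
  have e1 := uniq n1 (k _ _ _ t1) (step hF hx hl.symm hv (k _ _ _ t0))
  have e2 := uniq n2 (k _ _ _ t2) (step hF hx hl.symm m1 (k _ _ _ t1))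
  have η0 : η ≠ 0 := fun e0 => nv (by
    have := rt _ _ t0
    rwa [e0, zero_smul, sub_zero, ← Module.End.mul_apply, ← map_mul, ht, map_one] at this)
  rw [Nat.cast_sub hp.out.one_le, ZMod.natCast_self, Nat.cast_one, zero_sub] at e1 e2
  apply mul_right_cancel₀ η0
  rw [← h2]
  linear_combination (α + β * (-1 * η)) * e1 - (α + β * η) * e2 + η * (α + β + 1) * h1

end Tel1

set_option linter.unusedSectionVars false in
theorem tel_inv (h5 : 5 ≤ p) (hρ : Function.Injective ρ) (hF : Flag F d) (hd : 3 ≤ d)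
    (hx : Ex F (ρ x - 1) 1) (hxp : x ^ p = 1) (hs : SylIn p (zpowers x) ⊤)
    (ha : orderOf a = p - 1) (hδ : (ρ δ - 1) * (ρ δ - a • 1) = 0) :
    (∀ (u : M) (k : ℕ), u ^ p ^ k = 1 → (ρ u - 1) * (ρ u - 1) = 0 → u = 1) ∧
    ∃ (t : M) (α β : ZMod p), t * t = 1 ∧ α + β = 1 ∧ α - β = a ∧ ρ δ = α • 1 + β • ρ t ∧
      ∀ (u : M) (k : ℕ), u ^ p ^ k = 1 → t * u * t⁻¹ = u⁻¹ → u = 1 := by
  have inv : ∀ c : M, ρ c * ρ c⁻¹ = 1 := fun c => by rw [← map_mul, mul_inv_cancel, map_one]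
  have inv' : ∀ c : M, ρ c⁻¹ * ρ c = 1 := fun c => by rw [← map_mul, inv_mul_cancel, map_one]
  refine ⟨fun u k hu e => by_contra fun n => ?_, ?_⟩
  · obtain ⟨c, j, hj, ej⟩ := Tel1.conj_to hxp hs hu n
    obtain ⟨R, hR, eR⟩ := Tel1.split hF hx j
    have h1 : Ex F (ρ (x ^ j) - 1) 1 :=
      eR ▸ hx.add_rs hF hR fun e => hj ((ZMod.natCast_eq_zero_iff _ _).1 e)
    obtain ⟨v, -, hv⟩ := (h1.mul h1).exists_not_mem hF (a := 0) (by omega)
    have h2 : ρ (x ^ j) - 1 = ρ c * (ρ u - 1) * ρ c⁻¹ := by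
      rw [← ej, mul_sub, sub_mul, mul_one, inv, map_mul, map_mul]
    have h3 : (ρ (x ^ j) - 1) * (ρ (x ^ j) - 1) = 0 := by
      rw [h2]
      calc _ = ρ c * ((ρ u - 1) * (ρ c⁻¹ * ρ c) * (ρ u - 1)) * ρ c⁻¹ := by simp only [mul_assoc]
        _ = 0 := by rw [inv', mul_one, e, mul_zero, zero_mul]
    exact hv (by rw [h3]; exact (F _).zero_mem)
  · obtain ⟨r, hr⟩ := hp.out.odd_of_ne_two (by omega)
    have nd : ∀ n, 0 < n → n < p - 1 → a ^ n ≠ 1 := fun n h0 h1 =>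
      pow_ne_one_of_lt_orderOf h0.ne' (ha ▸ h1)
    have a1 : (1 : ZMod p) - a ≠ 0 := fun e =>
      nd 1 one_pos (by omega) (by rw [pow_one, ← sub_eq_zero.1 e])
    have ap : a ^ (r + r) = 1 := by
      rw [show r + r = p - 1 by omega, ← ha, pow_orderOf_eq_one]
    have ar : a ^ r = -1 := (mul_self_eq_one_iff.1 (by rw [← pow_add, ap])).resolve_left
      (nd r (by omega) (by omega))
    have two : (2 : ZMod p) ≠ 0 := fun e => by
      have := (ZMod.natCast_eq_zero_iff 2 p).1 (by exact_mod_cast e)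
      have := Nat.le_of_dvd two_pos this
      omega
    have sq : ρ δ * ρ δ = (1 + a) • ρ δ - a • 1 := by
      rw [← sub_eq_zero, ← hδ]
      simp only [mul_sub, sub_mul, mul_smul_comm, add_smul, one_smul, mul_one, one_mul, smul_sub]
      abel
    have pw : ∀ n : ℕ, (1 - a) • ρ (δ ^ n) = ρ δ - a • 1 + a ^ n • (1 - ρ δ) := fun n => by
      induction n with
      | zero => simp [sub_smul]
      | succ n ih =>
        rw [pow_succ', map_mul, ← mul_smul_comm, ih]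
        simp only [mul_add, mul_sub, mul_smul_comm, mul_one, sq]
        module
    have e1 : ρ δ = ((1 + a) / 2) • 1 + ((1 - a) / 2) • ρ (δ ^ r) := by
      rw [div_eq_inv_mul (1 - a), mul_smul, pw, ar]
      refine smul_right_injective _ two ?_
      simp only [smul_add, smul_smul, mul_div_cancel₀ _ two, mul_inv_cancel₀ two,
        mul_inv_cancel_left₀ two]
      module
    have tt : δ ^ r * δ ^ r = 1 := hρ (smul_right_injective _ a1 (by
      beta_reduce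
      rw [← pow_add, pw, ap, map_one]
      module))
    refine ⟨δ ^ r, (1 + a) / 2, (1 - a) / 2, tt, by field_simp; ring, by field_simp; ring, e1,
      fun u k hu e => by_contra fun n => ?_⟩
    obtain ⟨c, j, hj, ej⟩ := Tel1.conj_to hxp hs hu n
    obtain ⟨i, hi⟩ := exists_pow_eq_self_of_coprime (x := x) (n := j)
      ((((Nat.Prime.coprime_iff_not_dvd hp.out).2 hj).symm).coprime_dvd_right
        (orderOf_dvd_of_pow_eq_one hxp))
    refine nd 2 two_pos (by omega) (Tel1.core (δ := c * δ * c⁻¹) (t := c * δ ^ r * c⁻¹)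
      (α := (1 + a) / 2) (β := (1 - a) / 2) hρ hF hd hx hs ?_ (by field_simp; ring)
      (by field_simp; ring) ?_ ?_)
    · rw [conj_mul, tt]; group
    · rw [map_mul, map_mul, e1, mul_add, add_mul, mul_smul_comm, mul_smul_comm, smul_mul_assoc,
        smul_mul_assoc, mul_one, inv, ← map_mul, ← map_mul]
    · have h1 : c * δ ^ r * c⁻¹ * x ^ j * (c * δ ^ r * c⁻¹)⁻¹ = (x ^ j)⁻¹ := by
        rw [← ej]
        calc _ = c * (δ ^ r * u * (δ ^ r)⁻¹) * c⁻¹ := by group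
          _ = _ := by rw [e]; group
      have h2 : x ^ (p - 1) = x⁻¹ := eq_inv_of_mul_eq_one_left (by
        rw [← pow_succ, Nat.sub_add_cancel hp.out.one_le, hxp])
      rw [h2, ← hi, ← conj_pow, h1, inv_pow]

end Cfsg.Lib.MCE
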