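import Cfsg.Agent.MCE.Defs

/-! Two torus elements generate a group of order prime to `p`. -/

set_option autoImplicit false

namespace Cfsg.Lib.MCE

open Cfsg Cfsg.FusionSystem Subgroup Cfsg.Lib.Solv Cfsg.Lib.Fus Cfsg.Lib.Fus.Ess Cfsg.Lib.Grz
open scoped commutatorElement

namespace Tel2

variable {p : ℕ} [hp : Fact p.Prime] {A : Type*} [Ring A] [Algebra (ZMod p) A] {Y τ : A}

theorem comm {f g : A} (hf : f ∈ Algebra.adjoin (ZMod p) {Y}) (hg : g ∈ Algebra.adjoin (ZMod p) {Y}) :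
    Commute f g :=
  Algebra.commute_of_mem_adjoin_singleton_of_commute hg
    (Algebra.commute_of_mem_adjoin_self hf).symm

theorem frob [CharP A p] {k : ℕ} (hY : Y ^ p ^ k = Y) {f : A}
    (hf : f ∈ Algebra.adjoin (ZMod p) {Y}) : f ^ p ^ k = f := by
  induction hf using Algebra.adjoin_induction with
  | mem x hx => rw [Set.mem_singleton_iff.1 hx, hY]
  | algebraMap r => rw [← map_pow, ZMod.pow_card_pow]
  | add x y hx hy h1 h2 => rw [add_pow_char_pow_of_commute p k (comm hx hy), h1, h2]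
  | mul x y hx hy h1 h2 => rw [(comm hx hy).mul_pow, h1, h2]

theorem star (hτ : τ * τ = 1) (hY : τ * Y * τ ∈ Algebra.adjoin (ZMod p) {Y}) {f : A}
    (hf : f ∈ Algebra.adjoin (ZMod p) {Y}) : τ * f * τ ∈ Algebra.adjoin (ZMod p) {Y} := by
  induction hf using Algebra.adjoin_induction with
  | mem x hx => rwa [Set.mem_singleton_iff.1 hx]
  | algebraMap r =>
    rw [← Algebra.commutes, mul_assoc, hτ, mul_one]
    exact Subalgebra.algebraMap_mem _ r
  | add x y _ _ h1 h2 => rw [mul_add, add_mul]; exact add_mem h1 h2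
  | mul x y _ _ h1 h2 =>
    have : τ * (x * y) * τ = τ * x * τ * (τ * y * τ) := by
      calc τ * (x * y) * τ = τ * x * (τ * τ) * y * τ := by rw [hτ]; noncomm_ring
        _ = _ := by noncomm_ring
    rw [this]; exact mul_mem h1 h2

theorem mul_form (hτ : τ * τ = 1) (f g f' g' : A) : (f + g * τ) * (f' + g' * τ) =
    (f * f' + g * (τ * g' * τ)) + (f * g' + g * (τ * f' * τ)) * τ := by
  calc (f + g * τ) * (f' + g' * τ)
      = f * f' + g * (τ * g' * τ) + (f * g' * τ + g * τ * f' * (τ * τ)) := by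
        rw [hτ]; noncomm_ring
    _ = _ := by noncomm_ring

theorem sq_zero [CharP A p] {k : ℕ} (hk : Y ^ p ^ (k + 1) = Y) (hτ : τ * τ = 1)
    (hY : τ * Y * τ ∈ Algebra.adjoin (ZMod p) {Y}) {f g : A}
    (hf : f ∈ Algebra.adjoin (ZMod p) {Y}) (hg : g ∈ Algebra.adjoin (ZMod p) {Y})
    (hN : (f + g * τ) ^ p = 0) : (f + g * τ) * (f + g * τ) = 0 := by
  have hf' := star hτ hY hf
  have hg' := star hτ hY hg
  have hs := add_mem hf hf'
  have hv := sub_mem (mul_mem hf hf') (mul_mem hg hg')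
  have h1 : Commute (f + τ * f * τ) τ := by
    change (f + τ * f * τ) * τ = τ * (f + τ * f * τ)
    calc (f + τ * f * τ) * τ = f * τ + τ * f * (τ * τ) := by noncomm_ring
      _ = τ * f + (τ * τ) * f * τ := by rw [hτ]; noncomm_ring
      _ = _ := by noncomm_ring
  have h2 : Commute (f + τ * f * τ) (f + g * τ) :=
    (comm hs hf).add_right ((comm hs hg).mul_right h1)
  have h3 : (f + g * τ) * (f + g * τ) = (f + τ * f * τ) * (f + g * τ) -
      (f * (τ * f * τ) - g * (τ * g * τ)) := by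
    rw [mul_form hτ, (comm hg hf').eq, (comm hf hf').eq]
    noncomm_ring
  generalize f + g * τ = N at hN h2 h3
  generalize f + τ * f * τ = s at hs h2 h3
  generalize f * (τ * f * τ) - g * (τ * g * τ) = v at hv h3
  have h4 : v = (s - N) * N := by rw [sub_mul, h3]; noncomm_ring
  have h5 : v = 0 := by
    rw [← frob hk hv, pow_succ', pow_mul, h4, (h2.sub_left (Commute.refl N)).mul_pow, hN, mul_zero,
      zero_pow (pow_ne_zero _ hp.out.ne_zero)]
  rw [h5, sub_zero] at h3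
  have h6 : ∀ j : ℕ, N ^ (j + 1) = s ^ j * N := by
    intro j
    induction j with
    | zero => simp
    | succ j ih => rw [pow_succ, ih, mul_assoc, h3, ← mul_assoc, ← pow_succ]
  have h7 := h6 (p ^ (k + 1))
  rw [frob hk hs, pow_succ N, pow_succ' p, pow_mul, hN,
    zero_pow (pow_ne_zero _ hp.out.ne_zero), zero_mul] at h7
  rw [h3, ← h7]

end Tel2

section Tel
variable {p : ℕ} [hp : Fact p.Prime] {V : Type*} [AddCommGroup V] [Module (ZMod p) V] [Finite V]
  {M : Type*} [Group M] [Finite M] {ρ : M →* Module.End (ZMod p) V} {x δ δ' t t' : M}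
  {d : ℕ} {a α β : ZMod p}

theorem tel_pp (hρ : Function.Injective ρ) (ht : t * t = 1) (ht' : t' * t' = 1)
    (hδ : ρ δ = α • 1 + β • ρ t) (hδ' : ρ δ' = α • 1 + β • ρ t')
    (hq : ∀ (u : M) (k : ℕ), u ^ p ^ k = 1 → (ρ u - 1) * (ρ u - 1) = 0 → u = 1)
    (hi : ∀ (u : M) (k : ℕ), u ^ p ^ k = 1 → t * u * t⁻¹ = u⁻¹ → u = 1) :
    (orderOf (t * t')).Coprime p ∧ (Nat.card (closure ({δ, δ'} : Set M))).Coprime p := by
  have hti : t⁻¹ = t := inv_eq_of_mul_eq_one_right ht
  have hti' : t'⁻¹ = t' := inv_eq_of_mul_eq_one_right ht'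
  have hy : t * (t * t') * t⁻¹ = (t * t')⁻¹ := by
    rw [← mul_assoc, ht, one_mul, mul_inv_rev, hti']
  have hn0 : 0 < orderOf (t * t') := orderOf_pos _
  have h1 : (orderOf (t * t')).Coprime p := by
    refine (hp.out.coprime_iff_not_dvd.2 fun ⟨c, hc⟩ => ?_).symm
    have h2 : (t * t') ^ c = 1 := hi _ 1
      (by rw [pow_one, ← pow_mul, mul_comm, ← hc, pow_orderOf_eq_one])
      (by rw [← conj_pow, hy, inv_pow])
    have h3 := Nat.le_of_dvd (Nat.pos_of_ne_zero (by rintro rfl; omega))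
      (orderOf_dvd_of_pow_eq_one h2)
    have := hp.out.two_le
    nlinarith
  refine ⟨h1, (hp.out.coprime_iff_not_dvd.2 fun hd => ?_).symm⟩
  obtain ⟨u, hu⟩ := exists_prime_orderOf_dvd_card' p hd
  have hup : (u : M) ^ p = 1 := by rw [← hu, ← coe_pow, pow_orderOf_eq_one, coe_one]
  have hu1 : (u : M) ≠ 1 := fun e => hp.out.one_lt.ne (by
    rw [← hu, show u = 1 from Subtype.ext e, orderOf_one])
  rcases subsingleton_or_nontrivial V with hV | hV
  · exact hu1 (hρ (Subsingleton.elim _ _))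
  have : CharP (Module.End (ZMod p) V) p :=
    charP_of_injective_algebraMap (algebraMap (ZMod p) (Module.End (ZMod p) V)).injective p
  obtain ⟨k, hk⟩ : ∃ k, (orderOf (t * t')).totient = k + 1 :=
    ⟨_, (Nat.succ_pred_eq_of_pos (Nat.totient_pos.2 hn0)).symm⟩
  have hY : ρ (t * t') ^ p ^ (k + 1) = ρ (t * t') := by
    rw [← map_pow, ← hk, pow_eq_pow_iff_modEq.2 (Nat.ModEq.pow_totient h1.symm), pow_one]
  have hτ : ρ t * ρ t = 1 := by rw [← map_mul, ht, map_one]
  have hst : ρ t * ρ (t * t') * ρ t ∈ Algebra.adjoin (ZMod p) {ρ (t * t')} := by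
    have : t * (t * t') * t = (t * t') ^ (orderOf (t * t') - 1) := by
      refine (hti ▸ hy :).trans (inv_eq_of_mul_eq_one_left ?_)
      rw [← pow_succ, Nat.sub_add_cancel hn0, pow_orderOf_eq_one]
    rw [← map_mul, ← map_mul, this, map_pow]
    exact Subalgebra.pow_mem _ (Algebra.self_mem_adjoin_singleton _ _) _
  let K : Subgroup M := subgroupOfFinite {w | ∃ f ∈ Algebra.adjoin (ZMod p) {ρ (t * t')},
      ∃ g ∈ Algebra.adjoin (ZMod p) {ρ (t * t')}, ρ w = f + g * ρ t}
    ⟨1, one_mem _, 0, zero_mem _, by simp⟩ (by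
      rintro w w' ⟨f, hf, g, hg, e⟩ ⟨f', hf', g', hg', e'⟩
      exact ⟨_, add_mem (mul_mem hf hf') (mul_mem hg (Tel2.star hτ hst hg')), _,
        add_mem (mul_mem hf hg') (mul_mem hg (Tel2.star hτ hst hf')), by
          rw [map_mul, e, e', Tel2.mul_form hτ]⟩)
  have hK : closure ({δ, δ'} : Set M) ≤ K := by
    refine (closure_le K).2 ?_
    rintro w (rfl | rfl)
    · exact ⟨α • 1, Subalgebra.smul_mem _ (one_mem _) _, β • 1,
        Subalgebra.smul_mem _ (one_mem _) _, by rw [hδ, smul_one_mul]⟩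
    · refine ⟨α • 1, Subalgebra.smul_mem _ (one_mem _) _, β • _, Subalgebra.smul_mem _ hst _, ?_⟩
      rw [hδ', smul_mul_assoc, ← map_mul, ← map_mul, ← map_mul, mul_assoc, ht, mul_one,
        ← mul_assoc, ht, one_mul]
  obtain ⟨f, hf, g, hg, e⟩ := hK u.2
  have e' : ρ u - 1 = (f - 1) + g * ρ t := by rw [e]; noncomm_ring
  refine hu1 (hq u 1 (by rwa [pow_one]) ?_)
  rw [e']
  refine Tel2.sq_zero hY hτ hst (sub_mem hf (one_mem _)) hg ?_
  rw [← e', sub_pow_char_of_commute p (Commute.one_right _), ← map_pow, hup, map_one, one_pow,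
    sub_self]
end Tel

end Cfsg.Lib.MCE
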