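import Cfsg.Agent.MCE.Defs
import Cfsg.Agent.Class.DicksonPGL
import Cfsg.Agent.Solv.HallHigmanCore

/-! Two torus elements generating a group of order prime to `p`: the step using Dickson's list. -/

set_option autoImplicit false

namespace Cfsg.Lib.MCE

open Cfsg Cfsg.FusionSystem Subgroup Cfsg.Lib.Solv Cfsg.Lib.Fus Cfsg.Lib.Fus.Ess Cfsg.Lib.Grz
open scoped commutatorElement

namespace Tel3

open Cfsg.Lib.Class Matrix
open Cfsg.Lib.Class.P1 (pt eq_inf_or_eq_pt pt_inj)
open scoped MatrixGroups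

variable {K : Type*} [Field K] {a α β w w' : K} {p : ℕ} [hp : Fact p.Prime]

theorem pw (h1 : α + β = 1) (h2 : α - β = a) (hw : w * w' = 1)
    (d : α * α - β * w' * (β * w) ≠ 0) (k : ℕ) : ∃ x y d', x + y = 1 ∧ x - y = a ^ k ∧
      mob α (β * w') (β * w) α d ^ k = mob x (y * w') (y * w) x d' := by
  induction k with
  | zero => exact ⟨1, 0, by simp, by simp, by simp, ((mob_eq_one_iff _).2 (by simp)).symm⟩
  | succ k ih =>
    obtain ⟨x, y, d', e1, e2, e⟩ := ih
    have e3 : x * α + y * w' * (β * w) = x * α + y * β := by linear_combination y * β * hw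
    have e4 : x * (β * w') + y * w' * α = (x * β + y * α) * w' := by ring
    have e5 : y * w * α + x * (β * w) = (x * β + y * α) * w := by ring
    have e6 : y * w * (β * w') + x * α = x * α + y * β := by linear_combination y * β * hw
    have := mob_mul_det_ne d' d
    rw [e3, e4, e5, e6] at this
    exact ⟨_, _, this, by linear_combination (α + β) * e1 + h1,
      by rw [pow_succ]; linear_combination (α - β) * e2 + a ^ k * h2,
      by rw [pow_succ, e, mob_mul]; exact mob_congr' _ _ e3 e4 e5 e6⟩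

theorem fix (h1 : α + β = 1) (h2 : α - β = a) (hw : w * w' = 1) (ha : a ^ 2 ≠ 1)
    {d : α * α - β * w' * (β * w) ≠ 0} {z : P1 K} (hz : mob α (β * w') (β * w) α d ^ 2 • z = z) :
    ∃ s, z = pt s ∧ w' = w * (s * s) := by
  obtain ⟨x, y, d', e1, e2, e⟩ := pw h1 h2 hw d 2
  have y0 : y ≠ 0 := fun h => ha (by linear_combination e1 - e2 - 2 * h)
  rw [e] at hz
  rcases eq_inf_or_eq_pt z with rfl | ⟨s, rfl⟩
  · exact absurd ((mob_smul_inf_eq_inf_iff _).1 hz) (mul_ne_zero y0 (left_ne_zero_of_mul_eq_one hw))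
  · exact ⟨s, rfl, mul_left_cancel₀ y0 (by linear_combination (mob_smul_pt_eq_pt_iff _ _ _).1 hz)⟩

theorem dick [IsAlgClosed K] [CharP K p] (h7 : 7 ≤ p) (h1 : α + β = 1) (h2 : α - β = a)
    (ha : orderOf a = p - 1) (hw : w * w' = 1) (H : Subgroup PGL(2, K)) [Finite H] {N : ℕ}
    (hN : N.Coprime p) (hH : ∀ h ∈ H, h ^ N = 1) {d : α * α - β * 1 * (β * 1) ≠ 0}
    {d' : α * α - β * w' * (β * w) ≠ 0} (hD : mob α (β * 1) (β * 1) α d ∈ H)
    (hD' : mob α (β * w') (β * w) α d' ∈ H) : w * w = 1 := by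
  let L : LineAction H (P1 K) K :=
    (pgl2LineAction K).comap H.subtype H.subtype_injective fun _ _ => rfl
  have hk : ∀ k, 0 < k → k < 6 → a ^ k ≠ 1 := fun k h0 h e => by
    have := Nat.le_of_dvd h0 (orderOf_dvd_of_pow_eq_one e)
    omega
  have hU : ∀ x, Nat.card (L.U x) = 1 := fun x => card_eq_one.2 (eq_bot_iff.2 fun h hh => by
    rcases L.mem_U_iff.1 hh with e | ⟨e, e'⟩
    · exact e
    exact Subtype.ext (orderOf_eq_one_iff.1 (Nat.eq_one_of_dvd_coprimes hN
      (orderOf_dvd_of_pow_eq_one (hH _ h.2))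
      (orderOf_dvd_of_pow_eq_one ((pgl2_pow_char_eq_one_iff p e).2 (.inr e'))))))
  have fx : ∀ z : P1 K, (∀ g : H, g ^ 2 • z = z) → w * w = 1 := fun z hz => by
    obtain ⟨s, rfl, e⟩ := fix h1 h2 (mul_one 1) (hk 2 two_pos (by omega)) (hz ⟨_, hD⟩)
    obtain ⟨s', e1, e'⟩ := fix h1 h2 hw (hk 2 two_pos (by omega)) (hz ⟨_, hD'⟩)
    rw [← pt_inj.1 e1] at e'
    linear_combination hw - w * e' + w * w * e
  have od : ∀ k, 0 < k → k < 6 → (⟨_, hD⟩ : H) ^ k ≠ 1 := fun k h0 h e => by
    obtain ⟨x, y, d', e1, e2, e3⟩ := pw h1 h2 (mul_one 1) d k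
    have := ((mob_eq_one_iff _).1 (e3.symm.trans (congrArg Subtype.val e))).1
    exact hk k h0 h (by linear_combination e1 - e2 - 2 * this)
  rcases L.classification with ⟨x, hx⟩ | ⟨x, y, -, hx⟩ | ⟨-, ⟨-, h⟩ | ⟨-, h⟩ | ⟨-, h⟩⟩ |
    ⟨-, ⟨x, hx⟩, -⟩ | ⟨x, hx, -⟩
  · exact fx x fun g => hx _
  · refine fx x fun g => ?_
    rcases hx g with ⟨e, -⟩ | ⟨e, e'⟩ <;> simp only [sq, mul_smul, *]
  · rcases h ⟨_, hD⟩ with e | e <;> exact absurd e (od _ (by omega) (by omega))
  · rcases h ⟨_, hD⟩ with e | e <;> exact absurd e (od _ (by omega) (by omega))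
  · rcases h ⟨_, hD⟩ with e | e | e <;> exact absurd e (od _ (by omega) (by omega))
  · exact absurd ((hU x).symm.trans hx) (by decide)
  · exact absurd (hx.trans_eq (hU x)) (by decide)

variable {W M : Type*} [AddCommGroup W] [Module K W] [Group M] {δ δ' t t' : M}

/-- The pairs of an element of `M` and its matrix on the image of `j`. -/
def pr (σ : M →* Module.End K W) (j : (Fin 2 → K) →ₗ[K] W) : Subgroup (M × GL (Fin 2) K) where
  carrier := {x | ∀ c, j (x.2.1 *ᵥ c) = σ x.1 (j c)}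
  one_mem' := fun c => by simp
  mul_mem' := fun {x y} hx hy c => by
    rw [Prod.snd_mul, Units.val_mul, ← mulVec_mulVec, hx, hy, Prod.fst_mul, map_mul,
      Module.End.mul_apply]
  inv_mem' := fun {x} hx c => by
    have := congrArg (σ x.1⁻¹) (hx (x.2⁻¹.1 *ᵥ c))
    rwa [mulVec_mulVec, Units.mul_inv, one_mulVec, ← Module.End.mul_apply, ← map_mul,
      inv_mul_cancel, map_one, Module.End.one_apply, eq_comm] at this

theorem pr_eq_1' : type_of% @pr.eq_1 := @pr.eq_1

theorem core [IsAlgClosed K] [CharP K p] [FiniteDimensional K W] [Finite M]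
    {σ : M →* Module.End K W} (h7 : 7 ≤ p) (hσ : ∀ g, σ g = 1 → g = 1) (ht : t * t = 1)
    (ht' : t' * t' = 1) (hδ : σ δ = α • 1 + β • σ t) (hδ' : σ δ' = α • 1 + β • σ t')
    (h1 : α + β = 1) (h2 : α - β = a) (ha : orderOf a = p - 1)
    (hy : (orderOf (t * t')).Coprime p) (hD : (Nat.card (closure ({δ, δ'} : Set M))).Coprime p) :
    t * t' = t' * t := by
  have ss := (Module.End.isSemisimple_of_squarefree_aeval_eq_zero (f := σ (t * t'))
    (Polynomial.X_pow_sub_one_separable_iff.2 (mt (CharP.cast_eq_zero_iff K p _).1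
      (hp.out.coprime_iff_not_dvd.1 hy.symm))).squarefree
    (by rw [map_sub, Polynomial.aeval_X_pow, ← map_pow, pow_orderOf_eq_one, map_one, map_one,
      sub_self])).iSup_eigenspace_eq_top
  suffices h : ∀ w, (σ (t * t')).eigenspace w ≤ LinearMap.eqLocus (σ (t * t' * (t * t'))) 1 by
    rw [← inv_eq_of_mul_eq_one_right (hσ _ (LinearMap.ext fun v =>
      (ss.ge.trans (iSup_le h)) (Submodule.mem_top (x := v)))), _root_.mul_inv_rev,
      inv_eq_of_mul_eq_one_right ht, inv_eq_of_mul_eq_one_right ht']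
  intro w v hv
  rw [Module.End.mem_eigenspace_iff] at hv
  have ap : ∀ g k u, σ (g * k) u = σ g (σ k u) := fun g k u => by rw [map_mul, Module.End.mul_apply]
  rw [LinearMap.mem_eqLocus, ap, hv, map_smul, hv, smul_smul]
  by_cases v0 : v = 0
  · simp [v0]
  suffices h : w * w = 1 by simp [h]
  by_contra n
  have e1 : σ t (σ t v) = v := by rw [← ap, ht, map_one, Module.End.one_apply]
  have e2 : σ t' v = w • σ t v := by rw [← map_smul, ← hv, ← ap, ← mul_assoc, ht, one_mul]
  have e3 : w • σ t' (σ t v) = v := by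
    rw [← map_smul, ← e2, ← ap, ht', map_one, Module.End.one_apply]
  have w0 : w ≠ 0 := fun e => v0 (by rw [← e3, e, zero_smul])
  have e4 : σ t' (σ t v) = w⁻¹ • v := (eq_inv_smul_iff₀ w0).2 e3
  have li : LinearIndependent K ![v, σ t v] := LinearIndependent.pair_iff.2 fun x y e => by
    have e5 := congrArg (fun u => σ t (σ t' u)) e
    simp only [map_add, map_smul, e1, e2, e4, map_zero] at e5
    have e6 : (x * (w * w - 1)) • v = 0 := by
      have : (w * w⁻¹) • y • σ t v = y • σ t v := by rw [mul_inv_cancel₀ w0, one_smul]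
      linear_combination (norm := module) w • e5 - e - this
    obtain rfl := (mul_eq_zero.1 ((smul_eq_zero.1 e6).resolve_right v0)).resolve_right
      (sub_ne_zero.2 n)
    rw [zero_smul, zero_add, smul_eq_zero] at e
    exact ⟨rfl, e.resolve_right fun e => v0 (by rw [← e1, e, map_zero])⟩
  have a0 : a ≠ 0 := fun e => by
    rw [e, orderOf_zero] at ha
    omega
  have hw := mul_inv_cancel₀ w0
  let Q := pr σ (Fintype.linearCombination K ![v, σ t v]) ⊓
    (closure {δ, δ'}).comap (MonoidHom.fst _ _)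
  have one : ∀ x ∈ Q, x.1 = 1 → x.2 = 1 := fun x hx e => Units.ext (toLin'.injective
    (LinearMap.ext fun c => li.fintypeLinearCombination_injective (by
      rw [toLin'_apply, (mem_inf.1 hx).1 c, e]; simp)))
  have : Finite Q := .of_injective _ ((injective_iff_map_eq_one
    ((MonoidHom.fst _ _).comp Q.subtype)).2 fun x e => Subtype.ext (Prod.ext e (one x.1 x.2 e)))
  have : Finite (Q.map (ProjGenLinGroup.mk.comp (MonoidHom.snd _ _))) :=
    .of_surjective _ (MonoidHom.subgroupMap_surjective _ Q)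
  have d : α * α - β * 1 * (β * 1) ≠ 0 := fun e => a0 (by linear_combination e - h2 - (α - β) * h1)
  have d' : α * α - β * w⁻¹ * (β * w) ≠ 0 := fun e => d (by linear_combination e + β * β * hw)
  refine n (dick h7 h1 h2 ha hw (Q.map (ProjGenLinGroup.mk.comp (MonoidHom.snd _ _))) hD ?_
    (d := d) (d' := d')
    ⟨(δ, gl2 _ _ _ _ d), mem_inf.2 ⟨fun c => ?_, subset_closure (.inl rfl)⟩, rfl⟩
    ⟨(δ', gl2 _ _ _ _ d'), mem_inf.2 ⟨fun c => ?_, subset_closure (.inr rfl)⟩, rfl⟩)
  · rintro _ ⟨x, hx, rfl⟩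
    rw [← map_pow, MonoidHom.comp_apply, MonoidHom.coe_snd, one _ (pow_mem hx _)
      (congrArg Subtype.val (pow_card_eq_one' (G := Subgroup.closure {δ, δ'})
        (x := ⟨_, (mem_inf.1 hx).2⟩))), map_one]
  · simp [hδ, Fintype.linearCombination_apply, mulVec, dotProduct, e1]
    module
  · simp [hδ', Fintype.linearCombination_apply, mulVec, dotProduct, e2, e4]
    module

end Tel3

variable {p : ℕ} [hp : Fact p.Prime] {V : Type*} [AddCommGroup V] [Module (ZMod p) V] [Finite V]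
  {M : Type*} [Group M] [Finite M] {ρ : M →* Module.End (ZMod p) V} {δ δ' t t' : M}
  {a α β : ZMod p}

theorem tel_comm (h7 : 7 ≤ p) (hρ : Function.Injective ρ) (ht : t * t = 1) (ht' : t' * t' = 1)
    (hδ : ρ δ = α • 1 + β • ρ t) (hδ' : ρ δ' = α • 1 + β • ρ t') (h1 : α + β = 1)
    (h2 : α - β = a) (ha : orderOf a = p - 1) (hy : (orderOf (t * t')).Coprime p)
    (hD : (Nat.card (closure ({δ, δ'} : Set M))).Coprime p) : t * t' = t' * t := by
  have : Module.Finite (ZMod p) V := .of_finite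
  let i := algebraMap (ZMod p) (AlgebraicClosure (ZMod p))
  have k : ∀ {δ t}, ρ δ = α • 1 + β • ρ t →
      HH.baseChangeRep ρ δ = i α • 1 + i β • HH.baseChangeRep ρ t := fun e => by
    rw [HH.baseChangeRep_apply, e, map_add, map_smul, map_smul, map_one, algebraMap_smul,
      algebraMap_smul, HH.baseChangeRep_apply]
  exact Tel3.core (a := i a) h7 (fun g e => (map_eq_one_iff _ hρ).1
    ((HH.baseChangeRep_eq_one_iff ρ g).1 e)) ht ht' (k hδ) (k hδ') (by rw [← map_add, h1, map_one])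
    (by rw [← map_sub, h2]) ((orderOf_injective i.toMonoidHom i.injective a).trans ha) hy hD

end Cfsg.Lib.MCE
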