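import Cfsg.Agent.MCE.Tel1
import Cfsg.Agent.MCE.Tel2
import Cfsg.Agent.MCE.Tel3

/-! The normal closure of the torus element has order prime to `p`. -/

set_option autoImplicit false
set_option maxHeartbeats 400000

namespace Cfsg.Lib.MCE

open Cfsg Cfsg.FusionSystem Subgroup Cfsg.Lib.Solv Cfsg.Lib.Fus Cfsg.Lib.Fus.Ess Cfsg.Lib.Grz
open Cfsg.Lib.MCN (Flag Ex Rs Kb SLb)
open scoped commutatorElement

section Tel
variable {p : ℕ} [hp : Fact p.Prime] {V : Type*} [AddCommGroup V] [Module (ZMod p) V] [Finite V]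
  {M : Type*} [Group M] [Finite M] {ρ : M →* Module.End (ZMod p) V} {x δ δ' t t' : M}
  {F : ℕ → Submodule (ZMod p) V} {d : ℕ} {a α β : ZMod p}

theorem tel (h7 : 7 ≤ p) (hρ : Function.Injective ρ) (hF : Flag F d) (hd : 3 ≤ d)
    (hx : Ex F (ρ x - 1) 1) (hxp : x ^ p = 1) (hs : SylIn p (zpowers x) ⊤)
    (ha : orderOf a = p - 1) (hδ : (ρ δ - 1) * (ρ δ - a • 1) = 0) :
    ∃ N : Subgroup M, N.Normal ∧ δ ∈ N ∧ ∀ n ∈ N, ∀ k : ℕ, n ^ p ^ k = 1 → n = 1 := by
  obtain ⟨hq, t, α, β, ht, h1, h2, h3, hi⟩ := tel_inv (by omega) hρ hF hd hx hxp hs ha hδ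
  have hc : ∀ g : M, Commute δ (g * δ * g⁻¹) := by
    intro g
    have ht' : g * t * g⁻¹ * (g * t * g⁻¹) = 1 := by rw [conj_mul, ht, mul_one, mul_inv_cancel]
    have h4 : ρ (g * δ * g⁻¹) = α • 1 + β • ρ (g * t * g⁻¹) := by
      rw [map_mul, map_mul, h3, map_mul, map_mul, mul_add, add_mul, mul_smul_comm, mul_one,
        smul_mul_assoc, ← map_mul, mul_inv_cancel, map_one, mul_smul_comm, smul_mul_assoc]
    obtain ⟨h5, h6⟩ := tel_pp hρ ht ht' h3 h4 hq hi
    have h8 : Commute (ρ t) (ρ (g * t * g⁻¹)) :=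
      Commute.map (tel_comm h7 hρ ht ht' h3 h4 h1 h2 ha h5 h6) ρ
    refine hρ ?_
    rw [map_mul ρ δ, map_mul ρ _ δ, h4, h3]
    exact (((Commute.one_left _).smul_left α).add_left
      ((((Commute.one_right _).smul_right α).add_right (h8.smul_right β)).smul_left β)).eq
  have hm : ∀ u ∈ Group.conjugatesOfSet ({δ} : Set M), ∃ g, g * δ * g⁻¹ = u := by
    intro u hu
    obtain ⟨w, hw, hu'⟩ := Group.mem_conjugatesOfSet_iff.1 hu
    rw [Set.mem_singleton_iff.1 hw] at hu'
    exact _root_.isConj_iff.1 hu'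
  have hc' : ∀ u ∈ Group.conjugatesOfSet ({δ} : Set M), ∀ v ∈ Group.conjugatesOfSet ({δ} : Set M),
      Commute u v := by
    intro u hu v hv
    obtain ⟨g, rfl⟩ := hm u hu
    obtain ⟨g', rfl⟩ := hm v hv
    have := (hc (g⁻¹ * g')).map (MulAut.conj g)
    simpa [mul_assoc] using this
  have he := (tel_pp hρ ht ht h3 h3 hq hi).2
  have hδe : δ ^ Nat.card (closure ({δ, δ} : Set M)) = 1 :=
    orderOf_dvd_iff_pow_eq_one.1 (orderOf_dvd_natCard _ (subset_closure (by simp)))
  generalize Nat.card (closure ({δ, δ} : Set M)) = e at he hδe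
  refine ⟨normalClosure {δ}, inferInstance, subset_normalClosure rfl, fun n hn k hk => ?_⟩
  have key : n ^ e = 1 ∧ ∀ v ∈ Group.conjugatesOfSet ({δ} : Set M), Commute n v := by
    clear hk
    induction hn using closure_induction with
    | mem u hu =>
      refine ⟨?_, hc' u hu⟩
      obtain ⟨g, rfl⟩ := hm u hu
      rw [conj_pow, hδe, mul_one, mul_inv_cancel]
    | one => exact ⟨one_pow _, fun v _ => Commute.one_left v⟩
    | mul u w _ hw h4 h5 =>
      have : Commute u w := by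
        clear h5
        induction hw using closure_induction with
        | mem v hv => exact h4.2 v hv
        | one => exact Commute.one_right u
        | mul _ _ _ _ h6 h8 => exact h6.mul_right h8
        | inv _ _ h6 => exact h6.inv_right
      exact ⟨by rw [this.mul_pow, h4.1, h5.1, one_mul], fun v hv => (h4.2 v hv).mul_left (h5.2 v hv)⟩
    | inv u _ h4 => exact ⟨by rw [inv_pow, h4.1, inv_one], fun v hv => (h4.2 v hv).inv_left⟩
  exact orderOf_eq_one_iff.1 (Nat.eq_one_of_dvd_coprimes (he.pow_right k)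
    (orderOf_dvd_of_pow_eq_one key.1) (orderOf_dvd_of_pow_eq_one hk))
end Tel

end Cfsg.Lib.MCE
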